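import Mathlib
import Cfsg.Agent.Lib.helper44.SL3Defs
import Cfsg.Agent.Lib.helper53.SL3SPAN

/-!
# S2287, piece C2: the relation `[Z(t), W(u)] = x(tu)`
-/

set_option autoImplicit false

namespace Cfsg.Agent.Lib.helper44.SL3

theorem helper84_cm_mul_left {G : Type*} [Group G] (a a' b : G) :
    cm (a * a') b = a * cm a' b * a⁻¹ * cm a b := by
  unfold cm
  group

theorem helper84_cm_mul_right {G : Type*} [Group G] (a b b' : G) :
    cm a (b * b') = cm a b * (b * cm a b' * b⁻¹) := by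
  unfold cm
  group

theorem helper84_cm_conj {G : Type*} [Group G] (k a b : G) :
    k * cm a b * k⁻¹ = cm (k * a * k⁻¹) (k * b * k⁻¹) := by
  unfold cm
  group

theorem helper84_map_zero {G : Type*} [Group G] {F : Type*} [Field F] (x : F → G)
    (x_add : ∀ a b, x (a + b) = x a * x b) : x 0 = 1 := by
  have h := x_add 0 0
  rw [add_zero] at h
  exact (mul_eq_left.mp h.symm)

theorem helper84_pow_conj {G : Type*} [Group G] {F : Type*} [Field F] (x : F → G) (g : G)
    (c : F) (hg : ∀ a, g * x a * g⁻¹ = x (c * a)) (n : ℕ) (a : F) :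
    g ^ n * x a * (g ^ n)⁻¹ = x (c ^ n * a) := by
  induction n generalizing a with
  | zero => simp
  | succ n ih =>
    have h1 : g ^ (n + 1) * x a * (g ^ (n + 1))⁻¹ = g * (g ^ n * x a * (g ^ n)⁻¹) * g⁻¹ := by
      rw [pow_succ']
      group
    rw [h1, ih, hg, pow_succ', mul_assoc]

-- C2
theorem core2 {G : Type*} [Group G] {F : Type*} [Field F] [Fintype F] {p : ℕ} [Fact p.Prime]
    [Algebra (ZMod p) F] (x Z W : F → G) (g e : G) (κ β γ : F)
    (x_add : ∀ a b, x (a + b) = x a * x b) (Z_add : ∀ a b, Z (a + b) = Z a * Z b)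
    (W_add : ∀ a b, W (a + b) = W a * W b)
    (xZ : ∀ a b, Commute (x a) (Z b)) (xW : ∀ a b, Commute (x a) (W b))
    (h11 : cm (Z 1) (W 1) = x 1)
    (g_Z : ∀ t, g * Z t * g⁻¹ = Z (κ * t)) (g_W : ∀ t, g * W t * g⁻¹ = W t)
    (g_x : ∀ a, g * x a * g⁻¹ = x (κ * a))
    (e_Z : ∀ t, e * Z t * e⁻¹ = Z (γ * t)) (e_W : ∀ t, e * W t * e⁻¹ = W (β * t))
    (e_x : ∀ a, e * x a * e⁻¹ = x (γ * β * a))
    (hκ : Algebra.adjoin (ZMod p) {κ} = ⊤) (hβ : Algebra.adjoin (ZMod p) {β} = ⊤)
    (hγ0 : γ ≠ 0) :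
    ∀ t u, cm (Z t) (W u) = x (t * u) := by
  have x0 := helper84_map_zero x x_add
  have Z0 := helper84_map_zero Z Z_add
  have W0 := helper84_map_zero W W_add
  -- the base points
  have hbase : ∀ m n : ℕ, cm (Z (γ ^ m * κ ^ n)) (W (β ^ m)) = x (γ ^ m * κ ^ n * β ^ m) := by
    intro m n
    have h1 : e ^ m * cm (Z 1) (W 1) * (e ^ m)⁻¹ = e ^ m * x 1 * (e ^ m)⁻¹ := by rw [h11]
    rw [helper84_cm_conj, helper84_pow_conj Z e γ e_Z, helper84_pow_conj W e β e_W,
      helper84_pow_conj x e (γ * β) e_x, mul_one, mul_one, mul_one] at h1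
    have h2 : g ^ n * cm (Z (γ ^ m)) (W (β ^ m)) * (g ^ n)⁻¹ =
        g ^ n * x ((γ * β) ^ m) * (g ^ n)⁻¹ := by rw [h1]
    rw [helper84_cm_conj, helper84_pow_conj Z g κ g_Z, helper84_pow_conj x g κ g_x] at h2
    have hW : g ^ n * W (β ^ m) * (g ^ n)⁻¹ = W (β ^ m) := by
      have := helper84_pow_conj W g 1 (fun t => by rw [one_mul]; exact g_W t) n (β ^ m)
      rw [one_pow, one_mul] at this
      exact this
    rw [hW] at h2
    rw [show γ ^ m * κ ^ n = κ ^ n * γ ^ m by ring, h2]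
    congr 1
    ring
  -- additivity in `t`
  have haddt : ∀ u t t', cm (Z t) (W u) = x (t * u) → cm (Z t') (W u) = x (t' * u) →
      cm (Z (t + t')) (W u) = x ((t + t') * u) := by
    intro u t t' h1 h2
    rw [Z_add, helper84_cm_mul_left, h1, h2, add_mul, x_add]
    have hc : Z t * x (t' * u) * (Z t)⁻¹ = x (t' * u) := by
      rw [(xZ (t' * u) t).symm.eq]
      group
    rw [hc, ← x_add, ← x_add, add_comm]
  -- additivity in `u`
  have haddu : ∀ t u u', cm (Z t) (W u) = x (t * u) → cm (Z t) (W u') = x (t * u') →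
      cm (Z t) (W (u + u')) = x (t * (u + u')) := by
    intro t u u' h1 h2
    rw [W_add, helper84_cm_mul_right, h1, h2, mul_add, x_add]
    have hc : W u * x (t * u') * (W u)⁻¹ = x (t * u') := by
      rw [(xW (t * u') u).symm.eq]
      group
    rw [hc]
  -- fix `u = β ^ m`: all `t`
  have hstep1 : ∀ (m : ℕ) (t : F), cm (Z t) (W (β ^ m)) = x (t * β ^ m) := by
    intro m t
    have hS := span_mul κ (γ ^ m) hκ {t | cm (Z t) (W (β ^ m)) = x (t * β ^ m)}
      (by
        show cm (Z 0) (W (β ^ m)) = x (0 * β ^ m)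
        rw [Z0, zero_mul, x0]
        unfold cm
        group)
      (fun a b ha hb => haddt _ a b ha hb)
      (fun n => hbase m n)
    have hγm : γ ^ m ≠ 0 := pow_ne_zero _ hγ0
    have := hS ((γ ^ m)⁻¹ * t)
    rw [← mul_assoc, mul_inv_cancel₀ hγm, one_mul] at this
    exact this
  -- fix `t`: all `u`
  intro t u
  have hS := span_mul β 1 hβ {u | cm (Z t) (W u) = x (t * u)}
    (by
      show cm (Z t) (W 0) = x (t * 0)
      rw [W0, mul_zero, x0]
      unfold cm
      group)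
    (fun a b ha hb => haddu t a b ha hb)
    (fun n => by
      show cm (Z t) (W (1 * β ^ n)) = x (t * (1 * β ^ n))
      rw [one_mul]
      exact hstep1 n t)
  have := hS u
  rw [one_mul] at this
  exact this

end Cfsg.Agent.Lib.helper44.SL3
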