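import Mathlib
import Cfsg.Prelude.Def_Blocks
import Cfsg.Prelude.Def_Characters

/-!
# Shared definitions for the defect-one principal block project (S4441 / S0960)

Abstract part: for an integral representation `ρ` of a finite group `G` on a lattice `L` and a
Sylow `p`-subgroup `P` of order `p` with centralizer `C = P × K`: the fixed points of `C`, the
fixed points of the `p`-regular elements of `C` (that is, of `K`), the trace map of `P`, and
the augmentation submodule of the `K`-fixed points.

Concrete part: for a finite set `S` of irreducible characters that is stable under the field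
automorphisms of `ℂ`, the integral element `d1E S = Σ_g (Σ_{χ∈S} χ(1) χ(g⁻¹)) g` of the integral
group ring, the lattice `d1L S = {a : a * d1E S = |G| a}` and the left regular action on it.
-/

set_option autoImplicit false

namespace Cfsg.Agent.Lib.helper84

section abstractPart

variable {G : Type*} [Group G] {L : Type*} [AddCommGroup L]

/-- The vectors fixed by every element of the subgroup `H`. -/
def d1Fix (ρ : Representation ℤ G L) (H : Subgroup G) : Submodule ℤ L where
  carrier := {v | ∀ g ∈ H, ρ g v = v}
  add_mem' := by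
    intro a b ha hb g hg
    rw [map_add, ha g hg, hb g hg]
  zero_mem' := by
    intro g _
    rw [map_zero]
  smul_mem' := by
    intro c v hv g hg
    rw [map_smul, hv g hg]

/-- The vectors fixed by every element of the centralizer of `P`. -/
def d1FixC (ρ : Representation ℤ G L) (P : Subgroup G) : Submodule ℤ L where
  carrier := {v | ∀ g ∈ Subgroup.centralizer (P : Set G), ρ g v = v}
  add_mem' := by
    intro a b ha hb g hg
    rw [map_add, ha g hg, hb g hg]
  zero_mem' := by
    intro g _
    rw [map_zero]
  smul_mem' := by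
    intro c v hv g hg
    rw [map_smul, hv g hg]

/-- The vectors fixed by every `p`-regular element of the centralizer of `P`. -/
def d1FixK (p : ℕ) (ρ : Representation ℤ G L) (P : Subgroup G) : Submodule ℤ L where
  carrier := {v | ∀ g ∈ Subgroup.centralizer (P : Set G), ¬ p ∣ orderOf g → ρ g v = v}
  add_mem' := by
    intro a b ha hb g hg hp
    rw [map_add, ha g hg hp, hb g hg hp]
  zero_mem' := by
    intro g _ _
    rw [map_zero]
  smul_mem' := by
    intro c v hv g hg hp
    rw [map_smul, hv g hg hp]

/-- The trace map `v ↦ Σ_{y ∈ P} ρ y v`. -/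
noncomputable def d1Tr [Fintype G] (ρ : Representation ℤ G L) (P : Subgroup G) : L →ₗ[ℤ] L :=
  ∑ y : G, Set.indicator (P : Set G) (fun y => ρ y) y

/-- The augmentation submodule: the span of all `ρ y u - u` with `y ∈ P` and `u` fixed by the
`p`-regular elements of the centralizer of `P`. -/
def d1Aug (p : ℕ) (ρ : Representation ℤ G L) (P : Subgroup G) : Submodule ℤ L :=
  Submodule.span ℤ {w | ∃ y ∈ P, ∃ u ∈ d1FixK p ρ P, w = ρ y u - u}

end abstractPart

section concretePart

variable {G : Type*} [Group G] [Fintype G]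

/-- A finite set of irreducible characters that is stable under all field automorphisms
of `ℂ`. -/
def d1GalStable (S : Finset (Cfsg.IrrCharacter G)) : Prop :=
  ∀ (σ : ℂ ≃+* ℂ) (χ ψ : Cfsg.IrrCharacter G), χ ∈ S →
    (ψ : G → ℂ) = (fun g => σ ((χ : G → ℂ) g)) → ψ ∈ S

/-- The Gaussian period `Σ_{h ∈ H} ζ^{a h u}` with `ζ = exp(2πi/p)`. -/
noncomputable def d1Per (p : ℕ) [NeZero p] (H : Subgroup (ZMod p)ˣ) (a : (ZMod p)ˣ) (u : ℕ) : ℂ :=
  ∑ h : (ZMod p)ˣ, Set.indicator (H : Set (ZMod p)ˣ)
    (fun h => Complex.exp (2 * Real.pi * Complex.I *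
      (((((a * h : (ZMod p)ˣ) : ZMod p).val * u : ℕ) : ℂ)) / (p : ℂ))) h

/-- The class sum of `g` in the integral group ring. -/
noncomputable def d1ClassSum (g : G) : MonoidAlgebra ℤ G :=
  ∑ h : G, Set.indicator {h : G | IsConj g h} (fun h => MonoidAlgebra.of ℤ G h) h

/-- The coefficientwise embedding of the integral group ring into the complex group algebra. -/
noncomputable def d1Iota : MonoidAlgebra ℤ G →+* MonoidAlgebra ℂ G :=
  MonoidAlgebra.mapRingHom G (Int.castRingHom ℂ)

/-- `Σ_{χ∈S} χ(1) χ(g⁻¹)`, rounded to an integer (it is an integer when `S` is stable under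
the field automorphisms of `ℂ`). -/
noncomputable def d1Eps (S : Finset (Cfsg.IrrCharacter G)) (g : G) : ℤ :=
  ⌊(∑ χ ∈ S, (χ : G → ℂ) 1 * (χ : G → ℂ) g⁻¹).re⌋

/-- The element `Σ_g d1Eps S g • g` of the integral group ring (`|G|` times the central
idempotent of `S`). -/
noncomputable def d1E (S : Finset (Cfsg.IrrCharacter G)) : MonoidAlgebra ℤ G :=
  ∑ g : G, MonoidAlgebra.single g (d1Eps S g)

/-- The lattice `{a ∈ ℤG : a * d1E S = |G| • a}`. -/
noncomputable def d1L (S : Finset (Cfsg.IrrCharacter G)) : Submodule ℤ (MonoidAlgebra ℤ G) :=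
  LinearMap.ker (LinearMap.mulRight ℤ (d1E S) - (Fintype.card G : ℤ) • LinearMap.id)

theorem mem_d1L (S : Finset (Cfsg.IrrCharacter G)) (a : MonoidAlgebra ℤ G) :
    a ∈ d1L S ↔ a * d1E S = (Fintype.card G : ℤ) • a := by
  unfold d1L
  rw [LinearMap.mem_ker, LinearMap.sub_apply, LinearMap.smul_apply, LinearMap.id_apply,
    LinearMap.mulRight_apply, sub_eq_zero]

theorem of_mul_mem_d1L (S : Finset (Cfsg.IrrCharacter G)) (g : G) (a : MonoidAlgebra ℤ G)
    (ha : a ∈ d1L S) : MonoidAlgebra.of ℤ G g * a ∈ d1L S := by
  rw [mem_d1L] at ha ⊢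
  rw [mul_assoc, ha, mul_smul_comm]

/-- The left regular action of `G` on the lattice `d1L S`. -/
noncomputable def d1Rho (S : Finset (Cfsg.IrrCharacter G)) : Representation ℤ G (d1L S) where
  toFun g := (LinearMap.mulLeft ℤ (MonoidAlgebra.of ℤ G g)).restrict
    (fun a ha => of_mul_mem_d1L S g a ha)
  map_one' := by
    ext a
    simp
  map_mul' := by
    intro g h
    ext a
    simp [mul_assoc]

theorem d1Rho_apply (S : Finset (Cfsg.IrrCharacter G)) (g : G) (a : d1L S) :
    ((d1Rho S g a : d1L S) : MonoidAlgebra ℤ G) = MonoidAlgebra.of ℤ G g * (a : MonoidAlgebra ℤ G) :=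
  rfl

end concretePart

end Cfsg.Agent.Lib.helper84
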