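import Mathlib
import Cfsg.Prelude.Def_Characters
import Cfsg.Prelude.Def_Blocks
import Cfsg.Agent.Lib.helper81.Blocks

/-!
# S0996 (Brauer, self-centralizing element of prime order, few Sylow subgroups): shared vocabulary

`Ctx G p P e n` : the group-theoretic situation (`P` a Sylow `p`-subgroup of order `p` with
`C_G(P) = P`, `|N_G(P)| = e p`, `|Syl_p(G)| = 1 + n p`, `n ≤ (p+1)/2`, `p` odd, `e ≥ 2`).

`Data G p P e` : the character-theoretic data of the principal block (normalised so that the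
trivial character lies in `X`): the `e` non-exceptional characters `X` with signs `δ`, the
`t = (p-1)/e` exceptional characters `Y` with sign `ε`.

`psum P f` : the sum of `f` over the non-identity elements of `P`.
`piChar P` : the permutation character on the Sylow `p`-subgroups (`1_N^G`).
-/

set_option autoImplicit false

namespace Cfsg.Agent.Lib.helper84.Br

open Cfsg Cfsg.Agent.Lib.helper81

universe u

variable {G : Type u} [Group G]

/-- The group-theoretic context of S0996. -/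
structure Ctx (G : Type u) [Group G] (p : ℕ) [Fact p.Prime] (P : Sylow p G) (e n : ℕ) : Prop where
  hP : Nat.card P = p
  hC : Subgroup.centralizer ((P : Subgroup G) : Set G) = (P : Subgroup G)
  he : Nat.card (Subgroup.normalizer ((P : Subgroup G) : Set G)) = e * p
  hn : Nat.card (Sylow p G) = 1 + n * p
  hp2 : p ≠ 2
  he2 : 2 ≤ e
  hep : e ∣ p - 1
  hn1 : 1 ≤ n
  hn2 : 2 * n ≤ p + 1

/-- The normalised principal-block data. -/
structure Data (G : Type u) [Group G] (p : ℕ) [Fact p.Prime] (P : Sylow p G) (e : ℕ) where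
  X : Finset (IrrCharacter G)
  Y : Finset (IrrCharacter G)
  δ : IrrCharacter G → ℤ
  ε : ℤ
  disj : Disjoint X Y
  cardX : X.card = e
  cardY : Y.card * e = p - 1
  one_mem : trivChar G ∈ X
  δ_sq : ∀ χ ∈ X, δ χ = 1 ∨ δ χ = -1
  deg_X : ∀ χ ∈ X, (charDegree (χ : G → ℂ) : ℤ) ≡ δ χ [ZMOD p]
  val_X : ∀ χ ∈ X, ∀ x : G, x ∈ (P : Subgroup G) → x ≠ 1 → (χ : G → ℂ) x = (δ χ : ℂ)
  ε_sq : ε = 1 ∨ ε = -1
  deg_Y : ∀ θ ∈ Y, (charDegree (θ : G → ℂ) : ℤ) ≡ ε * (e : ℤ) [ZMOD p]
  agree : ∀ θ ∈ Y, ∀ θ' ∈ Y, ∀ g : G, ¬ p ∣ orderOf g → (θ : G → ℂ) g = (θ' : G → ℂ) g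
  rel : ∀ θ ∈ Y, ∀ g : G, ¬ p ∣ orderOf g →
    (ε : ℂ) * (θ : G → ℂ) g = ∑ χ ∈ X, (δ χ : ℂ) * (χ : G → ℂ) g
  vanish : ∀ ψ : IrrCharacter G, ψ ∉ X → ψ ∉ Y → ∀ x : G, x ∈ (P : Subgroup G) → x ≠ 1 →
    (ψ : G → ℂ) x = 0

open Classical in
/-- The sum of `f` over the non-identity elements of the subgroup `P`. -/
noncomputable def psum [Fintype G] (P : Subgroup G) (f : G → ℂ) : ℂ :=
  ∑ g : G, if g ∈ P ∧ g ≠ 1 then f g else 0

/-- The permutation character of `G` on its Sylow `p`-subgroups: `1_N^G`, `N = N_G(P)`. -/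
noncomputable def piChar [Fintype G] {p : ℕ} [Fact p.Prime] (P : Sylow p G) : G → ℂ :=
  indFun (Subgroup.normalizer ((P : Subgroup G) : Set G)) (fun _ => 1)

variable {p : ℕ} [Fact p.Prime] {P : Sylow p G} {e : ℕ}

open Classical in
/-- The non-trivial characters of `X` of sign `+1`. -/
noncomputable def Data.A (D : Data G p P e) : Finset (IrrCharacter G) :=
  D.X.filter (fun χ => χ ≠ trivChar G ∧ D.δ χ = 1)

open Classical in
/-- The characters of `X` of sign `-1`. -/
noncomputable def Data.B (D : Data G p P e) : Finset (IrrCharacter G) :=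
  D.X.filter (fun χ => D.δ χ = -1)

open Classical in
/-- The characters outside the principal block. -/
noncomputable def Data.Dset (D : Data G p P e) [Fintype (IrrCharacter G)] :
    Finset (IrrCharacter G) :=
  Finset.univ.filter (fun ψ => ψ ∉ D.X ∧ ψ ∉ D.Y)

theorem Data.mem_A (D : Data G p P e) (χ : IrrCharacter G) :
    χ ∈ D.A ↔ χ ∈ D.X ∧ χ ≠ trivChar G ∧ D.δ χ = 1 := by
  simp [Data.A]

theorem Data.mem_B (D : Data G p P e) (χ : IrrCharacter G) :
    χ ∈ D.B ↔ χ ∈ D.X ∧ D.δ χ = -1 := by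
  simp [Data.B]

theorem Data.mem_Dset (D : Data G p P e) [Fintype (IrrCharacter G)] (ψ : IrrCharacter G) :
    ψ ∈ D.Dset ↔ ψ ∉ D.X ∧ ψ ∉ D.Y := by
  simp [Data.Dset]

/-- The sign of the trivial character is `+1` (needs a non-identity element of `P`). -/
theorem Data.δ_triv (D : Data G p P e) (x : G) (hx : x ∈ (P : Subgroup G)) (hx1 : x ≠ 1) :
    D.δ (trivChar G) = 1 := by
  have h := D.val_X _ D.one_mem x hx hx1
  simp only [trivChar_apply] at h
  exact_mod_cast h.symm

/-- Splitting a sum over all irreducible characters along `{1} ⊔ A ⊔ B ⊔ Y ⊔ Dset`. -/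
theorem Data.sum_split (D : Data G p P e) [Fintype (IrrCharacter G)]
    (hδ1 : D.δ (trivChar G) = 1) {M : Type*} [AddCommMonoid M] (f : IrrCharacter G → M) :
    ∑ ψ : IrrCharacter G, f ψ =
      f (trivChar G) + ∑ χ ∈ D.A, f χ + ∑ χ ∈ D.B, f χ + ∑ θ ∈ D.Y, f θ + ∑ d ∈ D.Dset, f d := by
  classical
  have hXY : Disjoint D.X D.Y := D.disj
  have h1 : (Finset.univ : Finset (IrrCharacter G)) = (D.X ∪ D.Y) ∪ D.Dset := by
    ext ψ
    simp only [Finset.mem_univ, Finset.mem_union, D.mem_Dset, true_iff]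
    tauto
  have hd1 : Disjoint (D.X ∪ D.Y) D.Dset := by
    rw [Finset.disjoint_left]
    intro ψ hψ hψ'
    rw [D.mem_Dset] at hψ'
    rw [Finset.mem_union] at hψ
    tauto
  have h2 : D.X = insert (trivChar G) (D.A ∪ D.B) := by
    ext χ
    simp only [Finset.mem_insert, Finset.mem_union, D.mem_A, D.mem_B]
    constructor
    · intro hχ
      by_cases h : χ = trivChar G
      · exact Or.inl h
      · rcases D.δ_sq χ hχ with h' | h'
        · exact Or.inr (Or.inl ⟨hχ, h, h'⟩)
        · exact Or.inr (Or.inr ⟨hχ, h'⟩)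
    · rintro (h | h | h)
      · rw [h]; exact D.one_mem
      · exact h.1
      · exact h.1
  have hd2 : Disjoint D.A D.B := by
    rw [Finset.disjoint_left]
    intro χ hχ hχ'
    rw [D.mem_A] at hχ
    rw [D.mem_B] at hχ'
    omega
  have hd3 : trivChar G ∉ D.A ∪ D.B := by
    simp only [Finset.mem_union, D.mem_A, D.mem_B, not_or]
    refine ⟨fun h => h.2.1 rfl, fun h => ?_⟩
    omega
  rw [h1, Finset.sum_union hd1, Finset.sum_union hXY, h2, Finset.sum_insert hd3,
    Finset.sum_union hd2]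
  abel

/-- `1 + |A| + |B| = e`. -/
theorem Data.card_split (D : Data G p P e) (hδ1 : D.δ (trivChar G) = 1) :
    1 + D.A.card + D.B.card = e := by
  classical
  have h2 : D.X = insert (trivChar G) (D.A ∪ D.B) := by
    ext χ
    simp only [Finset.mem_insert, Finset.mem_union, D.mem_A, D.mem_B]
    constructor
    · intro hχ
      by_cases h : χ = trivChar G
      · exact Or.inl h
      · rcases D.δ_sq χ hχ with h' | h'
        · exact Or.inr (Or.inl ⟨hχ, h, h'⟩)
        · exact Or.inr (Or.inr ⟨hχ, h'⟩)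
    · rintro (h | h | h)
      · rw [h]; exact D.one_mem
      · exact h.1
      · exact h.1
  have hd2 : Disjoint D.A D.B := by
    rw [Finset.disjoint_left]
    intro χ hχ hχ'
    rw [D.mem_A] at hχ
    rw [D.mem_B] at hχ'
    omega
  have hd3 : trivChar G ∉ D.A ∪ D.B := by
    simp only [Finset.mem_union, D.mem_A, D.mem_B, not_or]
    refine ⟨fun h => h.2.1 rfl, fun h => ?_⟩
    omega
  have := D.cardX
  rw [h2, Finset.card_insert_of_notMem hd3, Finset.card_union_of_disjoint hd2] at this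
  omega

/-- Splitting a sum over `X` along `{1} ⊔ A ⊔ B`. -/
theorem Data.sum_X_split (D : Data G p P e) (hδ1 : D.δ (trivChar G) = 1) {M : Type*}
    [AddCommMonoid M] (f : IrrCharacter G → M) :
    ∑ χ ∈ D.X, f χ = f (trivChar G) + ∑ χ ∈ D.A, f χ + ∑ χ ∈ D.B, f χ := by
  classical
  have h2 : D.X = insert (trivChar G) (D.A ∪ D.B) := by
    ext χ
    simp only [Finset.mem_insert, Finset.mem_union, D.mem_A, D.mem_B]
    constructor
    · intro hχ
      by_cases h : χ = trivChar G
      · exact Or.inl h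
      · rcases D.δ_sq χ hχ with h' | h'
        · exact Or.inr (Or.inl ⟨hχ, h, h'⟩)
        · exact Or.inr (Or.inr ⟨hχ, h'⟩)
    · rintro (h | h | h)
      · rw [h]; exact D.one_mem
      · exact h.1
      · exact h.1
  have hd2 : Disjoint D.A D.B := by
    rw [Finset.disjoint_left]
    intro χ hχ hχ'
    rw [D.mem_A] at hχ
    rw [D.mem_B] at hχ'
    omega
  have hd3 : trivChar G ∉ D.A ∪ D.B := by
    simp only [Finset.mem_union, D.mem_A, D.mem_B, not_or]
    refine ⟨fun h => h.2.1 rfl, fun h => ?_⟩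
    omega
  conv_lhs => rw [h2]
  rw [Finset.sum_insert hd3, Finset.sum_union hd2]
  abel

end Cfsg.Agent.Lib.helper84.Br
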