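import Cfsg.Agent.Lib.helper84.Def1MXCore
import Cfsg.Agent.Lib.helper74.TBMain

/-!
# Theorem MX: the generic modular bound for a Galois-stable set of irreducible characters
-/

set_option autoImplicit false

namespace Cfsg.Agent.Lib.helper84

open Cfsg

theorem d1_generic_bound {G : Type*} [Group G] [Fintype G] (p : ℕ) [Fact p.Prime]
    (P : Sylow p G) (hP : Nat.card P = p)
    (S : Finset (Cfsg.IrrCharacter G)) (hS : d1GalStable S) :
    ‖∑ c : G, Set.indicator
        {c : G | c ∈ Subgroup.centralizer ((P : Subgroup G) : Set G) ∧ p ∣ orderOf c}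
        (fun c => ∑ χ ∈ S, (χ : G → ℂ) 1 * (χ : G → ℂ) c) c‖
      ≤ ((p : ℝ) - 1)
          * (Nat.card {c : G // c ∈ Subgroup.centralizer ((P : Subgroup G) : Set G) ∧ ¬ p ∣ orderOf c} : ℝ)
          * ∑ χ ∈ S, (Cfsg.charDegree (χ : G → ℂ) : ℝ) :=
  d1_generic_bound_of p P hP S hS
    (Cfsg.Agent.Lib.helper74.TB.tb_main p P hP (d1Rho S) (∑ χ ∈ S, Cfsg.charDegree (χ : G → ℂ)))

end Cfsg.Agent.Lib.helper84
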