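import Cfsg.Agent.Lib.helper84.Def1MYCore
import Cfsg.Agent.Lib.helper74.TBMain

/-!
# Theorem MY: the refined modular bound for the exceptional family
-/

set_option autoImplicit false

namespace Cfsg.Agent.Lib.helper84

open Cfsg

theorem d1_exceptional_bound {G : Type*} [Group G] [Fintype G] (p : ℕ) [Fact p.Prime]
    (M : Ideal Cfsg.AlgInt) (hM : Cfsg.IsPModular p M)
    (P : Sylow p G) (hP : Nat.card P = p)
    (x : G) (hx : x ∈ (P : Subgroup G)) (hx1 : x ≠ 1)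
    (H : Subgroup (ZMod p)ˣ)
    (hH : ∀ r : (ZMod p)ˣ, r ∈ H ↔ ∃ n : G, n * x * n⁻¹ = x ^ ((r : ZMod p).val))
    (Y : Finset (Cfsg.IrrCharacter G)) (hY : d1GalStable Y)
    (f : ℕ) (w₀ s : ℤ) (hs : s = 1 ∨ s = -1)
    (a : Cfsg.IrrCharacter G → (ZMod p)ˣ)
    (ha : ∀ b : (ZMod p)ˣ, ∃! θh : Cfsg.IrrCharacter G × (ZMod p)ˣ,
      θh.1 ∈ Y ∧ θh.2 ∈ H ∧ a θh.1 * θh.2 = b)
    (hdeg : ∀ θ ∈ Y, (θ : G → ℂ) 1 = (f : ℂ))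
    (hval : ∀ θ ∈ Y, ∀ u : ℕ, ¬ p ∣ u → ∀ y : G,
      y ∈ Subgroup.centralizer ((P : Subgroup G) : Set G) → ¬ p ∣ orderOf y →
      (θ : G → ℂ) (x ^ u * y) = -(w₀ : ℂ) + (s : ℂ) * d1Per p H (a θ) u) :
    |(Y.card : ℤ) * w₀ + s| ≤ 1 :=
  d1_exceptional_bound_of p M hM P hP x hx hx1 H hH Y hY f w₀ s hs a ha hdeg hval
    (Cfsg.Agent.Lib.helper74.TB.tb_main p P hP (d1Rho Y) f)

end Cfsg.Agent.Lib.helper84
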