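import Mathlib
import Cfsg.Prelude.Def_Blocks
import Cfsg.Agent.Lib.helper83.CharBasic
import Cfsg.Agent.Lib.helper83.CharBasic2
import Cfsg.Agent.Lib.helper5.Irr
import Cfsg.Agent.Lib.helper84.Frobenius

/-!
# Brauer's permutation lemma and related counting (helper84)

* `isIrrCharacter_of_isCharacter_norm_one`: a character of norm one is irreducible.
* `irr_comp_inv`, `irr_comp_mulEquiv`: `g ↦ χ g⁻¹` (the complex conjugate) and `χ ∘ α` are
  irreducible characters.
* `card_irr_fixed_eq`: the general counting principle behind Brauer's permutation lemma.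
-/

set_option autoImplicit false

namespace Cfsg.Agent.Lib.helper84

open Cfsg Cfsg.Agent.Lib.helper83
open scoped ComplexConjugate

universe u

variable {G : Type u} [Group G]

/-- A character of norm one is irreducible. -/
theorem isIrrCharacter_of_isCharacter_norm_one [Fintype G] {f : G → ℂ} (hf : IsCharacter G f)
    (hnorm : classInner f f = 1) : IsIrrCharacter G f := by
  apply isIrrCharacter_of_norm_one f (isClassFunction_of_isCharacter hf)
  · intro χ
    obtain ⟨n, hn⟩ := classInner_isCharacter_nat hf (isCharacter_of_irr χ.2)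
    exact ⟨n, by rw [hn]; simp⟩
  · exact hnorm
  · obtain ⟨n, ρ, rfl⟩ := hf
    rw [character_one]
    have hn : n ≠ 0 := by
      rintro rfl
      have h0 : ρ.character = 0 := by
        funext g
        have hz : ρ g = 0 := by
          apply LinearMap.ext
          intro v
          exact Subsingleton.elim _ _
        simp [Representation.character, hz]
      rw [h0] at hnorm
      simp [classInner_def] at hnorm
    have : 0 < n := Nat.pos_of_ne_zero hn
    simpa using this

/-- `g ↦ χ g⁻¹` (the complex conjugate of `χ`) is a character. -/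
theorem isCharacter_comp_inv {χ : G → ℂ} (hχ : IsCharacter G χ) :
    IsCharacter G (fun g => χ g⁻¹) := by
  obtain ⟨n, ρ, rfl⟩ := hχ
  have h := Cfsg.Agent.Lib.helper5.isCharacter_of_rep ρ.dual
  have e : ρ.dual.character = fun g => ρ.character g⁻¹ := by
    funext g; exact Representation.char_dual ρ g
  rw [e] at h
  exact h

/-- Reindexing `classInner` along a bijection of the group. -/
theorem classInner_comp_equiv [Fintype G] (e : G ≃ G) (φ ψ : G → ℂ) :
    classInner (fun g => φ (e g)) (fun g => ψ (e g)) = classInner φ ψ := by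
  rw [classInner_def, classInner_def]
  congr 1
  exact Fintype.sum_equiv e _ _ (fun g => rfl)

/-- `g ↦ χ g⁻¹` (the complex conjugate of `χ`) is an irreducible character. -/
theorem irr_comp_inv [Finite G] (χ : IrrCharacter G) :
    IsIrrCharacter G (fun g => (χ : G → ℂ) g⁻¹) := by
  classical
  have := Fintype.ofFinite G
  apply isIrrCharacter_of_isCharacter_norm_one (isCharacter_comp_inv (isCharacter_of_irr χ.2))
  have h := classInner_comp_equiv (Equiv.inv G) (χ : G → ℂ) (χ : G → ℂ)
  rw [classInner_irr, if_pos rfl] at h
  exact h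

/-- `χ ∘ α` is an irreducible character for an automorphism `α`. -/
theorem irr_comp_mulEquiv [Finite G] (α : G ≃* G) (χ : IrrCharacter G) :
    IsIrrCharacter G (fun g => (χ : G → ℂ) (α g)) := by
  classical
  have := Fintype.ofFinite G
  have hchar : IsCharacter G (fun g => (χ : G → ℂ) (α g)) := by
    obtain ⟨n, ρ, -, h⟩ := χ.2
    rw [← h]
    exact ⟨n, ρ.comp α.toMonoidHom, rfl⟩
  apply isIrrCharacter_of_isCharacter_norm_one hchar
  have h := classInner_comp_equiv α.toEquiv (χ : G → ℂ) (χ : G → ℂ)
  rw [classInner_irr, if_pos rfl] at h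
  exact h

/-- Conjugate elements have centralizers of the same order. -/
theorem card_centralizer_eq_of_isConj [Finite G] {g h : G} (hgh : IsConj g h) :
    Nat.card (Subgroup.centralizer ({g} : Set G)) = Nat.card (Subgroup.centralizer ({h} : Set G)) := by
  have h1 := card_conj_mul_card_centralizer g
  have h2 := card_conj_mul_card_centralizer h
  have e : Nat.card {x : G // IsConj x g} = Nat.card {x : G // IsConj x h} :=
    Nat.card_congr (Equiv.subtypeEquivRight fun x =>
      ⟨fun hx => hx.trans hgh, fun hx => hx.trans hgh.symm⟩)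
  rw [e, ← h2] at h1
  have hpos : 0 < Nat.card {x : G // IsConj x h} :=
    Nat.card_pos_iff.2 ⟨⟨h, IsConj.refl h⟩, inferInstance⟩
  exact Nat.eq_of_mul_eq_mul_left hpos h1

/-- Summing centralizer orders over a conjugacy class gives the group order. -/
theorem sum_card_centralizer_class [Fintype G] [DecidableEq (ConjClasses G)] (C : ConjClasses G) :
    ∑ g ∈ (Finset.univ : Finset G).filter (fun g => ConjClasses.mk g = C),
      (Nat.card (Subgroup.centralizer ({g} : Set G)) : ℂ) = (Nat.card G : ℂ) := by
  classical
  obtain ⟨g₀, rfl⟩ := ConjClasses.mk_surjective C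
  have hmem : ∀ g ∈ (Finset.univ : Finset G).filter (fun g => ConjClasses.mk g = ConjClasses.mk g₀),
      (Nat.card (Subgroup.centralizer ({g} : Set G)) : ℂ) =
        (Nat.card (Subgroup.centralizer ({g₀} : Set G)) : ℂ) := by
    intro g hg
    rw [Finset.mem_filter] at hg
    have : IsConj g g₀ := ConjClasses.mk_eq_mk_iff_isConj.1 hg.2
    rw [card_centralizer_eq_of_isConj this]
  rw [Finset.sum_congr rfl hmem, Finset.sum_const, nsmul_eq_mul]
  have hcard : ((Finset.univ : Finset G).filter (fun g => ConjClasses.mk g = ConjClasses.mk g₀)).card =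
      Nat.card {x : G // IsConj x g₀} := by
    rw [Nat.card_eq_fintype_card, Fintype.card_subtype]
    congr 1
    ext x
    simp only [Finset.mem_filter, Finset.mem_univ, true_and]
    exact ConjClasses.mk_eq_mk_iff_isConj
  rw [hcard, ← Nat.cast_mul, card_conj_mul_card_centralizer]

/-- The counting principle behind Brauer's permutation lemma: if `τ : G → G` induces a map `T`
on irreducible characters (`T χ = χ ∘ τ`) and `P` is the property of a conjugacy class of being
"`τ`-fixed" (`g` conjugate to `τ g`), then the number of `T`-fixed irreducible characters equals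
the number of conjugacy classes with `P`. -/
theorem card_irr_fixed_eq [Finite G] (τ : G → G) (T : IrrCharacter G → IrrCharacter G)
    (hT : ∀ (χ : IrrCharacter G) (g : G), (T χ : G → ℂ) g = (χ : G → ℂ) (τ g))
    (P : ConjClasses G → Prop) (hP : ∀ g : G, P (ConjClasses.mk g) ↔ IsConj g (τ g)) :
    Nat.card {χ : IrrCharacter G // T χ = χ} = Nat.card {C : ConjClasses G // P C} := by
  classical
  have := Fintype.ofFinite G
  have := Fintype.ofFinite (IrrCharacter G)
  have := Fintype.ofFinite (ConjClasses G)
  have hG0 : (Nat.card G : ℂ) ≠ 0 := by exact_mod_cast Nat.card_pos.ne'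
  -- character side
  have h1 : ∑ χ : IrrCharacter G, ∑ g : G, (χ : G → ℂ) g * conj ((χ : G → ℂ) (τ g)) =
      (Nat.card G : ℂ) * (Nat.card {χ : IrrCharacter G // T χ = χ} : ℂ) := by
    have : ∀ χ : IrrCharacter G, ∑ g : G, (χ : G → ℂ) g * conj ((χ : G → ℂ) (τ g)) =
        if T χ = χ then (Nat.card G : ℂ) else 0 := by
      intro χ
      have := irr_orthogonality' χ (T χ)
      simp_rw [hT] at this
      rw [this]
      by_cases h : T χ = χ
      · rw [if_pos h, if_pos h.symm]
      · rw [if_neg h, if_neg (fun h' => h h'.symm)]
    simp_rw [this]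
    rw [Finset.sum_ite, Finset.sum_const_zero, add_zero, Finset.sum_const, nsmul_eq_mul,
      Nat.card_eq_fintype_card (α := {χ : IrrCharacter G // T χ = χ}), Fintype.card_subtype]
    ring
  -- class side
  have h2 : ∑ χ : IrrCharacter G, ∑ g : G, (χ : G → ℂ) g * conj ((χ : G → ℂ) (τ g)) =
      (Nat.card G : ℂ) * (Nat.card {C : ConjClasses G // P C} : ℂ) := by
    rw [Finset.sum_comm]
    have : ∀ g : G, ∑ χ : IrrCharacter G, (χ : G → ℂ) g * conj ((χ : G → ℂ) (τ g)) =
        if P (ConjClasses.mk g) then (Nat.card (Subgroup.centralizer ({g} : Set G)) : ℂ)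
        else 0 := by
      intro g
      rw [second_orthogonality]
      by_cases h : IsConj g (τ g)
      · rw [if_pos h, if_pos ((hP g).2 h), card_centralizer_eq_of_isConj h]
      · rw [if_neg h, if_neg (fun h' => h ((hP g).1 h'))]
    simp_rw [this]
    rw [← Finset.sum_fiberwise (Finset.univ : Finset G) (fun g => ConjClasses.mk g)]
    have hC : ∀ C : ConjClasses G,
        ∑ g ∈ (Finset.univ : Finset G).filter (fun g => ConjClasses.mk g = C),
          (if P (ConjClasses.mk g) then (Nat.card (Subgroup.centralizer ({g} : Set G)) : ℂ)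
            else 0) = if P C then (Nat.card G : ℂ) else 0 := by
      intro C
      by_cases hPC : P C
      · rw [if_pos hPC, ← sum_card_centralizer_class C]
        refine Finset.sum_congr rfl fun g hg => ?_
        rw [Finset.mem_filter] at hg
        rw [hg.2, if_pos hPC]
      · rw [if_neg hPC]
        refine Finset.sum_eq_zero fun g hg => ?_
        rw [Finset.mem_filter] at hg
        rw [hg.2, if_neg hPC]
    simp_rw [hC]
    rw [Finset.sum_ite, Finset.sum_const_zero, add_zero, Finset.sum_const, nsmul_eq_mul,
      Nat.card_eq_fintype_card (α := {C : ConjClasses G // P C}), Fintype.card_subtype]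
    ring
  rw [h1] at h2
  have := mul_left_cancel₀ hG0 h2
  exact_mod_cast this

end Cfsg.Agent.Lib.helper84
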