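import Mathlib
import Cfsg.Prelude.Def_LieExceptional
import Cfsg.Agent.S0731
import Cfsg.Agent.Lib.helper52.BrAlABCE
import Cfsg.Agent.Lib.helper27.BrAlD
import Cfsg.Agent.Lib.helper27.BrAlG
import Cfsg.Agent.Lib.helper88.BrAlF
import Cfsg.Agent.Lib.helper88.BrAlH

/-!
# S0996 : assembly of `brauer_alpha` (the case `n = 1`) from the ALPHA sub-pieces and S0731
-/

set_option autoImplicit false

namespace Cfsg.Agent.Lib.helper84.Br

open MulAction

/-- BR-ALPHA : the case `n = 1` (Zassenhaus group of degree `p + 1`). -/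
theorem brauer_alpha {G : Type*} [Group G] [Finite G] (hperf : commutator G = ⊤) (p : ℕ)
    [Fact p.Prime] (P : Sylow p G) (hP : Nat.card P = p)
    (hC : Subgroup.centralizer ((P : Subgroup G) : Set G) = (P : Subgroup G))
    (e : ℕ) (he : Nat.card (Subgroup.normalizer ((P : Subgroup G) : Set G)) = e * p)
    (he2 : 2 ≤ e) (het : 2 * e = p - 1) (hn : Nat.card (Sylow p G) = 1 + p) :
    ∃ (F : Type) (_ : Field F) (_ : Fintype F), Fintype.card F = p ∧
      Nonempty (G ≃* Matrix.ProjectiveSpecialLinearGroup (Fin 2) F) := by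
  have hp : p.Prime := Fact.out
  have hreg := fun Q R hQ hR => Cfsg.Agent.Lib.helper52.BrAl.al_reg P hP hn Q R hQ hR
  have hZ : Cfsg.IsZassenhausGroup G (Sylow p G) :=
    ⟨Cfsg.Agent.Lib.helper27.BrAl.al_faithful P hP hC hn,
      Cfsg.Agent.Lib.helper52.BrAl.al_two P (fun Q R hQ hR => (hreg Q R hQ hR).exists),
      fun g a b c hab hbc hac ha hb hc =>
        Cfsg.Agent.Lib.helper52.BrAl.al_three P hP hC hn g a b c hab hbc hac ha hb hc,
      Cfsg.Agent.Lib.helper88.BrAl.al_exists P hP e he he2 hn,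
      fun N hN htr => Cfsg.Agent.Lib.helper27.BrAl.al_noreg P hperf hP hC e he he2 hn N hN htr⟩
  have hstab : stabilizer G P = Subgroup.normalizer ((P : Subgroup G) : Set G) :=
    Sylow.stabilizer_eq_normalizer P
  have hFle : (P : Subgroup G) ≤ stabilizer G P := by
    rw [hstab]; exact Subgroup.le_normalizer
  have hFn : ((P : Subgroup G).subgroupOf (stabilizer G P)).Normal := by
    rw [hstab]; exact Subgroup.normal_in_normalizer
  have hFab : IsMulCommutative (P : Subgroup G) := by
    have : Fact (Nat.card (P : Subgroup G)).Prime := ⟨by rw [hP]; exact hp⟩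
    have : IsCyclic (P : Subgroup G) := isCyclic_of_prime_card rfl
    exact IsCyclic.isMulCommutative
  have h := Cfsg.Agent.S0731.result hZ P (P : Subgroup G) hFle hFn hFab
    (fun y z hy hz => hreg y z hy hz)
  exact Cfsg.Agent.Lib.helper88.BrAl.al_final P hP e he het hn h

end Cfsg.Agent.Lib.helper84.Br
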