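import Mathlib

/-!
# S0996 : pure arithmetic pieces A5 (`arith_parity`) and A6 (`arith_fs`)
-/

set_option autoImplicit false

namespace Cfsg.Agent.Lib.helper84.Br

/-- A5. -/
theorem arith_parity (p e n a b t σ : ℕ) (hp : p.Prime) (he2 : 2 ≤ e) (he : 1 + a + b = e)
    (ht : t * e = p - 1) (hb : b = a * n + σ) (htσ : t * σ = n + 1) (hn2 : 2 * n ≤ p + 1)
    (hblk : n + 1 ∣ p * (p - 1)) (hodd : ¬ 2 ∣ e) : False := by
  have hp2 := hp.two_le
  have ht1 : 1 ≤ t := by
    rcases Nat.eq_zero_or_pos t with h | h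
    · rw [h] at htσ; omega
    · exact h
  have hele : e ≤ p - 1 := by
    calc e = 1 * e := (one_mul e).symm
      _ ≤ t * e := Nat.mul_le_mul_right e ht1
      _ = p - 1 := ht
  have hp4 : 4 ≤ p := by
    by_contra h
    have hp3 : p = 3 := by omega
    have : e = 2 := by omega
    exact hodd (by rw [this])
  have hp5 : 5 ≤ p := by
    rcases Nat.lt_or_ge 4 p with h | h
    · exact h
    · exfalso
      have : p = 4 := by omega
      rw [this] at hp
      exact absurd hp (by decide)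
  have hcop : Nat.Coprime (n + 1) p := by
    rw [Nat.coprime_comm, hp.coprime_iff_not_dvd]
    intro h
    have := Nat.le_of_dvd (by omega) h
    omega
  have hdvd : n + 1 ∣ p - 1 := hcop.dvd_of_dvd_mul_left hblk
  have hσe : σ ∣ e := by
    rw [← htσ, ← ht] at hdvd
    exact Nat.dvd_of_mul_dvd_mul_left ht1 hdvd
  have hoddE : Odd e := by
    rcases Nat.even_or_odd e with h | h
    · exact absurd (even_iff_two_dvd.mp h) hodd
    · exact h
  have hoddσ : Odd σ := Odd.of_dvd_nat hoddE hσe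
  have hpodd : Odd p := hp.odd_of_ne_two (by omega)
  have hevp : Even (p - 1) := by
    obtain ⟨k, hk⟩ := hpodd
    exact ⟨k, by omega⟩
  have hevt : Even t := by
    rw [← ht, Nat.even_mul] at hevp
    rcases hevp with h | h
    · exact h
    · exact absurd h (Nat.not_even_iff_odd.mpr hoddE)
  have heq : e = 1 + σ * (1 + a * t) := by
    have h1 : a * (n + 1) = a * (t * σ) := by rw [htσ]
    have h2 : σ * (1 + a * t) = σ + a * (t * σ) := by ring
    rw [h2, ← h1, ← he, hb]
    ring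
  have h3 : Even (σ * (1 + a * t)) := by
    obtain ⟨k, hk⟩ := hoddE
    exact ⟨k, by omega⟩
  rw [Nat.even_mul] at h3
  rcases h3 with h | h
  · exact (Nat.not_even_iff_odd.mpr hoddσ) h
  · have h4 : Even (a * t) := Even.mul_left hevt a
    have h5 : Odd (1 + a * t) := by
      obtain ⟨k, hk⟩ := h4
      exact ⟨k, by omega⟩
    exact (Nat.not_even_iff_odd.mpr h5) h

theorem arith_fs_key (w a n : ℤ) (hw : w = n + 1) :
    w * (a * (1 + n * (w * (2 + a * w) + 1)) + (a * n + 1) * ((w * (2 + a * w) + 1) - 1) +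
      w * ((w * (2 + a * w) + 1) - (2 + a * w)) + (w * (2 + a * w) + 1) * n) -
      (w * (2 + a * w) + 1) * (1 + n * (w * (2 + a * w) + 1)) =
      -(a * w * (n - 1) * (1 + n * (w * (2 + a * w) + 1))) := by
  subst hw
  ring

/-- A6. -/
theorem arith_fs (p e n a b t y I S : ℕ) (hp3 : 3 ≤ p) (hn1 : 1 ≤ n) (he : 1 + a + b = e)
    (ht : t * e = p - 1) (hb : b = a * n + 1) (htn : t = n + 1) (hy : y + e = p)
    (hS : S ≤ 1 + a * (1 + n * p) + b * (p - 1) + t * y + p * n)
    (hI : p * (1 + n * p) ≤ (n + 1) * I) (hIS : 1 + I ≤ S) : a = 0 ∨ n = 1 := by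
  by_contra hcon
  push Not at hcon
  obtain ⟨ha, hn⟩ := hcon
  have ha1 : (1 : ℤ) ≤ a := by have : 1 ≤ a := by omega
                               exact_mod_cast this
  have hn2 : (2 : ℤ) ≤ n := by have : 2 ≤ n := by omega
                               exact_mod_cast this
  have hpZ : ((p - 1 : ℕ) : ℤ) = (p : ℤ) - 1 := by
    rw [Nat.cast_sub (by omega)]; simp
  have heZ : (e : ℤ) = 2 + a * ((n : ℤ) + 1) := by
    have : e = 2 + a * (n + 1) := by rw [← he, hb]; ring
    exact_mod_cast this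
  have hpe : (p : ℤ) = ((n : ℤ) + 1) * (2 + a * ((n : ℤ) + 1)) + 1 := by
    have h1 : ((t * e : ℕ) : ℤ) = (p : ℤ) - 1 := by rw [ht, hpZ]
    push_cast at h1
    rw [htn] at h1
    push_cast at h1
    rw [heZ] at h1
    linarith
  have hyZ : (y : ℤ) = (p : ℤ) - e := by
    have : ((y + e : ℕ) : ℤ) = p := by exact_mod_cast hy
    push_cast at this; linarith
  have hbZ : (b : ℤ) = a * n + 1 := by exact_mod_cast hb
  have htZ : (t : ℤ) = n + 1 := by exact_mod_cast htn
  have hSZ : (S : ℤ) ≤ 1 + a * (1 + n * p) + b * ((p : ℤ) - 1) + t * y + p * n := by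
    rw [← hpZ]; exact_mod_cast hS
  have hIZ : (p : ℤ) * (1 + n * p) ≤ (n + 1) * I := by exact_mod_cast hI
  have hISZ : (1 : ℤ) + I ≤ S := by exact_mod_cast hIS
  have key := arith_fs_key ((n : ℤ) + 1) a n rfl
  have hw : (0 : ℤ) < (n : ℤ) + 1 := by positivity
  -- (n+1) * (S - 1) ≥ p (1 + n p)
  have h1 : (p : ℤ) * (1 + n * p) ≤ ((n : ℤ) + 1) * (S - 1) := by
    have : ((n : ℤ) + 1) * I ≤ ((n : ℤ) + 1) * (S - 1) :=
      mul_le_mul_of_nonneg_left (by linarith) hw.le
    linarith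
  have h2 : ((n : ℤ) + 1) * (S - 1) ≤
      ((n : ℤ) + 1) * (a * (1 + n * p) + b * ((p : ℤ) - 1) + t * y + p * n) :=
    mul_le_mul_of_nonneg_left (by linarith) hw.le
  rw [hbZ, htZ, hyZ, heZ, hpe] at h2
  rw [hpe] at h1
  have h3 : (0 : ℤ) < a * ((n : ℤ) + 1) * (n - 1) *
      (1 + n * (((n : ℤ) + 1) * (2 + a * ((n : ℤ) + 1)) + 1)) := by
    have h4 : (0 : ℤ) < (n : ℤ) - 1 := by linarith
    have h5 : (0 : ℤ) < a := by linarith
    positivity
  linarith

end Cfsg.Agent.Lib.helper84.Br
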