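import Mathlib
import Cfsg.Agent.Lib.helper53.BrA1

/-!
# S0996 : pure arithmetic piece A3 (`arith_core`)
-/

set_option autoImplicit false

namespace Cfsg.Agent.Lib.helper84.Br

theorem arith_core_key (P E N A B T Y R s : ℤ) (hE : E = 1 + A + B) (hP : P = T * E + 1)
    (hB : B = A * N - s) (hY : Y ^ 2 = (E + P * s) ^ 2)
    (hsq : 1 + A * (1 + N * P) ^ 2 + B * (P - 1) ^ 2 + T * Y ^ 2 + P ^ 2 * R =
      E * P * (1 + N * P)) :
    P ^ 2 * R = P ^ 2 * (N - s * (N + 1) - T * s ^ 2) := by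
  subst hE hP hB
  linear_combination hsq - T * hY

/-- A3. -/
theorem arith_core (p e n a b t y R : ℕ) (ε : ℤ) (hp : p.Prime) (hp2 : p ≠ 2)
    (he : 1 + a + b = e) (ht : t * e = p - 1) (hn1 : 1 ≤ n) (hn2 : 2 * n ≤ p + 1)
    (hε : ε = 1 ∨ ε = -1)
    (hy : ε * (y : ℤ) = (e : ℤ) + (p : ℤ) * ((a : ℤ) * (n : ℤ) - (b : ℤ)))
    (hy2 : 2 ≤ y) (hydvd : y ∣ e * (1 + n * p))
    (hsq : 1 + a * (1 + n * p) ^ 2 + b * (p - 1) ^ 2 + t * y ^ 2 + p ^ 2 * R =
      e * p * (1 + n * p))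
    (hR : n ≤ R) :
    R = n ∧ ((ε = 1 ∧ b = a * n ∧ y = e) ∨
      (ε = -1 ∧ ∃ σ : ℕ, 1 ≤ σ ∧ b = a * n + σ ∧ t * σ = n + 1 ∧ y + e = p * σ)) := by
  have hp3 : 3 ≤ p := by have := hp.two_le; omega
  have hpZ : ((p - 1 : ℕ) : ℤ) = (p : ℤ) - 1 := by
    rw [Nat.cast_sub (by omega)]; simp
  have hEz : (e : ℤ) = 1 + (a : ℤ) + (b : ℤ) := by exact_mod_cast he.symm
  have hPz : (p : ℤ) = (t : ℤ) * (e : ℤ) + 1 := by
    have : ((t * e : ℕ) : ℤ) = (p : ℤ) - 1 := by rw [ht, hpZ]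
    push_cast at this; linarith
  have hYz : (y : ℤ) ^ 2 = ((e : ℤ) + (p : ℤ) * ((a : ℤ) * (n : ℤ) - (b : ℤ))) ^ 2 := by
    rw [← hy, mul_pow]
    rcases hε with h | h <;> rw [h] <;> ring
  have hsqZ : (1 : ℤ) + a * (1 + n * p) ^ 2 + b * ((p : ℤ) - 1) ^ 2 + t * (y : ℤ) ^ 2 +
      (p : ℤ) ^ 2 * R = e * p * (1 + n * p) := by
    rw [← hpZ]; exact_mod_cast hsq
  have key := arith_core_key p e n a b t y R ((a : ℤ) * n - b) hEz hPz (by ring) hYz hsqZ
  have hp0 : (p : ℤ) ^ 2 ≠ 0 := by positivity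
  have hRz : (R : ℤ) = n - ((a : ℤ) * n - b) * (n + 1) - t * ((a : ℤ) * n - b) ^ 2 :=
    mul_left_cancel₀ hp0 key
  have hRn : (n : ℤ) ≤ R := by exact_mod_cast hR
  have hele : e ≤ p - 1 := by
    rcases Nat.eq_zero_or_pos t with h | h
    · rw [h] at ht; omega
    · calc e = 1 * e := (one_mul e).symm
        _ ≤ t * e := Nat.mul_le_mul_right e h
        _ = p - 1 := ht
  have ht1 : 1 ≤ t := by
    rcases Nat.eq_zero_or_pos t with h | h
    · rw [h] at ht; omega
    · exact h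
  have heZ : (e : ℤ) ≤ (p : ℤ) - 1 := by
    have : (e : ℤ) ≤ ((p - 1 : ℕ) : ℤ) := by exact_mod_cast hele
    rw [hpZ] at this; exact this
  have hyZ : (2 : ℤ) ≤ y := by exact_mod_cast hy2
  have hnZ : (1 : ℤ) ≤ n := by exact_mod_cast hn1
  have htZ : (1 : ℤ) ≤ t := by exact_mod_cast ht1
  have hpZ3 : (3 : ℤ) ≤ p := by exact_mod_cast hp3
  set s : ℤ := (a : ℤ) * n - b with hs
  rcases hε with h | h
  · -- ε = 1
    rw [h, one_mul] at hy
    have hs0 : 0 ≤ s := by
      by_contra hneg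
      push Not at hneg
      have : (p : ℤ) * s ≤ -(p : ℤ) := by nlinarith
      linarith
    have hs0' : s = 0 := by
      by_contra hne
      have hs1 : 1 ≤ s := by omega
      have : 0 < s * (n + 1) + t * s ^ 2 := by positivity
      linarith
    refine ⟨?_, Or.inl ⟨h, ?_, ?_⟩⟩
    · rw [hs0'] at hRz
      have : (R : ℤ) = n := by linarith
      exact_mod_cast this
    · have : (b : ℤ) = a * n := by linarith
      exact_mod_cast this
    · rw [hs0'] at hy
      have : (y : ℤ) = e := by linarith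
      exact_mod_cast this
  · -- ε = -1
    rw [h] at hy
    have hsneg : s < 0 := by
      by_contra hneg
      push Not at hneg
      have : 0 ≤ (p : ℤ) * s := by positivity
      have he0 : (0 : ℤ) ≤ e := by positivity
      linarith
    obtain ⟨σ, hσ⟩ : ∃ σ : ℕ, (σ : ℤ) = -s := ⟨(-s).toNat, Int.toNat_of_nonneg (by omega)⟩
    have hσ1 : 1 ≤ σ := by
      have : (1 : ℤ) ≤ σ := by omega
      exact_mod_cast this
    have hσZ : (1 : ℤ) ≤ σ := by exact_mod_cast hσ1
    have hsσ : s = -(σ : ℤ) := by omega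
    -- `t σ ≤ n + 1`
    have htσle : (t : ℤ) * σ ≤ n + 1 := by
      by_contra hgt
      push Not at hgt
      have h1 : (R : ℤ) = n + σ * (n + 1 - t * σ) := by rw [hRz, hsσ]; ring
      have h2 : (σ : ℤ) * (n + 1 - t * σ) < 0 := by nlinarith
      linarith
    have hyσ : (y : ℤ) + e = p * σ := by rw [hsσ] at hy; linarith
    -- `m = t σ - 1`
    obtain ⟨m, hm⟩ : ∃ m : ℕ, t * σ = m + 1 := ⟨t * σ - 1, by
      have : 1 ≤ t * σ := Nat.mul_pos ht1 hσ1
      omega⟩
    have hmZ : (t : ℤ) * σ = m + 1 := by exact_mod_cast hm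
    have hmn : m ≤ n := by
      have : (m : ℤ) ≤ n := by linarith
      exact_mod_cast this
    have hty : t * y = m * p + 1 := by
      have : ((t * y : ℕ) : ℤ) = ((m * p + 1 : ℕ) : ℤ) := by
        push_cast
        have h1 : (t : ℤ) * y = t * (p * σ - e) := by rw [← hyσ]; ring
        rw [h1]
        have h2 : (t : ℤ) * e = p - 1 := by linarith
        linear_combination (p : ℤ) * hmZ - h2
      exact_mod_cast this
    have hm1 : 1 ≤ m := by
      rcases Nat.eq_zero_or_pos m with h0 | h0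
      · rw [h0] at hty
        have : y ∣ 1 := by
          have : y ∣ t * y := dvd_mul_left y t
          rw [hty] at this; simpa using this
        have := Nat.le_of_dvd one_pos this
        omega
      · exact h0
    have hdvd : m * p + 1 ∣ (p - 1) * (n * p + 1) := by
      rw [← hty, ← ht]
      have : t * e * (n * p + 1) = t * (e * (1 + n * p)) := by ring
      rw [this]
      exact Nat.mul_dvd_mul_left t hydvd
    have hmn' : m = n := Cfsg.Agent.Lib.helper53.Br.arith_plus p n m hp3 hn1 hn2 hm1 hdvd (Or.inl hmn)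
    have htσ : t * σ = n + 1 := by rw [hm, hmn']
    have htσZ : (t : ℤ) * σ = n + 1 := by exact_mod_cast htσ
    refine ⟨?_, Or.inr ⟨h, σ, hσ1, ?_, htσ, ?_⟩⟩
    · have h1 : (R : ℤ) = n + σ * (n + 1 - t * σ) := by rw [hRz, hsσ]; ring
      rw [htσZ] at h1
      have : (R : ℤ) = n := by linarith
      exact_mod_cast this
    · have : (b : ℤ) = a * n + σ := by omega
      exact_mod_cast this
    · exact_mod_cast hyσ

end Cfsg.Agent.Lib.helper84.Br
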