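import Mathlib
import Cfsg.Prelude.Def_Characters
import Cfsg.Prelude.Def_Blocks
import Cfsg.Agent.Lib.helper84.BrDefs
import Cfsg.Agent.Lib.helper19.PermChar

/-!
# S0996 : piece C3b (`piChar_one`, `piChar_P`)
-/

set_option autoImplicit false

namespace Cfsg.Agent.Lib.helper84.Br

open Cfsg

universe u

variable {G : Type u} [Group G] {p : ℕ} [Fact p.Prime] {P : Sylow p G}

/-- A `p`-element of `N_G(P)` lies in `P`. -/
theorem mem_of_mem_normalizer_of_orderOf [Finite G] (y : G)
    (hy : y ∈ Subgroup.normalizer ((P : Subgroup G) : Set G)) (hyo : orderOf y = p) :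
    y ∈ (P : Subgroup G) := by
  have hp : p.Prime := Fact.out
  have h1 : IsPGroup p (Subgroup.zpowers y) := by
    rw [IsPGroup.iff_card]
    refine ⟨1, ?_⟩
    rw [Nat.card_zpowers, hyo, pow_one]
  have h2 : Subgroup.zpowers y ≤ Subgroup.normalizer ((P : Subgroup G) : Set G) := by
    rw [Subgroup.zpowers_le]; exact hy
  have h3 : IsPGroup p (Subgroup.zpowers y ⊔ (P : Subgroup G) : Subgroup G) :=
    IsPGroup.to_sup_of_normal_right' h1 P.isPGroup' h2
  have h4 : Subgroup.zpowers y ⊔ (P : Subgroup G) = (P : Subgroup G) :=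
    P.is_maximal' h3 le_sup_right
  have h5 : Subgroup.zpowers y ≤ (P : Subgroup G) := by
    rw [← h4]; exact le_sup_left
  exact h5 (Subgroup.mem_zpowers y)

/-- G1d (local version) : a non-identity element of `P` lies in no other conjugate of `N_G(P)`. -/
theorem fix_P_aux [Finite G] (hP : Nat.card P = p) (x : G) (hx : x ∈ (P : Subgroup G))
    (hx1 : x ≠ 1) (h : G)
    (hh : h⁻¹ * x * h ∈ Subgroup.normalizer ((P : Subgroup G) : Set G)) :
    h ∈ Subgroup.normalizer ((P : Subgroup G) : Set G) := by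
  have hp : p.Prime := Fact.out
  have hox : orderOf x = p := by
    have h1 : orderOf x ∣ p := by
      rw [← hP]
      have := orderOf_dvd_natCard (⟨x, hx⟩ : (P : Subgroup G))
      rwa [Subgroup.orderOf_mk] at this
    rcases (Nat.dvd_prime hp).mp h1 with h2 | h2
    · exact absurd (orderOf_eq_one_iff.mp h2) hx1
    · exact h2
  have hoy : orderOf (h⁻¹ * x * h) = p := by
    have : h⁻¹ * x * h = MulAut.conj h⁻¹ x := by simp
    rw [this, MulEquiv.orderOf_eq]; exact hox
  have hyP : h⁻¹ * x * h ∈ (P : Subgroup G) := mem_of_mem_normalizer_of_orderOf _ hh hoy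
  -- `P = zpowers x = zpowers (h⁻¹ x h)`
  have hzx : Subgroup.zpowers x = (P : Subgroup G) := by
    apply Subgroup.eq_of_le_of_card_ge
    · rw [Subgroup.zpowers_le]; exact hx
    · rw [Nat.card_zpowers, hox]; exact hP.le
  have hzy : Subgroup.zpowers (h⁻¹ * x * h) = (P : Subgroup G) := by
    apply Subgroup.eq_of_le_of_card_ge
    · rw [Subgroup.zpowers_le]; exact hyP
    · rw [Nat.card_zpowers, hoy]; exact hP.le
  have hconj : ∀ k : ℤ, h * (h⁻¹ * x * h) ^ k * h⁻¹ = x ^ k := by
    intro k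
    have : h⁻¹ * x * h = h⁻¹ * x * h⁻¹⁻¹ := by rw [inv_inv]
    rw [this, conj_zpow]
    group
  have hmem : ∀ z : G, z ∈ (P : Subgroup G) → h * z * h⁻¹ ∈ (P : Subgroup G) := by
    intro z hz
    rw [← hzy] at hz
    obtain ⟨k, rfl⟩ := Subgroup.mem_zpowers_iff.mp hz
    rw [hconj k, ← hzx]
    exact Subgroup.zpow_mem_zpowers x k
  rw [Subgroup.mem_normalizer_iff]
  intro z
  refine ⟨hmem z, fun hz => ?_⟩
  -- `h z h⁻¹ ∈ P = zpowers x`, so `z ∈ zpowers (h⁻¹ x h) = P`
  rw [← hzx] at hz
  obtain ⟨k, hk⟩ := Subgroup.mem_zpowers_iff.mp hz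
  have hz' : z = (h⁻¹ * x * h) ^ k := by
    have h1 : z = h⁻¹ * (h * z * h⁻¹) * h := by group
    rw [h1, ← hk]
    have : h⁻¹ * x * h = h⁻¹ * x * h⁻¹⁻¹ := by rw [inv_inv]
    rw [this, conj_zpow]
    group
  rw [hz', ← hzy]
  exact Subgroup.zpow_mem_zpowers _ k

variable [Fintype G]

/-- C3b. -/
theorem piChar_one {n : ℕ} (hn : Nat.card (Sylow p G) = 1 + n * p) :
    piChar P 1 = ((1 + n * p : ℕ) : ℂ) := by
  unfold piChar
  rw [Cfsg.Agent.Lib.helper19.indFun_one_eq]
  congr 1
  rw [← hn, P.card_eq_index_normalizer]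
  unfold Cfsg.Agent.Lib.helper19.fixCount
  have h1 : MulAction.fixedBy (G ⧸ Subgroup.normalizer ((P : Subgroup G) : Set G)) (1 : G) =
      Set.univ := by
    ext q; simp
  rw [h1, Nat.card_coe_set_eq, Set.ncard_univ]
  rfl

/-- C3b'. -/
theorem piChar_P (hP : Nat.card P = p) (x : G) (hx : x ∈ (P : Subgroup G)) (hx1 : x ≠ 1) :
    piChar P x = 1 := by
  unfold piChar
  rw [Cfsg.Agent.Lib.helper19.indFun_one_eq]
  unfold Cfsg.Agent.Lib.helper19.fixCount
  have h1 : MulAction.fixedBy (G ⧸ Subgroup.normalizer ((P : Subgroup G) : Set G)) x =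
      {((1 : G) : G ⧸ Subgroup.normalizer ((P : Subgroup G) : Set G))} := by
    ext q
    induction q using QuotientGroup.induction_on with
    | H t =>
      rw [Cfsg.Agent.Lib.helper19.mem_fixedBy_quot_iff, Set.mem_singleton_iff]
      constructor
      · intro ht
        have h2 := fix_P_aux hP x hx hx1 t ht
        rw [QuotientGroup.eq]
        simpa using h2
      · intro ht
        have h2 : t ∈ Subgroup.normalizer ((P : Subgroup G) : Set G) := by
          rw [QuotientGroup.eq] at ht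
          simpa using ht
        have h3 : x ∈ Subgroup.normalizer ((P : Subgroup G) : Set G) :=
          Subgroup.le_normalizer hx
        exact Subgroup.mul_mem _ (Subgroup.mul_mem _ (Subgroup.inv_mem _ h2) h3) h2
  rw [h1, Nat.card_coe_set_eq, Set.ncard_singleton]
  simp

end Cfsg.Agent.Lib.helper84.Br
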