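import Mathlib
import Cfsg.Prelude.Def_Characters
import Cfsg.Prelude.Def_Blocks
import Cfsg.Agent.Lib.helper84.BrDefs
import Cfsg.Agent.Lib.helper84.Frobenius
import Cfsg.Agent.Lib.helper83.CharBasic
import Cfsg.Agent.Lib.helper83.CharBasic2
import Cfsg.Agent.Lib.helper82.CharQuot
import Cfsg.Agent.Lib.helper4.Induction
import Cfsg.Agent.Lib.helper19.PermChar

/-!
# S0996 : pieces REST (`piChar_le`, `rest_le`) and C3 (`piChar_isCharacter`, `piChar_triv`)
-/

set_option autoImplicit false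

namespace Cfsg.Agent.Lib.helper84.Br

open Cfsg
open scoped ComplexConjugate

universe u

variable {G : Type u} [Group G]

open Classical

/-- Sum over a subgroup `Q ≤ H`, computed on `G` or on `H`. -/
theorem sum_ite_mem_subgroup [Fintype G] (H Q : Subgroup G) [Fintype H] (hQH : Q ≤ H)
    (f : G → ℂ) :
    (∑ g : G, if g ∈ Q then f g else 0) = ∑ h : H, if (h : G) ∈ Q then f h else 0 := by
  classical
  have h1 : (∑ g : G, if g ∈ Q then f g else 0) =
      ∑ g ∈ (Finset.univ : Finset G).filter (· ∈ H), if g ∈ Q then f g else 0 := by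
    rw [Finset.sum_filter]
    refine Finset.sum_congr rfl fun g _ => ?_
    by_cases hg : g ∈ H
    · rw [if_pos hg]
    · rw [if_neg hg, if_neg (fun h => hg (hQH h))]
  rw [h1]
  exact Finset.sum_subtype _ (fun x => by simp) _

/-- The sum of an irreducible character of `H` over a subgroup `Q` is `|Q|` times a natural
number, equal to `1` if the character is trivial on `Q`. -/
theorem sum_irr_subgroup [Fintype G] (H Q : Subgroup G) (lam : IrrCharacter H) :
    ∃ k : ℕ, (∑ᶠ h : H, if (h : G) ∈ Q then (lam : H → ℂ) h else 0) = (Nat.card ↥(Q.subgroupOf H) : ℂ) * k ∧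
      ((∀ h : H, (h : G) ∈ Q → (lam : H → ℂ) h = 1) → k = 1) := by
  classical
  have hc1 : IsCharacter ↥(Q.subgroupOf H) (fun x : ↥(Q.subgroupOf H) => (lam : H → ℂ) x) :=
    isCharacter_restrict _ (Cfsg.Agent.Lib.helper83.isCharacter_of_irr lam.2)
  have hc2 : IsCharacter ↥(Q.subgroupOf H) (fun _ => (1 : ℂ)) :=
    Cfsg.Agent.Lib.helper83.isCharacter_of_irr Cfsg.Agent.Lib.helper81.isIrrCharacter_const_one
  obtain ⟨k, hk⟩ := classInner_isCharacter_nat hc1 hc2
  have hne : (Nat.card ↥(Q.subgroupOf H) : ℂ) ≠ 0 := by exact_mod_cast Nat.card_pos.ne'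
  have hsum : (∑ᶠ h : H, if (h : G) ∈ Q then (lam : H → ℂ) h else 0) =
      ∑ x : ↥(Q.subgroupOf H), (lam : H → ℂ) x := by
    rw [finsum_eq_sum_of_fintype]
    have h1 : (∑ h : H, if (h : G) ∈ Q then (lam : H → ℂ) h else 0) =
        ∑ h ∈ (Finset.univ : Finset H).filter (· ∈ Q.subgroupOf H), (lam : H → ℂ) h := by
      rw [Finset.sum_filter]
      refine Finset.sum_congr rfl fun h _ => ?_
      simp [Subgroup.mem_subgroupOf]
    rw [h1]
    exact Finset.sum_subtype _ (fun x => by simp) _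
  have hk' : (∑ x : ↥(Q.subgroupOf H), (lam : H → ℂ) x) = (Nat.card ↥(Q.subgroupOf H) : ℂ) * k := by
    rw [← hk, Cfsg.Agent.Lib.helper83.classInner_def]
    simp only [map_one, mul_one]
    field_simp
  refine ⟨k, hsum.trans hk', fun h1 => ?_⟩
  have h2 : (∑ x : ↥(Q.subgroupOf H), (lam : H → ℂ) x) = (Nat.card ↥(Q.subgroupOf H) : ℂ) := by
    rw [Finset.sum_congr rfl (fun (x : ↥(Q.subgroupOf H)) _ =>
      h1 x.1 (Subgroup.mem_subgroupOf.mp x.2))]
    simp [Nat.card_eq_fintype_card]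
  rw [h2] at hk'
  have h3 : (Nat.card ↥(Q.subgroupOf H) : ℂ) * 1 = (Nat.card ↥(Q.subgroupOf H) : ℂ) * k := by
    rw [mul_one]; exact hk'
  have h4 := mul_left_cancel₀ hne h3
  exact_mod_cast h4.symm

/-- REST, core: multiplicities of the restriction to `H` against the fixed points of `Q ≤ H`. -/
theorem rest_core [Fintype G] (H Q : Subgroup G) (hQH : Q ≤ H) (ψ : G → ℂ)
    (hψ : IsCharacter G ψ) :
    ∃ (l : ℕ) (c : IrrCharacter H → ℕ),
      (∀ lam : IrrCharacter H, classInner (fun h : H => ψ h) (lam : H → ℂ) = c lam) ∧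
      (∑ g : G, if g ∈ Q then ψ g else 0) = (Nat.card Q : ℂ) * l ∧
      ∀ s : Finset (IrrCharacter H),
        (∀ lam ∈ s, ∀ h : H, (h : G) ∈ Q → (lam : H → ℂ) h = 1) → ∑ lam ∈ s, c lam ≤ l := by
  classical
  have : Fintype (IrrCharacter H) := Fintype.ofFinite _
  have hres : IsCharacter H (fun h : H => ψ h) := isCharacter_restrict H hψ
  have hc : ∀ lam : IrrCharacter H, ∃ c : ℕ, classInner (fun h : H => ψ h) (lam : H → ℂ) = c :=
    fun lam => classInner_isCharacter_nat hres (Cfsg.Agent.Lib.helper83.isCharacter_of_irr lam.2)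
  choose c hc using hc
  have hk := fun lam : IrrCharacter H => sum_irr_subgroup H Q lam
  choose k hk using hk
  have hcardQ : Nat.card ↥(Q.subgroupOf H) = Nat.card Q :=
    Nat.card_congr (Subgroup.subgroupOfEquivOfLe hQH).toEquiv
  refine ⟨∑ lam : IrrCharacter H, c lam * k lam, c, hc, ?_, ?_⟩
  · rw [sum_ite_mem_subgroup H Q hQH ψ]
    have hexp : ∀ h : H, ψ h = ∑ lam : IrrCharacter H, (c lam : ℂ) * (lam : H → ℂ) h := by
      intro h
      have h1 := Cfsg.Agent.Lib.helper83.classFunction_expansion (fun h : H => ψ h)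
        (Cfsg.Agent.Lib.helper4.isClassFunction_of_isCharacter hres) h
      rw [h1]
      refine Finset.sum_congr rfl fun lam _ => ?_
      rw [← hc lam, Cfsg.Agent.Lib.helper83.classInner_def]
    have h2 : (∑ h : H, if (h : G) ∈ Q then ψ h else 0) =
        ∑ lam : IrrCharacter H, (c lam : ℂ) *
          ∑ h : H, if (h : G) ∈ Q then (lam : H → ℂ) h else 0 := by
      rw [Finset.sum_congr rfl (fun h _ => by rw [hexp h])]
      simp_rw [Finset.mul_sum]
      rw [Finset.sum_comm]
      refine Finset.sum_congr rfl fun h _ => ?_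
      by_cases hq : (h : G) ∈ Q
      · simp [hq]
      · simp [hq]
    rw [h2]
    push_cast
    rw [Finset.mul_sum]
    refine Finset.sum_congr rfl fun lam _ => ?_
    have h3 := (hk lam).1
    rw [finsum_eq_sum_of_fintype, hcardQ] at h3
    rw [h3]; ring
  · intro s hs
    calc ∑ lam ∈ s, c lam = ∑ lam ∈ s, c lam * k lam := by
          refine Finset.sum_congr rfl fun lam hlam => ?_
          rw [(hk lam).2 (hs lam hlam), mul_one]
      _ ≤ ∑ lam : IrrCharacter H, c lam * k lam :=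
          Finset.sum_le_sum_of_subset (Finset.subset_univ s)

/-- `ψ 1 + psum P ψ` is the sum of `ψ` over `P`. -/
theorem one_add_psum [Fintype G] (Q : Subgroup G) (f : G → ℂ) :
    f 1 + psum Q f = ∑ g : G, if g ∈ Q then f g else 0 := by
  classical
  unfold psum
  have h1 : f 1 = ∑ g : G, if g = 1 then f g else 0 := by
    rw [Finset.sum_ite_eq']; simp
  rw [h1, ← Finset.sum_add_distrib]
  refine Finset.sum_congr rfl fun g _ => ?_
  by_cases hg : g = 1
  · subst hg; simp [Q.one_mem]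
  · by_cases hq : g ∈ Q
    · simp [hg, hq]
    · simp [hg, hq]

variable [Fintype G] {p : ℕ} [Fact p.Prime] {P : Sylow p G}

/-- C3a. -/
theorem piChar_isCharacter : IsCharacter G (piChar P) :=
  Cfsg.Agent.Lib.helper4.isCharacter_indFun _
    (Cfsg.Agent.Lib.helper83.isCharacter_of_irr Cfsg.Agent.Lib.helper81.isIrrCharacter_const_one)

/-- `⟨π, ψ⟩ = ⟨ψ|_N, 1⟩`. -/
theorem classInner_piChar (ψ : G → ℂ) (hψ : IsCharacter G ψ) (k : ℕ)
    (hk : classInner (fun h : ↥(Subgroup.normalizer ((P : Subgroup G) : Set G)) => ψ h)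
      (fun _ => (1 : ℂ)) = k) : classInner (piChar P) ψ = k := by
  classical
  unfold piChar
  rw [frobenius_reciprocity _ _ _ (Cfsg.Agent.Lib.helper4.isClassFunction_of_isCharacter hψ),
    ← classInner_conj_symm, hk]
  simp

/-- C3c. -/
theorem piChar_triv :
    classInner (piChar P) (Cfsg.Agent.Lib.helper81.trivChar G : G → ℂ) = 1 := by
  classical
  have h := classInner_piChar (P := P) (Cfsg.Agent.Lib.helper81.trivChar G : G → ℂ)
    (Cfsg.Agent.Lib.helper83.isCharacter_of_irr (Cfsg.Agent.Lib.helper81.trivChar G).2) 1 (by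
      rw [Cfsg.Agent.Lib.helper83.classInner_def]
      simp only [Cfsg.Agent.Lib.helper81.trivChar_apply, map_one, mul_one, Finset.sum_const,
        Finset.card_univ, nsmul_eq_mul, Nat.cast_one]
      rw [← Nat.card_eq_fintype_card]
      have hne : (Nat.card ↥(Subgroup.normalizer ((P : Subgroup G) : Set G)) : ℂ) ≠ 0 := by
        exact_mod_cast Nat.card_pos.ne'
      field_simp)
  simpa using h

/-- C3d (REST, one character) : `⟨π, ψ⟩ ≤ ℓ(ψ)`. -/
theorem piChar_le (hP : Nat.card P = p) (ψ : G → ℂ) (hψ : IsCharacter G ψ) :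
    ∃ k l : ℕ, classInner (piChar P) ψ = k ∧
      ψ 1 + psum (P : Subgroup G) ψ = (p : ℂ) * l ∧ k ≤ l := by
  classical
  obtain ⟨l, c, hc, hl, hs⟩ := rest_core (Subgroup.normalizer ((P : Subgroup G) : Set G))
    (P : Subgroup G) Subgroup.le_normalizer ψ hψ
  set triv : IrrCharacter ↥(Subgroup.normalizer ((P : Subgroup G) : Set G)) :=
    Cfsg.Agent.Lib.helper81.trivChar _ with htriv
  refine ⟨c triv, l, classInner_piChar ψ hψ _ (hc triv), ?_, ?_⟩
  · rw [one_add_psum, hl]
    have : Nat.card (P : Subgroup G) = p := hP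
    rw [this]
  · have := hs {triv} (fun lam hlam h _ => by
      rw [Finset.mem_singleton.mp hlam]; rfl)
    simpa using this

/-- C4c (REST, two characters) : `⟨π, ψ⟩ + ⟨μ^G, ψ⟩ ≤ ℓ(ψ)`. -/
theorem rest_le (hP : Nat.card P = p)
    (μ : ↥(Subgroup.normalizer ((P : Subgroup G) : Set G)) →* ℂˣ)
    (hμP : ∀ h : ↥(Subgroup.normalizer ((P : Subgroup G) : Set G)),
      (h : G) ∈ (P : Subgroup G) → μ h = 1)
    (hμ1 : ∃ h : ↥(Subgroup.normalizer ((P : Subgroup G) : Set G)), μ h ≠ 1)
    (ψ : G → ℂ) (hψ : IsCharacter G ψ) :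
    ∃ k m l : ℕ, classInner (piChar P) ψ = k ∧
      classInner (indFun (Subgroup.normalizer ((P : Subgroup G) : Set G))
        (fun h => ((μ h : ℂˣ) : ℂ))) ψ = m ∧
      ψ 1 + psum (P : Subgroup G) ψ = (p : ℂ) * l ∧ k + m ≤ l := by
  classical
  obtain ⟨l, c, hc, hl, hs⟩ := rest_core (Subgroup.normalizer ((P : Subgroup G) : Set G))
    (P : Subgroup G) Subgroup.le_normalizer ψ hψ
  set triv : IrrCharacter ↥(Subgroup.normalizer ((P : Subgroup G) : Set G)) :=
    Cfsg.Agent.Lib.helper81.trivChar _ with htriv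
  set lamμ : IrrCharacter ↥(Subgroup.normalizer ((P : Subgroup G) : Set G)) :=
    ⟨fun h => ((μ h : ℂˣ) : ℂ), Cfsg.Agent.Lib.helper82.isIrrCharacter_of_hom μ⟩ with hlamμ
  have hne : triv ≠ lamμ := by
    intro heq
    obtain ⟨h, hh⟩ := hμ1
    apply hh
    have h1 : (triv : ↥(Subgroup.normalizer ((P : Subgroup G) : Set G)) → ℂ) h =
        (lamμ : ↥(Subgroup.normalizer ((P : Subgroup G) : Set G)) → ℂ) h := by rw [heq]
    have h2 : (1 : ℂ) = ((μ h : ℂˣ) : ℂ) := h1
    exact Units.ext h2.symm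
  refine ⟨c triv, c lamμ, l, classInner_piChar ψ hψ _ (hc triv), ?_, ?_, ?_⟩
  · rw [frobenius_reciprocity _ _ _ (Cfsg.Agent.Lib.helper4.isClassFunction_of_isCharacter hψ),
      ← classInner_conj_symm]
    have h0 : classInner (fun h : ↥(Subgroup.normalizer ((P : Subgroup G) : Set G)) => ψ h)
        (fun h => ((μ h : ℂˣ) : ℂ)) = c lamμ := hc lamμ
    rw [h0]
    simp
  · rw [one_add_psum, hl]
    have : Nat.card (P : Subgroup G) = p := hP
    rw [this]
  · have := hs {triv, lamμ} (fun lam hlam h hh => by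
      rcases Finset.mem_insert.mp hlam with h1 | h1
      · rw [h1]; rfl
      · rw [Finset.mem_singleton.mp h1]
        show ((μ h : ℂˣ) : ℂ) = 1
        rw [hμP h hh]; rfl)
    rw [Finset.sum_pair hne] at this
    exact this

end Cfsg.Agent.Lib.helper84.Br
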