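import Mathlib
import Cfsg.Prelude.Def_Characters
import Cfsg.Prelude.Def_Blocks
import Cfsg.Agent.Lib.helper84.BrDefs
import Cfsg.Agent.Lib.helper84.BrArith
import Cfsg.Agent.Lib.helper84.BrArith3
import Cfsg.Agent.Lib.helper84.BrRest
import Cfsg.Agent.Lib.helper84.BrPi
import Cfsg.Agent.Lib.helper20.BrC0
import Cfsg.Agent.Lib.helper20.BrC1
import Cfsg.Agent.Lib.helper20.BrC5
import Cfsg.Agent.Lib.helper53.BrC7
import Cfsg.Agent.Lib.helper53.BrA4
import Cfsg.Agent.Lib.helper72.BrC8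
import Cfsg.Agent.Lib.helper72.BrE4a
import Cfsg.Agent.Lib.helper81.BrC3e
import Cfsg.Agent.Lib.helper81.BrC4d
import Cfsg.Agent.Lib.helper56.BrC4b
import Cfsg.Agent.Lib.helper52.BrG5
import Cfsg.Agent.Lib.helper52.BrG6
import Cfsg.Agent.Lib.helper6.BrC9
import Cfsg.Agent.Lib.helper6.BrE1
import Cfsg.Agent.Lib.helper6.BrE3
import Cfsg.Agent.Lib.helper66.BrG3
import Cfsg.Agent.Lib.helper66.BrG4
import Cfsg.Agent.Lib.helper66.BrSING
import Cfsg.Agent.Lib.helper83.CharBasic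
import Cfsg.Agent.Lib.helper82.CharQuot
import Cfsg.Agent.Lib.helper84.Frobenius

/-!
# S0996 : assembly of `brauer_char` (the character-theoretic structure theorem)
-/

set_option autoImplicit false

namespace Cfsg.Agent.Lib.helper84.Br

open Cfsg
open scoped ComplexConjugate


universe u

set_option maxHeartbeats 1600000 in
/-- BR-CHAR : the structure theorem. -/
theorem brauer_char {G : Type u} [Group G] [Fintype G] (hperf : commutator G = ⊤) (p : ℕ)
    [Fact p.Prime] (hp2 : p ≠ 2) (P : Sylow p G) (hP : Nat.card P = p)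
    (hC : Subgroup.centralizer ((P : Subgroup G) : Set G) = (P : Subgroup G))
    (e n : ℕ) (he : Nat.card (Subgroup.normalizer ((P : Subgroup G) : Set G)) = e * p)
    (he2 : 2 ≤ e) (hep : e ∣ p - 1)
    (hn : Nat.card (Sylow p G) = 1 + n * p) (hn1 : 1 ≤ n) (hn2 : 2 * n ≤ p + 1) :
    (n = 1 ∧ 2 * e = p - 1) ∨
    (e = 2 ∧ 2 * n + 3 = p ∧ ∃ (χ : IrrCharacter G) (Y : Set (IrrCharacter G)),
      (χ : G → ℂ) 1 = (p : ℂ) - 1 ∧ (∀ g : G, p ∣ orderOf g → (χ : G → ℂ) g = -1) ∧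
      2 * Nat.card Y = p - 1 ∧ (∀ θ ∈ Y, (θ : G → ℂ) 1 = (p : ℂ) - 2) ∧
      ∀ θ ∈ Y, ∀ g : G, ¬ p ∣ orderOf g → (θ : G → ℂ) g = (χ : G → ℂ) g - 1) := by
  classical
  have hp : p.Prime := Fact.out
  have hp3 : 3 ≤ p := by have := hp.two_le; omega
  have hctx : Ctx G p P e n := ⟨hP, hC, he, hn, hp2, he2, hep, hn1, hn2⟩
  obtain ⟨D⟩ := Cfsg.Agent.Lib.helper20.Br.exists_data hctx hperf
  let _ : Fintype (IrrCharacter G) := Fintype.ofFinite _
  -- a non-identity element of `P`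
  obtain ⟨x₀, hx₀, hx₀1⟩ : ∃ x : G, x ∈ (P : Subgroup G) ∧ x ≠ 1 := by
    have : Nontrivial (P : Subgroup G) := by
      rw [← Finite.one_lt_card_iff_nontrivial, hP]; omega
    obtain ⟨x, hx⟩ := exists_ne (1 : (P : Subgroup G))
    exact ⟨x, x.2, fun h => hx (Subtype.ext h)⟩
  have hδ1 := D.δ_triv x₀ hx₀ hx₀1
  have hab := D.card_split hδ1
  have hte : D.Y.card * e = p - 1 := D.cardY
  obtain ⟨hA, hB⟩ := Cfsg.Agent.Lib.helper53.Br.deg_X hctx hperf D
  have ht1 : 1 ≤ D.Y.card := by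
    rcases Nat.eq_zero_or_pos D.Y.card with h | h
    · rw [h] at hte; omega
    · exact h
  obtain ⟨θ₀, hθ₀⟩ : D.Y.Nonempty := Finset.card_pos.mp ht1
  have h1reg : ¬ p ∣ orderOf (1 : G) := by
    rw [orderOf_one]
    intro h
    have := Nat.le_of_dvd one_pos h
    omega
  have hYd : ∀ θ ∈ D.Y, charDegree (θ : G → ℂ) = charDegree (θ₀ : G → ℂ) := by
    intro θ hθ
    have h1 := D.agree θ hθ θ₀ hθ₀ 1 h1reg
    rw [Cfsg.Agent.Lib.helper83.irr_one_eq_charDegree, Cfsg.Agent.Lib.helper83.irr_one_eq_charDegree] at h1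
    exact_mod_cast h1
  -- the degree of the exceptional characters
  have hcardG : Nat.card G = e * p * (1 + n * p) := by
    have h1' := Subgroup.card_mul_index (Subgroup.normalizer ((P : Subgroup G) : Set G))
    have hidx : (Subgroup.normalizer ((P : Subgroup G) : Set G)).index = Nat.card (Sylow p G) :=
      P.card_eq_index_normalizer.symm
    rw [hidx, he, hn] at h1'
    exact h1'.symm
  have hpm1 : ((p - 1 : ℕ) : ℂ) = (p : ℂ) - 1 := by
    rw [Nat.cast_sub (by omega)]; simp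
  have hy : D.ε * (charDegree (θ₀ : G → ℂ) : ℤ) =
      (e : ℤ) + (p : ℤ) * ((D.A.card : ℤ) * (n : ℤ) - (D.B.card : ℤ)) := by
    have h1 := D.rel θ₀ hθ₀ 1 h1reg
    rw [D.sum_X_split hδ1] at h1
    have hsA : ∑ χ ∈ D.A, (D.δ χ : ℂ) * (χ : G → ℂ) 1 = (D.A.card : ℂ) * (1 + n * p) := by
      have h0 : ∀ χ ∈ D.A, (D.δ χ : ℂ) * (χ : G → ℂ) 1 = (1 + n * p : ℂ) := by
        intro χ hχ
        rw [((D.mem_A χ).mp hχ).2.2, Cfsg.Agent.Lib.helper83.irr_one_eq_charDegree, hA χ hχ]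
        push_cast; ring
      rw [Finset.sum_congr rfl h0, Finset.sum_const, nsmul_eq_mul]
    have hsB : ∑ χ ∈ D.B, (D.δ χ : ℂ) * (χ : G → ℂ) 1 = -(D.B.card : ℂ) * ((p : ℂ) - 1) := by
      have h0 : ∀ χ ∈ D.B, (D.δ χ : ℂ) * (χ : G → ℂ) 1 = -((p : ℂ) - 1) := by
        intro χ hχ
        rw [((D.mem_B χ).mp hχ).2, Cfsg.Agent.Lib.helper83.irr_one_eq_charDegree, hB χ hχ, hpm1]
        push_cast; ring
      rw [Finset.sum_congr rfl h0, Finset.sum_const, nsmul_eq_mul]; ring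
    rw [hsA, hsB, hδ1, Cfsg.Agent.Lib.helper83.irr_one_eq_charDegree, Cfsg.Agent.Lib.helper81.trivChar_apply] at h1
    have habC : (e : ℂ) = 1 + (D.A.card : ℂ) + (D.B.card : ℂ) := by
      have h0 : e = 1 + D.A.card + D.B.card := hab.symm
      exact_mod_cast h0
    have h2 : ((D.ε * (charDegree (θ₀ : G → ℂ) : ℤ) : ℤ) : ℂ) =
        (((e : ℤ) + (p : ℤ) * ((D.A.card : ℤ) * (n : ℤ) - (D.B.card : ℤ)) : ℤ) : ℂ) := by
      push_cast
      rw [h1, habC]
      ring
    exact_mod_cast h2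
  have hθ₀X : θ₀ ∉ D.X := fun h => (Finset.disjoint_left.mp D.disj h) hθ₀
  have hy2 : 2 ≤ charDegree (θ₀ : G → ℂ) := by
    have h1 := Cfsg.Agent.Lib.helper83.charDegree_pos θ₀
    rcases Nat.lt_or_ge 1 (charDegree (θ₀ : G → ℂ)) with h | h
    · exact h
    · exfalso
      have h2 : charDegree (θ₀ : G → ℂ) = 1 := by omega
      exact hθ₀X (Cfsg.Agent.Lib.helper20.Br.lin_perfect hperf θ₀ h2 ▸ D.one_mem)
  have hepos : 0 < e := by omega
  have hele : e ≤ p - 1 := Nat.le_of_dvd (by omega) hep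
  have hydvd : charDegree (θ₀ : G → ℂ) ∣ e * (1 + n * p) := by
    have h1 : charDegree (θ₀ : G → ℂ) ∣ Nat.card G :=
      Cfsg.Agent.Lib.helper82.irr_degree_dvd_card θ₀
    rw [hcardG] at h1
    have hcop : Nat.Coprime (charDegree (θ₀ : G → ℂ)) p := by
      rw [Nat.coprime_comm, hp.coprime_iff_not_dvd]
      intro hdvd
      have h2 := D.deg_Y θ₀ hθ₀
      have h3 : (p : ℤ) ∣ (charDegree (θ₀ : G → ℂ) : ℤ) := by exact_mod_cast hdvd
      have h4 : (p : ℤ) ∣ D.ε * (e : ℤ) := by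
        have := (Int.modEq_iff_dvd.mp h2)
        have h5 : D.ε * (e : ℤ) = (D.ε * (e : ℤ) - (charDegree (θ₀ : G → ℂ) : ℤ)) +
            (charDegree (θ₀ : G → ℂ) : ℤ) := by ring
        rw [h5]
        exact dvd_add this h3
      have h6 : (p : ℤ) ∣ (e : ℤ) := by
        rcases D.ε_sq with h | h
        · rw [h, one_mul] at h4; exact h4
        · rw [h] at h4
          have : (p : ℤ) ∣ -(e : ℤ) := by simpa using h4
          exact (dvd_neg.mp this)
      have h7 : p ∣ e := by exact_mod_cast h6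
      have := Nat.le_of_dvd hepos h7
      omega
    have h8 : charDegree (θ₀ : G → ℂ) ∣ p * (e * (1 + n * p)) := by
      have : e * p * (1 + n * p) = p * (e * (1 + n * p)) := by ring
      rw [← this]; exact h1
    exact hcop.dvd_of_dvd_mul_left h8
  have hD : ∀ d ∈ D.Dset, p ∣ charDegree (d : G → ℂ) := fun d hd =>
    Cfsg.Agent.Lib.helper72.Br.dvd_D hctx D d ((D.mem_Dset d).mp hd).1 ((D.mem_Dset d).mp hd).2
  have hsq := Cfsg.Agent.Lib.helper72.Br.sq_split hctx D (charDegree (θ₀ : G → ℂ)) hA hB hYd hD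
  have hYs : ∀ θ ∈ D.Y, psum (P : Subgroup G) (θ : G → ℂ) = -(D.ε : ℂ) * (e : ℂ) :=
    fun θ hθ => Cfsg.Agent.Lib.helper20.Br.psum_Y hctx D θ hθ
  obtain ⟨m, hm, hmle, hmsum, hnorm⟩ := Cfsg.Agent.Lib.helper6.Br.pi_decomp hctx D hA hB hYs piChar_isCharacter
    (piChar_one hn) (piChar_P hP) piChar_triv (piChar_le hP)
  have hd1 : ∀ d ∈ D.Dset, 1 ≤ charDegree (d : G → ℂ) / p := fun d hd =>
    Nat.div_pos (Nat.le_of_dvd (Cfsg.Agent.Lib.helper83.charDegree_pos d) (hD d hd)) hp.pos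
  obtain ⟨hle, heq⟩ := Cfsg.Agent.Lib.helper53.Br.finset_sq D.Dset m (fun d => charDegree (d : G → ℂ) / p) hmle hd1
  have hR : n ≤ ∑ d ∈ D.Dset, (charDegree (d : G → ℂ) / p) ^ 2 := by
    rw [hmsum] at hle; exact hle
  obtain ⟨hRn, hcase⟩ := arith_core p e n D.A.card D.B.card D.Y.card (charDegree (θ₀ : G → ℂ))
    (∑ d ∈ D.Dset, (charDegree (d : G → ℂ) / p) ^ 2) D.ε hp hp2 hab hte hn1 hn2 D.ε_sq hy hy2
    hydvd hsq hR
  have hmd : ∀ d ∈ D.Dset, m d = charDegree (d : G → ℂ) / p := heq (hmsum.trans hRn.symm)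
  have hnorm' : classInner (piChar P) (piChar P) = ((n + 1 : ℕ) : ℂ) := by
    rw [hnorm]
    congr 1
    rw [Finset.sum_congr rfl (fun d hd => by rw [hmd d hd]), hRn]
    ring
  have horb : Nat.card (MulAction.orbitRel.Quotient
        (Subgroup.normalizer ((P : Subgroup G) : Set G)) (Sylow p G)) = n + 1 := by
    have h1 := Cfsg.Agent.Lib.helper81.Br.piChar_norm (P := P)
    rw [hnorm'] at h1
    exact_mod_cast h1.symm
  have hK := (Cfsg.Agent.Lib.helper66.Br.orbits_le hctx).2 horb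
  have hblk := Cfsg.Agent.Lib.helper66.Br.blocks hctx hK
  by_cases hev : 2 ∣ e
  · -- `e` even
    obtain ⟨μ, hμpm, hμP, hμ1, hμinv⟩ := Cfsg.Agent.Lib.helper52.Br.exists_mu2 hctx hev
    obtain ⟨hτc, hτ1, hτx, hτt⟩ := Cfsg.Agent.Lib.helper56.Br.tau_basic hctx μ hμP hμ1
    have hτn := (Cfsg.Agent.Lib.helper81.Br.tau_norm μ hμpm hμinv).trans hnorm'
    have hτcf := Cfsg.Agent.Lib.helper84.indFun_isClassFunction (Subgroup.normalizer ((P : Subgroup G) : Set G))
      (fun h => ((μ h : ℂˣ) : ℂ))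
    have hπD : ∀ d ∈ D.Dset, classInner (piChar P) (d : G → ℂ) =
        ((charDegree (d : G → ℂ) / p : ℕ) : ℂ) := fun d hd => by rw [hm d, hmd d hd]
    obtain ⟨hε, htn⟩ := Cfsg.Agent.Lib.helper6.Br.tau_end hctx D hA hB hYs hπD _ hτc hτ1 hτx hτt hτn
      (fun ψ hψ => rest_le hP μ hμP hμ1 ψ hψ)
      (fun θ hθ θ' hθ' => Cfsg.Agent.Lib.helper20.Br.inner_const hctx D _ hτcf 1 hτx θ θ' hθ hθ')
    rcases hcase with ⟨hε1, -, -⟩ | ⟨-, σ, hσ1, hbσ, htσ, hyσ⟩
    · rw [hε] at hε1; omega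
    · have hσ : σ = 1 := by
        rw [htn] at htσ
        have : (n + 1) * σ = (n + 1) * 1 := by rw [htσ]; ring
        exact Nat.eq_of_mul_eq_mul_left (by omega) this
      subst hσ
      have hS := Cfsg.Agent.Lib.helper72.Br.deg_split_le hctx D (charDegree (θ₀ : G → ℂ)) hA hB hYd hD hRn
      have hI := Cfsg.Agent.Lib.helper52.Br.invol_count hctx hev
      have hIS := Cfsg.Agent.Lib.helper72.Br.fs_bound (G := G)
      rcases arith_fs p e n D.A.card D.B.card D.Y.card (charDegree (θ₀ : G → ℂ))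
        (Nat.card {g : G // orderOf g = 2}) (∑ ψ : IrrCharacter G, charDegree (ψ : G → ℂ))
        hp3 hn1 hab hte (by omega) htn (by omega) hS hI hIS with ha0 | hn1'
      · -- case (β)
        right
        have hb1 : D.B.card = 1 := by rw [hbσ, ha0]; ring
        have he2' : e = 2 := by omega
        have hpn : 2 * n + 3 = p := by
          rw [htn, he2'] at hte; omega
        obtain ⟨χ, hχ⟩ := Finset.card_eq_one.mp hb1
        have hχB : χ ∈ D.B := by rw [hχ]; exact Finset.mem_singleton_self χ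
        have hχX : χ ∈ D.X := ((D.mem_B χ).mp hχB).1
        have hχδ : D.δ χ = -1 := ((D.mem_B χ).mp hχB).2
        have hA0 : D.A = ∅ := Finset.card_eq_zero.mp ha0
        refine ⟨he2', hpn, χ, (D.Y : Set (IrrCharacter G)), ?_, ?_, ?_, ?_, ?_⟩
        · rw [Cfsg.Agent.Lib.helper83.irr_one_eq_charDegree, hB χ hχB, hpm1]
        · intro g hg
          obtain ⟨h, hh⟩ := Cfsg.Agent.Lib.helper66.Br.psing_conj hP hC g hg
          have hne : h⁻¹ * g * h ≠ 1 := by
            intro h1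
            have : g = 1 := by
              have h2 : g = h * (h⁻¹ * g * h) * h⁻¹ := by group
              rw [h2, h1]; group
            rw [this, orderOf_one] at hg
            have := Nat.le_of_dvd one_pos hg
            omega
          have h1 := D.val_X χ hχX _ hh hne
          have h2 := Cfsg.Agent.Lib.helper83.irr_conj χ g h⁻¹
          rw [inv_inv] at h2
          rw [← h2, h1, hχδ]
          norm_num
        · rw [Nat.card_coe_set_eq, Set.ncard_coe_finset, htn]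
          omega
        · intro θ hθ
          have hθ' : θ ∈ D.Y := hθ
          rw [Cfsg.Agent.Lib.helper83.irr_one_eq_charDegree, hYd θ hθ']
          have : charDegree (θ₀ : G → ℂ) = p - 2 := by omega
          rw [this, Nat.cast_sub (by omega)]
          norm_num
        · intro θ hθ g hg
          have hθ' : θ ∈ D.Y := hθ
          have h1 := D.rel θ hθ' g hg
          rw [D.sum_X_split hδ1, hA0, hχ, Finset.sum_empty, Finset.sum_singleton, hδ1, hχδ, hε,
            Cfsg.Agent.Lib.helper81.trivChar_apply] at h1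
          push_cast at h1
          linear_combination -h1
      · -- case (α)
        left
        refine ⟨hn1', ?_⟩
        rw [htn, hn1'] at hte
        omega
  · -- `e` odd
    rcases hcase with ⟨hε1, hban, hye⟩ | ⟨-, σ, hσ1, hbσ, htσ, hyσ⟩
    · have ht2 : 2 ≤ D.Y.card := by
        rcases Nat.lt_or_ge 1 D.Y.card with h | h
        · exact h
        · exfalso
          have h1 : D.Y.card = 1 := by omega
          rw [h1, one_mul] at hte
          have hpodd : ¬ 2 ∣ p := by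
            intro h2
            have := (Nat.prime_dvd_prime_iff_eq Nat.prime_two hp).mp h2
            omega
          apply hev
          rw [hte]
          omega
      obtain ⟨hn1', ht2'⟩ := Cfsg.Agent.Lib.helper6.Br.theta_sq_end hctx D hε1 hA hB (fun θ hθ => (hYd θ hθ).trans hye)
        hYs (fun θ hθ => Cfsg.Agent.Lib.helper20.Br.psum_sq_Y hctx D θ hθ) hD ht2
      left
      refine ⟨hn1', ?_⟩
      rw [ht2'] at hte
      exact hte
    · exact (arith_parity p e n D.A.card D.B.card D.Y.card σ hp he2 hab hte hbσ htσ hn2 hblk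
        hev).elim

end Cfsg.Agent.Lib.helper84.Br
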