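import Mathlib
import Cfsg.Prelude.Def_Blocks
import Cfsg.Agent.Lib.helper83.CharBasic
import Cfsg.Agent.Lib.helper83.CharBasic2
import Cfsg.Agent.Lib.helper82.CharSums
import Cfsg.Agent.Lib.helper84.Brauer

/-!
# Twisting irreducible characters by linear characters (helper84)

* `twistRep`, `isCharacter_twist`, `irr_twist`: `g ↦ λ g * χ g` is an (irreducible) character for a
  linear character `λ : G →* ℂˣ`.
* `linCharAction`: the action of `G →* ℂˣ` on `IrrCharacter G`.
* `card_le_degree_sq_of_twist_fixed`: a group of linear characters fixing `χ` under multiplication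
  has at most `χ(1)^2` elements.
-/

set_option autoImplicit false

namespace Cfsg.Agent.Lib.helper84

open Cfsg Cfsg.Agent.Lib.helper83
open scoped ComplexConjugate

universe u

variable {G : Type u} [Group G]

/-- Values of a linear character of a finite group have absolute value one. -/
theorem linChar_mul_conj [Finite G] (lam : G →* ℂˣ) (g : G) :
    ((lam g : ℂˣ) : ℂ) * conj ((lam g : ℂˣ) : ℂ) = 1 := by
  have h1 : ((lam g : ℂˣ) : ℂ) ^ (orderOf g) = 1 := by
    rw [← Units.val_pow_eq_pow_val, ← map_pow, pow_orderOf_eq_one, map_one, Units.val_one]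
  have h2 : ‖((lam g : ℂˣ) : ℂ)‖ = 1 :=
    Complex.norm_eq_one_of_pow_eq_one h1 (orderOf_pos g).ne'
  rw [Complex.mul_conj, Complex.normSq_eq_norm_sq, h2]
  simp

/-- The representation `g ↦ λ g • ρ g`. -/
noncomputable def twistRep {n : ℕ} (lam : G →* ℂˣ) (ρ : Representation ℂ G (Fin n → ℂ)) :
    Representation ℂ G (Fin n → ℂ) where
  toFun g := ((lam g : ℂˣ) : ℂ) • ρ g
  map_one' := by simp
  map_mul' g h := by
    rw [map_mul, map_mul, Units.val_mul, smul_mul_smul_comm]

theorem twistRep_character {n : ℕ} (lam : G →* ℂˣ) (ρ : Representation ℂ G (Fin n → ℂ))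
    (g : G) : (twistRep lam ρ).character g = ((lam g : ℂˣ) : ℂ) * ρ.character g := by
  show LinearMap.trace ℂ _ (((lam g : ℂˣ) : ℂ) • ρ g) = _
  rw [map_smul, smul_eq_mul]
  rfl

theorem isCharacter_twist (lam : G →* ℂˣ) {χ : G → ℂ} (hχ : IsCharacter G χ) :
    IsCharacter G (fun g => ((lam g : ℂˣ) : ℂ) * χ g) := by
  obtain ⟨n, ρ, rfl⟩ := hχ
  exact ⟨n, twistRep lam ρ, funext (twistRep_character lam ρ)⟩

/-- The product of a linear character and an irreducible character is irreducible. -/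
theorem irr_twist [Finite G] (lam : G →* ℂˣ) (χ : IrrCharacter G) :
    IsIrrCharacter G (fun g => ((lam g : ℂˣ) : ℂ) * (χ : G → ℂ) g) := by
  classical
  have := Fintype.ofFinite G
  apply isIrrCharacter_of_isCharacter_norm_one (isCharacter_twist lam (isCharacter_of_irr χ.2))
  have h := classInner_irr χ χ
  rw [if_pos rfl, classInner_def] at h
  rw [classInner_def, ← h]
  congr 1
  refine Finset.sum_congr rfl fun g _ => ?_
  rw [map_mul]
  calc ((lam g : ℂˣ) : ℂ) * (χ : G → ℂ) g * (conj ((lam g : ℂˣ) : ℂ) * conj ((χ : G → ℂ) g))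
      = (((lam g : ℂˣ) : ℂ) * conj ((lam g : ℂˣ) : ℂ)) *
          ((χ : G → ℂ) g * conj ((χ : G → ℂ) g)) := by ring
    _ = _ := by rw [linChar_mul_conj, one_mul]

/-- The group of linear characters acts on the irreducible characters by multiplication. -/
noncomputable instance linCharAction [Finite G] : MulAction (G →* ℂˣ) (IrrCharacter G) where
  smul lam χ := ⟨fun g => ((lam g : ℂˣ) : ℂ) * (χ : G → ℂ) g, irr_twist lam χ⟩
  one_smul χ := by
    apply Subtype.ext
    funext g
    show (((1 : G →* ℂˣ) g : ℂˣ) : ℂ) * (χ : G → ℂ) g = (χ : G → ℂ) g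
    simp
  mul_smul a b χ := by
    apply Subtype.ext
    funext g
    show (((a * b) g : ℂˣ) : ℂ) * (χ : G → ℂ) g =
      ((a g : ℂˣ) : ℂ) * (((b g : ℂˣ) : ℂ) * (χ : G → ℂ) g)
    simp [mul_assoc]

theorem linChar_smul_apply [Finite G] (lam : G →* ℂˣ) (χ : IrrCharacter G) (g : G) :
    ((lam • χ : IrrCharacter G) : G → ℂ) g = ((lam g : ℂˣ) : ℂ) * (χ : G → ℂ) g := rfl

/-- A group of linear characters all fixing the irreducible character `χ` under multiplication
has at most `χ(1)^2` elements. -/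
theorem card_le_degree_sq_of_twist_fixed [Finite G] {S : Type*} [Group S] [Finite S]
    (φ : S →* (G →* ℂˣ)) (hφ : Function.Injective φ) (χ : IrrCharacter G)
    (hfix : ∀ (s : S) (g : G), ((φ s g : ℂˣ) : ℂ) * (χ : G → ℂ) g = (χ : G → ℂ) g) :
    Nat.card S ≤ (charDegree (χ : G → ℂ)) ^ 2 := by
  classical
  have := Fintype.ofFinite G
  have := Fintype.ofFinite S
  set K : Finset G := Finset.univ.filter (fun g => ∀ s : S, φ s g = 1) with hK
  have hvanish : ∀ g, g ∉ K → (χ : G → ℂ) g = 0 := by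
    intro g hg
    rw [hK, Finset.mem_filter] at hg
    simp only [Finset.mem_univ, true_and, not_forall] at hg
    obtain ⟨s, hs⟩ := hg
    have h1 := hfix s g
    have h2 : (((φ s g : ℂˣ) : ℂ) - 1) * (χ : G → ℂ) g = 0 := by rw [sub_mul, h1, one_mul, sub_self]
    rcases mul_eq_zero.1 h2 with h3 | h3
    · exfalso
      apply hs
      apply Units.ext
      rw [Units.val_one]
      exact sub_eq_zero.1 h3
    · exact h3
  have hsum : ∀ g : G, ∑ s : S, ((φ s g : ℂˣ) : ℂ) = if g ∈ K then (Fintype.card S : ℂ) else 0 := by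
    intro g
    by_cases hg : g ∈ K
    · rw [if_pos hg]
      rw [hK, Finset.mem_filter] at hg
      simp [hg.2]
    · rw [if_neg hg]
      rw [hK, Finset.mem_filter] at hg
      simp only [Finset.mem_univ, true_and, not_forall] at hg
      obtain ⟨s₀, hs₀⟩ := hg
      have h1 : ∑ s : S, ((φ (s₀ * s) g : ℂˣ) : ℂ) = ∑ s : S, ((φ s g : ℂˣ) : ℂ) :=
        Equiv.sum_comp (Equiv.mulLeft s₀) (fun s => ((φ s g : ℂˣ) : ℂ))
      have h2 : ∑ s : S, ((φ (s₀ * s) g : ℂˣ) : ℂ) =
          ((φ s₀ g : ℂˣ) : ℂ) * ∑ s : S, ((φ s g : ℂˣ) : ℂ) := by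
        rw [Finset.mul_sum]
        refine Finset.sum_congr rfl fun s _ => ?_
        rw [map_mul, MonoidHom.mul_apply, Units.val_mul]
      rw [h2] at h1
      have h3 : (((φ s₀ g : ℂˣ) : ℂ) - 1) * ∑ s : S, ((φ s g : ℂˣ) : ℂ) = 0 := by
        rw [sub_mul, h1, one_mul, sub_self]
      rcases mul_eq_zero.1 h3 with h4 | h4
      · exfalso
        apply hs₀
        apply Units.ext
        rw [Units.val_one]
        exact sub_eq_zero.1 h4
      · exact h4
  have horth : ∀ s : S, ∑ g : G, ((φ s g : ℂˣ) : ℂ) = if s = 1 then (Fintype.card G : ℂ) else 0 := by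
    intro s
    by_cases hs : s = 1
    · subst hs
      rw [if_pos rfl, map_one]
      simp
    · rw [if_neg hs]
      have hne : φ s ≠ 1 := fun h => hs (hφ (by rw [h, map_one]))
      obtain ⟨g₀, hg₀⟩ : ∃ g₀ : G, φ s g₀ ≠ 1 := by
        by_contra hcon
        simp only [not_exists, not_not] at hcon
        exact hne (MonoidHom.ext hcon)
      have h1 : ∑ g : G, ((φ s (g₀ * g) : ℂˣ) : ℂ) = ∑ g : G, ((φ s g : ℂˣ) : ℂ) :=
        Equiv.sum_comp (Equiv.mulLeft g₀) (fun g => ((φ s g : ℂˣ) : ℂ))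
      have h2 : ∑ g : G, ((φ s (g₀ * g) : ℂˣ) : ℂ) =
          ((φ s g₀ : ℂˣ) : ℂ) * ∑ g : G, ((φ s g : ℂˣ) : ℂ) := by
        rw [Finset.mul_sum]
        refine Finset.sum_congr rfl fun g _ => ?_
        rw [map_mul, Units.val_mul]
      rw [h2] at h1
      have h3 : (((φ s g₀ : ℂˣ) : ℂ) - 1) * ∑ g : G, ((φ s g : ℂˣ) : ℂ) = 0 := by
        rw [sub_mul, h1, one_mul, sub_self]
      rcases mul_eq_zero.1 h3 with h4 | h4
      · exfalso
        apply hg₀
        apply Units.ext
        rw [Units.val_one]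
        exact sub_eq_zero.1 h4
      · exact h4
  -- double counting: |K| * |S| = |G|
  have hKS : K.card * Fintype.card S = Fintype.card G := by
    have h1 : ∑ g : G, ∑ s : S, ((φ s g : ℂˣ) : ℂ) = (K.card : ℂ) * (Fintype.card S : ℂ) := by
      simp_rw [hsum]
      rw [← Finset.sum_filter]
      simp [hK]
    have h2 : ∑ g : G, ∑ s : S, ((φ s g : ℂˣ) : ℂ) = (Fintype.card G : ℂ) := by
      rw [Finset.sum_comm]
      simp_rw [horth]
      simp
    rw [h1] at h2
    exact_mod_cast h2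
  -- norm computation
  have hnorm : ∑ g ∈ K, ‖(χ : G → ℂ) g‖ ^ 2 = (Fintype.card G : ℝ) := by
    have h1 := irr_orthogonality' χ χ
    rw [if_pos rfl] at h1
    have h2 : ∑ g : G, (χ : G → ℂ) g * conj ((χ : G → ℂ) g) =
        ((∑ g ∈ K, ‖(χ : G → ℂ) g‖ ^ 2 : ℝ) : ℂ) := by
      rw [Complex.ofReal_sum]
      have h3 : ∑ g ∈ K, (χ : G → ℂ) g * conj ((χ : G → ℂ) g) =
          ∑ g : G, (χ : G → ℂ) g * conj ((χ : G → ℂ) g) := by
        apply Finset.sum_subset (Finset.subset_univ K)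
        intro g _ hg
        rw [hvanish g hg]
        simp
      rw [← h3]
      refine Finset.sum_congr rfl fun g _ => ?_
      rw [Complex.mul_conj, Complex.normSq_eq_norm_sq]
    rw [h2, Nat.card_eq_fintype_card] at h1
    exact_mod_cast h1
  have hle : (Fintype.card G : ℝ) ≤ (K.card : ℝ) * ((charDegree (χ : G → ℂ) : ℝ)) ^ 2 := by
    rw [← hnorm]
    calc ∑ g ∈ K, ‖(χ : G → ℂ) g‖ ^ 2 ≤ ∑ _g ∈ K, ((charDegree (χ : G → ℂ) : ℝ)) ^ 2 := by
          refine Finset.sum_le_sum fun g _ => ?_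
          exact pow_le_pow_left₀ (norm_nonneg _) (Cfsg.Agent.Lib.helper82.irr_norm_le χ g) 2
      _ = (K.card : ℝ) * ((charDegree (χ : G → ℂ) : ℝ)) ^ 2 := by
          rw [Finset.sum_const, nsmul_eq_mul]
  have hKpos : 0 < K.card := by
    apply Finset.card_pos.2
    refine ⟨1, ?_⟩
    rw [hK, Finset.mem_filter]
    exact ⟨Finset.mem_univ _, fun s => map_one _⟩
  have hle' : K.card * Fintype.card S ≤ K.card * (charDegree (χ : G → ℂ)) ^ 2 := by
    rw [hKS]
    exact_mod_cast hle
  rw [Nat.card_eq_fintype_card]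
  exact Nat.le_of_mul_le_mul_left hle' hKpos

end Cfsg.Agent.Lib.helper84
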