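import Mathlib
import Cfsg.Prelude.Def_Blocks
import Cfsg.Prelude.Def_BlockRank
import Cfsg.Agent.Lib.helper82.Clifford
import Cfsg.Agent.Lib.helper82.CharSums
import Cfsg.Agent.Lib.helper82.Ito
import Cfsg.Agent.Lib.helper80.BlockIdem
import Cfsg.Agent.Lib.helper80.DefectGroup
import Cfsg.Agent.Lib.helper80.LocalInt
import Cfsg.Agent.Lib.helper79.Contrib
import Cfsg.Agent.Lib.helper79.DefectDeg
import Cfsg.Agent.Lib.helper20.DefectSection
import Cfsg.Agent.Lib.helper20.DefectCentral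
import Cfsg.Agent.Lib.helper20.BlockPart
import Cfsg.Agent.Lib.helper20.SubAlg
import Cfsg.Agent.Lib.helper81.CharOrtho
import Cfsg.Agent.Lib.helper4.CharTheory
import Cfsg.Agent.Lib.helper84.BlockOrth

/-!
# Groups of the form `G = P · C_G(P)` (helper84)

Group theory and summation lemmas for a subgroup `P` with `P ⊔ C_G(P) = ⊤`, and the
factorization `χ (u * c) * χ 1 = χ u * χ c` of irreducible characters (`u ∈ P`, `c ∈ C_G(P)`).
-/

set_option autoImplicit false
set_option linter.style.haveILetI false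

namespace Cfsg.Agent.Lib.helper84

open Cfsg Cfsg.Agent.Lib.helper20 Cfsg.Agent.Lib.helper80 Cfsg.Agent.Lib.helper81
open scoped ComplexConjugate

universe u

section CentralProd

variable {G : Type u} [Group G]

/-- If `P ⊔ C_G(P) = ⊤`, every element is `u * c` with `u ∈ P` and `c` centralizing `P`. -/
theorem exists_mul_of_sup_centralizer {P : Subgroup G}
    (hG : P ⊔ Subgroup.centralizer (P : Set G) = ⊤) (g : G) :
    ∃ u ∈ P, ∃ c ∈ Subgroup.centralizer (P : Set G), g = u * c := by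
  let S : Subgroup G :=
    { carrier := {g | ∃ u ∈ P, ∃ c ∈ Subgroup.centralizer (P : Set G), g = u * c}
      mul_mem' := by
        rintro a b ⟨u, hu, c, hc, rfl⟩ ⟨u', hu', c', hc', rfl⟩
        refine ⟨u * u', P.mul_mem hu hu', c * c', Subgroup.mul_mem _ hc hc', ?_⟩
        have h1 : u' * c = c * u' := Subgroup.mem_centralizer_iff.mp hc u' hu'
        calc u * c * (u' * c') = u * (c * u') * c' := by group
          _ = u * (u' * c) * c' := by rw [h1]
          _ = u * u' * (c * c') := by group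
      one_mem' := ⟨1, P.one_mem, 1, Subgroup.one_mem _, by simp⟩
      inv_mem' := by
        rintro a ⟨u, hu, c, hc, rfl⟩
        refine ⟨u⁻¹, P.inv_mem hu, c⁻¹, Subgroup.inv_mem _ hc, ?_⟩
        have h1 : u * c = c * u := Subgroup.mem_centralizer_iff.mp hc u hu
        rw [h1]; group }
  have h1 : P ⊔ Subgroup.centralizer (P : Set G) ≤ S := by
    apply sup_le
    · intro u hu; exact ⟨u, hu, 1, Subgroup.one_mem _, by simp⟩
    · intro c hc; exact ⟨1, P.one_mem, c, hc, by simp⟩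
  have h2 : g ∈ S := h1 (by rw [hG]; trivial)
  exact h2

/-- `P` is normal when `P ⊔ C_G(P) = ⊤`. -/
theorem normal_of_sup_centralizer {P : Subgroup G}
    (hG : P ⊔ Subgroup.centralizer (P : Set G) = ⊤) : P.Normal := by
  constructor
  intro n hn g
  obtain ⟨u, hu, c, hc, rfl⟩ := exists_mul_of_sup_centralizer hG g
  have h1 : n * c = c * n := Subgroup.mem_centralizer_iff.mp hc n hn
  have h2 : u * c * n * (u * c)⁻¹ = u * n * u⁻¹ := by
    calc u * c * n * (u * c)⁻¹ = u * (c * n) * c⁻¹ * u⁻¹ := by group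
      _ = u * (n * c) * c⁻¹ * u⁻¹ := by rw [h1]
      _ = u * n * u⁻¹ := by group
  rw [h2]
  exact P.mul_mem (P.mul_mem hu hn) (P.inv_mem hu)

/-- `C_G(P)` is normal when `P ⊔ C_G(P) = ⊤`. -/
theorem centralizer_normal_of_sup {P : Subgroup G}
    (hG : P ⊔ Subgroup.centralizer (P : Set G) = ⊤) :
    (Subgroup.centralizer (P : Set G)).Normal := by
  constructor
  intro x hx g
  obtain ⟨u, hu, c, hc, rfl⟩ := exists_mul_of_sup_centralizer hG g
  have hcx : c * x * c⁻¹ ∈ Subgroup.centralizer (P : Set G) :=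
    mul_mem (mul_mem hc hx) (inv_mem hc)
  have h1 : u * (c * x * c⁻¹) = (c * x * c⁻¹) * u := Subgroup.mem_centralizer_iff.mp hcx u hu
  have h2 : u * c * x * (u * c)⁻¹ = c * x * c⁻¹ := by
    calc u * c * x * (u * c)⁻¹ = u * (c * x * c⁻¹) * u⁻¹ := by group
      _ = (c * x * c⁻¹) * u * u⁻¹ := by rw [h1]
      _ = c * x * c⁻¹ := by group
  rw [h2]; exact hcx

/-- The elements of order prime to `p` centralize the `p`-subgroup `P` when
`P ⊔ C_G(P) = ⊤`. -/
theorem mem_centralizer_of_pRegular {p : ℕ} (hp : p.Prime) {P : Subgroup G} (hP : IsPGroup p P)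
    (hG : P ⊔ Subgroup.centralizer (P : Set G) = ⊤) (y : G) (hy : ¬ p ∣ orderOf y) :
    y ∈ Subgroup.centralizer (P : Set G) := by
  obtain ⟨u, hu, c, hc, rfl⟩ := exists_mul_of_sup_centralizer hG y
  obtain ⟨k, hk⟩ := hP ⟨u, hu⟩
  have hk' : u ^ (p ^ k) = 1 := by simpa using congrArg Subtype.val hk
  have hcomm : Commute u c := Subgroup.mem_centralizer_iff.mp hc u hu
  have h1 : (u * c) ^ (p ^ k) = c ^ (p ^ k) := by rw [hcomm.mul_pow, hk', one_mul]
  have hcop : (p ^ k).Coprime (orderOf (u * c)) :=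
    Nat.Coprime.pow_left k ((Nat.Prime.coprime_iff_not_dvd hp).mpr hy)
  obtain ⟨m, hm⟩ := exists_pow_eq_self_of_coprime hcop
  rw [← hm, h1]
  exact Subgroup.pow_mem _ (Subgroup.pow_mem _ hc _) _

/-- Elements of a `p`-subgroup have `p`-power order. -/
theorem exists_orderOf_eq_pow_of_mem {p : ℕ} [Fact p.Prime] {P : Subgroup G} (hP : IsPGroup p P)
    {u : G} (hu : u ∈ P) : ∃ k : ℕ, orderOf u = p ^ k := by
  obtain ⟨k, hk⟩ := (IsPGroup.iff_orderOf.mp hP) ⟨u, hu⟩
  exact ⟨k, by rw [← hk, Subgroup.orderOf_mk]⟩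

/-- A sum over `G` of a function vanishing unless the `p`-part lies in `P`, as a double sum over
`P` and the elements of order prime to `p`. -/
theorem sum_eq_sum_prod_pRegular [Fintype G] {p : ℕ} [Fact p.Prime] {P : Subgroup G} [Fintype P]
    (hP : IsPGroup p P) (hG : P ⊔ Subgroup.centralizer (P : Set G) = ⊤) (F : G → ℂ)
    (hF : ∀ g x : G, IsPPart p g x → x ∉ P → F g = 0) :
    ∑ g : G, F g = ∑ u : P, ∑ y : G, if ¬ p ∣ orderOf y then F ((u : G) * y) else 0 := by
  classical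
  have hp := (Fact.out : p.Prime)
  have h1 : ∀ u : P, ∑ y : G, (if ¬ p ∣ orderOf y then F ((u : G) * y) else 0)
      = ∑ g : G, if ¬ p ∣ orderOf ((u : G)⁻¹ * g) then F g else 0 := by
    intro u
    refine Fintype.sum_equiv (Equiv.mulLeft (u : G)) _ _ (fun y => ?_)
    simp
  rw [Finset.sum_congr rfl (fun u _ => h1 u), Finset.sum_comm]
  refine Finset.sum_congr rfl (fun g _ => ?_)
  obtain ⟨a, ha⟩ := exists_isPPart_zpow hp g
  by_cases hx : g ^ a ∈ P
  · rw [Finset.sum_eq_single (⟨g ^ a, hx⟩ : P)]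
    · obtain ⟨y, hxy, hc, hk, hy⟩ := ha
      have h2 : (g ^ a)⁻¹ * g = y := by rw [inv_mul_eq_iff_eq_mul]; exact hxy.symm
      simp only [h2]
      rw [if_pos hy]
    · intro u _ hu
      rw [if_neg]
      intro hreg
      apply hu
      have hyC := mem_centralizer_of_pRegular hp hP hG _ hreg
      have hcomm : (u : G) * ((u : G)⁻¹ * g) = ((u : G)⁻¹ * g) * u :=
        Subgroup.mem_centralizer_iff.mp hyC u u.2
      have hpp : IsPPart p ((u : G) * ((u : G)⁻¹ * g)) (u : G) :=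
        isPPart_mul hcomm (exists_orderOf_eq_pow_of_mem hP u.2) hreg
      have hg : (u : G) * ((u : G)⁻¹ * g) = g := by group
      rw [hg] at hpp
      exact Subtype.ext (isPPart_unique hp hpp ha)
    · intro h; exact absurd (Finset.mem_univ _) h
  · rw [hF g _ ha hx]
    simp

/-- Fibre count for the multiplication map `P × C_G(P) → G`. -/
theorem sum_prod_centralizer [Fintype G] {P : Subgroup G} [Fintype P]
    [Fintype (Subgroup.centralizer (P : Set G))]
    (hG : P ⊔ Subgroup.centralizer (P : Set G) = ⊤) (f : G → ℂ) :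
    ∑ u : P, ∑ c : Subgroup.centralizer (P : Set G), f ((u : G) * (c : G))
      = (Nat.card (P ⊓ Subgroup.centralizer (P : Set G) : Subgroup G) : ℂ) * ∑ g : G, f g := by
  classical
  have h1 : ∀ u : P, ∑ c : Subgroup.centralizer (P : Set G), f ((u : G) * (c : G))
      = ∑ g : G, if (u : G)⁻¹ * g ∈ Subgroup.centralizer (P : Set G) then f g else 0 := by
    intro u
    have h2 := sum_subgroup_eq_sum (Subgroup.centralizer (P : Set G))
      (fun c => if c ∈ Subgroup.centralizer (P : Set G) then f ((u : G) * c) else 0)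
      (fun x hx => if_neg hx)
    have h3 : ∑ c : Subgroup.centralizer (P : Set G), f ((u : G) * (c : G))
        = ∑ c : Subgroup.centralizer (P : Set G),
          (fun c : G => if c ∈ Subgroup.centralizer (P : Set G) then f ((u : G) * c) else 0) c :=
      Finset.sum_congr rfl (fun c _ => (if_pos c.2).symm)
    rw [h3, h2]
    refine Fintype.sum_equiv (Equiv.mulLeft (u : G)) _ _ (fun y => ?_)
    simp
  rw [Finset.sum_congr rfl (fun u _ => h1 u), Finset.sum_comm, Finset.mul_sum]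
  refine Finset.sum_congr rfl (fun g _ => ?_)
  rw [← Finset.sum_filter, Finset.sum_const, nsmul_eq_mul]
  congr 1
  obtain ⟨u₀, hu₀, c₀, hc₀, rfl⟩ := exists_mul_of_sup_centralizer hG g
  have h4 : (Finset.univ.filter (fun u : P =>
      (u : G)⁻¹ * (u₀ * c₀) ∈ Subgroup.centralizer (P : Set G))).card
      = Nat.card (P ⊓ Subgroup.centralizer (P : Set G) : Subgroup G) := by
    rw [← Fintype.card_subtype, ← Nat.card_eq_fintype_card]
    refine Nat.card_congr
      { toFun := fun u => ⟨u₀⁻¹ * (u.1 : G), ⟨P.mul_mem (P.inv_mem hu₀) u.1.2, by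
          have h5 : u₀⁻¹ * (u.1 : G) = (((u.1 : G)⁻¹ * (u₀ * c₀)) * c₀⁻¹)⁻¹ := by group
          rw [h5]
          exact Subgroup.inv_mem _ (Subgroup.mul_mem _ u.2 (Subgroup.inv_mem _ hc₀))⟩⟩
        invFun := fun z => ⟨⟨u₀ * z.1, P.mul_mem hu₀ z.2.1⟩, by
          have h5 : (u₀ * (z.1 : G))⁻¹ * (u₀ * c₀) = (z.1 : G)⁻¹ * c₀ := by group
          show (u₀ * (z.1 : G))⁻¹ * (u₀ * c₀) ∈ Subgroup.centralizer (P : Set G)
          rw [h5]
          exact Subgroup.mul_mem _ (Subgroup.inv_mem _ z.2.2) hc₀⟩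
        left_inv := fun u => by simp
        right_inv := fun z => by simp }
  rw [h4]

/-- Factorization of irreducible characters over `P · C_G(P)`. -/
theorem irr_mul_of_sup_centralizer [Fintype G] {P : Subgroup G}
    (hG : P ⊔ Subgroup.centralizer (P : Set G) = ⊤) (χ : IrrCharacter G) {u c : G} (hu : u ∈ P)
    (hc : c ∈ Subgroup.centralizer (P : Set G)) :
    (χ : G → ℂ) (u * c) * (χ : G → ℂ) 1 = (χ : G → ℂ) u * (χ : G → ℂ) c := by
  have h1 := Cfsg.Agent.Lib.helper82.irr_sum_mul_conj χ c u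
  have h2 : ∀ b : G, (χ : G → ℂ) (c * (b * u * b⁻¹)) = (χ : G → ℂ) (u * c) := by
    intro b
    obtain ⟨v, hv, c', hc', rfl⟩ := exists_mul_of_sup_centralizer hG b
    have e1 : v * c' * u * (v * c')⁻¹ = v * u * v⁻¹ := by
      have h3 : u * c' = c' * u := Subgroup.mem_centralizer_iff.mp hc' u hu
      calc v * c' * u * (v * c')⁻¹ = v * (c' * u) * c'⁻¹ * v⁻¹ := by group
        _ = v * (u * c') * c'⁻¹ * v⁻¹ := by rw [h3]
        _ = v * u * v⁻¹ := by group
    have e2 : c * (v * u * v⁻¹) = v * (u * c) * v⁻¹ := by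
      have h3 : v * c = c * v := Subgroup.mem_centralizer_iff.mp hc v hv
      have h4 : u * c = c * u := Subgroup.mem_centralizer_iff.mp hc u hu
      calc c * (v * u * v⁻¹) = (c * v) * u * v⁻¹ := by group
        _ = (v * c) * u * v⁻¹ := by rw [h3]
        _ = v * (c * u) * v⁻¹ := by group
        _ = v * (u * c) * v⁻¹ := by rw [h4]
    rw [e1, e2]
    exact irr_classFun χ (u * c) v
  rw [Finset.sum_congr rfl (fun b _ => h2 b), Finset.sum_const, Finset.card_univ,
    nsmul_eq_mul, ← Nat.card_eq_fintype_card, ← irr_one_eq_charDegree] at h1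
  have hG0 : (Nat.card G : ℂ) ≠ 0 := by exact_mod_cast Nat.card_pos.ne'
  have h10 := irr_one_ne_zero χ
  field_simp at h1
  linear_combination h1

/-- Restriction of an irreducible character to a normal subgroup `N` such that every element of
`G` is `n * k` with `n ∈ N` and `k` centralizing `N`: a multiple of one irreducible character. -/
theorem exists_irr_restrict_eq_mul [Fintype G] (N : Subgroup G) [hN : N.Normal] [Fintype N]
    (hdec : ∀ g : G, ∃ n ∈ N, ∃ k : G, (∀ m ∈ N, k * m = m * k) ∧ g = n * k)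
    (χ : IrrCharacter G) :
    ∃ (θ : IrrCharacter N) (e : ℕ), e ≠ 0 ∧ ∀ n : N, (χ : G → ℂ) n = e * (θ : N → ℂ) n := by
  classical
  letI : Fintype (IrrCharacter N) := Fintype.ofFinite _
  obtain ⟨θ, hθ, e, he, he0⟩ := Cfsg.Agent.Lib.helper82.exists_constituent_restrict N χ.2
  refine ⟨⟨θ, hθ⟩, e, he0, ?_⟩
  have hinv : ∀ g : G, Cfsg.Agent.Lib.helper82.cconj N g θ = θ := by
    intro g
    obtain ⟨n, hn, k, hk, rfl⟩ := hdec g
    rw [Cfsg.Agent.Lib.helper82.cconj_eq_iff]
    intro m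
    have h1 : (n * k) * (m : G) * (n * k)⁻¹ = n * (m : G) * n⁻¹ := by
      have h2 := hk m m.2
      calc n * k * (m : G) * (n * k)⁻¹ = n * (k * (m : G)) * k⁻¹ * n⁻¹ := by group
        _ = n * ((m : G) * k) * k⁻¹ * n⁻¹ := by rw [h2]
        _ = n * (m : G) * n⁻¹ := by group
    have h3 : (⟨(n * k) * (m : G) * (n * k)⁻¹, hN.conj_mem (m : G) m.2 (n * k)⟩ : N)
        = (⟨n, hn⟩ : N) * m * (⟨n, hn⟩ : N)⁻¹ := Subtype.ext (by simpa using h1)
    rw [h3]
    exact irr_classFun (⟨θ, hθ⟩ : IrrCharacter N) m ⟨n, hn⟩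
  intro n
  exact Cfsg.Agent.Lib.helper82.clifford_invariant N χ.2 hθ hinv e he he0 n

/-- Restriction to `P` when `P ⊔ C_G(P) = ⊤`. -/
theorem exists_irr_restrict_left [Fintype G] {P : Subgroup G} [Fintype P]
    (hG : P ⊔ Subgroup.centralizer (P : Set G) = ⊤) (χ : IrrCharacter G) :
    ∃ (μ : IrrCharacter P) (e : ℕ), e ≠ 0 ∧ ∀ u : P, (χ : G → ℂ) u = e * (μ : P → ℂ) u := by
  have := normal_of_sup_centralizer hG
  refine exists_irr_restrict_eq_mul P ?_ χ
  intro g
  obtain ⟨u, hu, c, hc, rfl⟩ := exists_mul_of_sup_centralizer hG g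
  exact ⟨u, hu, c, fun m hm => (Subgroup.mem_centralizer_iff.mp hc m hm).symm, rfl⟩

/-- Restriction to `C_G(P)` when `P ⊔ C_G(P) = ⊤`. -/
theorem exists_irr_restrict_right [Fintype G] {P : Subgroup G}
    [Fintype (Subgroup.centralizer (P : Set G))]
    (hG : P ⊔ Subgroup.centralizer (P : Set G) = ⊤) (χ : IrrCharacter G) :
    ∃ (ψ : IrrCharacter (Subgroup.centralizer (P : Set G))) (e : ℕ), e ≠ 0 ∧
      ∀ c : Subgroup.centralizer (P : Set G), (χ : G → ℂ) c = e * (ψ : _ → ℂ) c := by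
  have := centralizer_normal_of_sup hG
  refine exists_irr_restrict_eq_mul (Subgroup.centralizer (P : Set G)) ?_ χ
  intro g
  obtain ⟨u, hu, c, hc, rfl⟩ := exists_mul_of_sup_centralizer hG g
  refine ⟨c, hc, u, fun m hm => Subgroup.mem_centralizer_iff.mp hm u hu, ?_⟩
  exact Subgroup.mem_centralizer_iff.mp hc u hu

/-- The two multiplicities multiply to the degree. -/
theorem restrict_mul_degree [Fintype G] {P : Subgroup G} [Fintype P]
    [Fintype (Subgroup.centralizer (P : Set G))]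
    (hG : P ⊔ Subgroup.centralizer (P : Set G) = ⊤) (χ : IrrCharacter G)
    (μ : IrrCharacter P) (e' : ℕ) (h1 : ∀ u : P, (χ : G → ℂ) u = e' * (μ : P → ℂ) u)
    (ψ : IrrCharacter (Subgroup.centralizer (P : Set G))) (e : ℕ)
    (h2 : ∀ c : Subgroup.centralizer (P : Set G), (χ : G → ℂ) c = e * (ψ : _ → ℂ) c) :
    e * e' = charDegree (χ : G → ℂ) := by
  have ha := sum_prod_centralizer hG (fun _ => (1 : ℂ))
  have hb := sum_prod_centralizer hG (fun g => (χ : G → ℂ) g * conj ((χ : G → ℂ) g))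
  rw [Cfsg.Agent.Lib.helper80.irr_sum_mul_conj χ χ, if_pos rfl] at hb
  simp only [Finset.sum_const, Finset.card_univ, nsmul_eq_mul, mul_one,
    ← Nat.card_eq_fintype_card] at ha
  have h10 := irr_one_ne_zero χ
  have hd := irr_one_eq_charDegree χ
  have hc10 : conj ((χ : G → ℂ) 1) = (χ : G → ℂ) 1 := by rw [hd]; simp
  have h3 : ∀ (u : P) (c : Subgroup.centralizer (P : Set G)),
      (χ : G → ℂ) ((u : G) * (c : G)) * conj ((χ : G → ℂ) ((u : G) * (c : G)))
        = ((e' : ℂ) ^ 2 * ((μ : P → ℂ) u * conj ((μ : P → ℂ) u)))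
          * ((e : ℂ) ^ 2 * ((ψ : _ → ℂ) c * conj ((ψ : _ → ℂ) c))) / ((χ : G → ℂ) 1) ^ 2 := by
    intro u c
    have h4 := irr_mul_of_sup_centralizer hG χ u.2 c.2
    have h5 : (χ : G → ℂ) ((u : G) * (c : G)) = (χ : G → ℂ) u * (χ : G → ℂ) c / (χ : G → ℂ) 1 := by
      field_simp
      linear_combination h4
    rw [h5, map_div₀, map_mul, hc10, h1 u, h2 c]
    simp only [map_mul, Complex.conj_natCast]
    field_simp
  have h6 : ∑ u : P, ∑ c : Subgroup.centralizer (P : Set G),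
      (χ : G → ℂ) ((u : G) * (c : G)) * conj ((χ : G → ℂ) ((u : G) * (c : G)))
      = ((e' : ℂ) ^ 2 * (Nat.card P : ℂ)) * ((e : ℂ) ^ 2 *
        (Nat.card (Subgroup.centralizer (P : Set G)) : ℂ)) / ((χ : G → ℂ) 1) ^ 2 := by
    rw [Finset.sum_congr rfl (fun u _ => Finset.sum_congr rfl (fun c _ => h3 u c))]
    simp_rw [← Finset.sum_div, ← Finset.mul_sum, ← Finset.sum_mul, ← Finset.mul_sum]
    rw [Cfsg.Agent.Lib.helper80.irr_sum_mul_conj μ μ, if_pos rfl,
      Cfsg.Agent.Lib.helper80.irr_sum_mul_conj ψ ψ, if_pos rfl]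
  rw [h6] at hb
  have hG0 : (Nat.card G : ℂ) ≠ 0 := by exact_mod_cast Nat.card_pos.ne'
  have hP0 : (Nat.card P : ℂ) ≠ 0 := by exact_mod_cast Nat.card_pos.ne'
  have hC0 : (Nat.card (Subgroup.centralizer (P : Set G)) : ℂ) ≠ 0 := by
    exact_mod_cast Nat.card_pos.ne'
  have h7 : ((e : ℂ) * e') ^ 2 = ((χ : G → ℂ) 1) ^ 2 := by
    have h8 : ((e' : ℂ) ^ 2 * (Nat.card P : ℂ)) * ((e : ℂ) ^ 2 *
        (Nat.card (Subgroup.centralizer (P : Set G)) : ℂ))
        = ((Nat.card P : ℂ) * (Nat.card (Subgroup.centralizer (P : Set G)) : ℂ))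
          * ((χ : G → ℂ) 1) ^ 2 := by
      rw [ha, ← hb]
      field_simp
    have h9 : ((Nat.card P : ℂ) * (Nat.card (Subgroup.centralizer (P : Set G)) : ℂ))
        * (((e : ℂ) * e') ^ 2 - ((χ : G → ℂ) 1) ^ 2) = 0 := by linear_combination h8
    rcases mul_eq_zero.mp h9 with h | h
    · exact absurd h (mul_ne_zero hP0 hC0)
    · exact sub_eq_zero.mp h
  rw [hd] at h7
  have h11 : (e * e') ^ 2 = (charDegree (χ : G → ℂ)) ^ 2 := by exact_mod_cast h7
  exact Nat.pow_left_injective (by norm_num : (2 : ℕ) ≠ 0) h11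

end CentralProd

end Cfsg.Agent.Lib.helper84
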