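import Mathlib
import Cfsg.Agent.Lib.helper84.CentralProd

/-!
# Blocks with defect group `P` of a group `G = P · C_G(P)` (helper84)

Let `B` be a `p`-block of `G` with defect group `P`, where `P ⊔ C_G(P) = ⊤` (for instance `P`
central).  Then:
* `exists_unique_restrict_const`: exactly one `θ ∈ B` has `P` in its kernel (the canonical
  character), and it has height zero (`blockHeight_eq_zero_of_restrict_const`);
* `irr_pRegular_eq_mul`: every `χ ∈ B` agrees with `μ(1) θ` on the `p`-regular elements, where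
  `χ|_P = e μ`;
* `card_block_eq_card_irr`: `χ ↦ μ` is a bijection from `B` onto the irreducible characters of `P`;
* `blockRank_eq_one_of_sup_centralizer`: `B` has `p`-regular rank one.
-/

set_option autoImplicit false
set_option linter.style.haveILetI false

namespace Cfsg.Agent.Lib.helper84

open Cfsg Cfsg.Agent.Lib.helper20 Cfsg.Agent.Lib.helper80 Cfsg.Agent.Lib.helper81
open scoped ComplexConjugate

universe u

section CentralDefect

variable {G : Type u} [Group G] [Fintype G] {p : ℕ} [Fact p.Prime] {M : Ideal AlgInt}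
  {B : Set (IrrCharacter G)} {P : Subgroup G}

omit [Fintype G] [Fact p.Prime] in
/-- Conjugation does not change `p`-regularity. -/
theorem not_dvd_orderOf_conj_iff (g x : G) :
    (¬ p ∣ orderOf (x * g * x⁻¹)) ↔ ¬ p ∣ orderOf g := by
  have h : orderOf (x * g * x⁻¹) = orderOf g := by
    have := orderOf_injective (MulAut.conj x).toMonoidHom (MulAut.conj x).injective g
    simpa using this
  rw [h]

/-- Members of `B` vanish at elements whose `p`-part is outside the (normal) defect group. -/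
theorem irr_eq_zero_of_pPart_not_mem (hM : IsPModular p M) (hB : IsPBlock M B)
    (hD : IsDefectGroup p M B P) (hG : P ⊔ Subgroup.centralizer (P : Set G) = ⊤)
    {χ : IrrCharacter G} (hχ : χ ∈ B) (g x : G) (hx : IsPPart p g x) (hxP : x ∉ P) :
    (χ : G → ℂ) g = 0 := by
  have hMp := isPrime_of_isPModular hM
  have hN := normal_of_sup_centralizer hG
  apply irr_eq_zero_of_pPart_not_mem_defect hM χ g x hx
  intro D hD'
  rw [← Cfsg.Agent.Lib.helper80.eq_blockOf_of_mem hMp hB hχ] at hD'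
  obtain ⟨t, rfl⟩ := IsDefectGroup.exists_conj_eq hM hB hD hD'
  rw [mem_map_conj]
  intro h
  apply hxP
  have h2 := hN.conj_mem _ h t
  have h3 : t * (t⁻¹ * x * t) * t⁻¹ = x := by group
  rwa [h3] at h2

/-- Values on `P × (p-regular elements)`. -/
theorem irr_mul_pRegular [Fintype P] (hP : IsPGroup p P)
    (hG : P ⊔ Subgroup.centralizer (P : Set G) = ⊤) (χ : IrrCharacter G) (μ : IrrCharacter P)
    (e : ℕ) (he : e ≠ 0) (hμ : ∀ u : P, (χ : G → ℂ) u = e * (μ : P → ℂ) u) (u : P) (y : G)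
    (hy : ¬ p ∣ orderOf y) :
    (χ : G → ℂ) ((u : G) * y) = (μ : P → ℂ) u * (χ : G → ℂ) y / (μ : P → ℂ) 1 := by
  have hp := (Fact.out : p.Prime)
  have hyC := mem_centralizer_of_pRegular hp hP hG y hy
  have h1 := irr_mul_of_sup_centralizer hG χ u.2 hyC
  have h2 : (χ : G → ℂ) 1 = e * (μ : P → ℂ) 1 := by simpa using hμ 1
  have hμ1 := irr_one_ne_zero μ
  have he' : (e : ℂ) ≠ 0 := by exact_mod_cast he
  rw [h2, hμ u] at h1
  field_simp
  have h3 : (e : ℂ) * ((χ : G → ℂ) ((u : G) * y) * (μ : P → ℂ) 1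
      - (μ : P → ℂ) u * (χ : G → ℂ) y) = 0 := by linear_combination h1
  rcases mul_eq_zero.mp h3 with h | h
  · exact absurd h he'
  · linear_combination h

omit [Fintype G] in
/-- A nontrivial element of `P` times a `p`-regular element is `p`-singular. -/
theorem dvd_orderOf_mul_of_ne_one (hP : IsPGroup p P)
    (hG : P ⊔ Subgroup.centralizer (P : Set G) = ⊤) {u y : G} (hu : u ∈ P) (hu1 : u ≠ 1)
    (hy : ¬ p ∣ orderOf y) : p ∣ orderOf (u * y) := by
  have hp := (Fact.out : p.Prime)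
  by_contra hcon
  have hyC := mem_centralizer_of_pRegular hp hP hG y hy
  have hcomm : u * y = y * u := Subgroup.mem_centralizer_iff.mp hyC u hu
  have h1 : IsPPart p (u * y) u := isPPart_mul hcomm (exists_orderOf_eq_pow_of_mem hP hu) hy
  have h2 : IsPPart p (u * y) 1 := ⟨u * y, one_mul _, Commute.one_left _, ⟨0, by simp⟩, hcon⟩
  exact hu1 (isPPart_unique hp h1 h2)

open Classical in
/-- The block idempotent splits evenly over the irreducible characters of `P`. -/
theorem sum_block_fiber (hM : IsPModular p M) (hB : IsPBlock M B) (hP : IsPGroup p P)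
    (hG : P ⊔ Subgroup.centralizer (P : Set G) = ⊤) [Fintype P]
    (mu : IrrCharacter G → IrrCharacter P) (ep : IrrCharacter G → ℕ)
    (hmu : ∀ (χ : IrrCharacter G) (u : P), (χ : G → ℂ) u = ep χ * (mu χ : P → ℂ) u)
    (μ : IrrCharacter P) (y : G) (hy : ¬ p ∣ orderOf y) :
    (∑ χ : IrrCharacter G, if χ ∈ B ∧ mu χ = μ then (ep χ : ℂ) * (χ : G → ℂ) y else 0)
        * (Nat.card P : ℂ)
      = (μ : P → ℂ) 1 * ((Nat.card G : ℂ) * conj (blockCoeff B y)) := by
  classical
  have hp := (Fact.out : p.Prime)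
  have hG0 : (Nat.card G : ℂ) ≠ 0 := by exact_mod_cast Nat.card_pos.ne'
  have hyC := mem_centralizer_of_pRegular hp hP hG y hy
  have hS : ∀ u : P, ∑ χ : IrrCharacter G,
      (if χ ∈ B then (ep χ : ℂ) * (χ : G → ℂ) y * (mu χ : P → ℂ) u else 0)
      = (Nat.card G : ℂ) * conj (blockCoeff B ((u : G) * y)) := by
    intro u
    rw [Cfsg.Agent.Lib.helper80.blockCoeff_eq_sum, map_mul, map_inv₀, Complex.conj_natCast,
      map_sum, ← mul_assoc, mul_inv_cancel₀ hG0, one_mul]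
    refine Finset.sum_congr rfl (fun χ _ => ?_)
    split_ifs with h
    · rw [map_mul, Complex.conj_conj]
      have h1 := irr_mul_of_sup_centralizer hG χ u.2 hyC
      have hc1 : conj ((χ : G → ℂ) 1) = (χ : G → ℂ) 1 := by rw [irr_one_eq_charDegree]; simp
      have h5 : (χ : G → ℂ) 1 * (χ : G → ℂ) ((u : G) * y)
          = (χ : G → ℂ) u * (χ : G → ℂ) y := by rw [mul_comm]; exact h1
      rw [hc1, h5, hmu χ u]
      ring
    · simp
  have hS0 : ∀ u : P, u ≠ 1 → ∑ χ : IrrCharacter G,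
      (if χ ∈ B then (ep χ : ℂ) * (χ : G → ℂ) y * (mu χ : P → ℂ) u else 0) = 0 := by
    intro u hu
    rw [hS u, blockCoeff_eq_zero_of_dvd_orderOf hM hB _
      (dvd_orderOf_mul_of_ne_one hP hG u.2 (fun h => hu (Subtype.ext h)) hy)]
    simp
  have hdouble : ∑ u : P, (∑ χ : IrrCharacter G,
      (if χ ∈ B then (ep χ : ℂ) * (χ : G → ℂ) y * (mu χ : P → ℂ) u else 0))
        * conj ((μ : P → ℂ) u)
      = (Nat.card G : ℂ) * conj (blockCoeff B y) * (μ : P → ℂ) 1 := by
    rw [Finset.sum_eq_single (1 : P)]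
    · rw [hS 1]
      simp only [Subgroup.coe_one, one_mul]
      have hc1 : conj ((μ : P → ℂ) 1) = (μ : P → ℂ) 1 := by rw [irr_one_eq_charDegree]; simp
      rw [hc1]
    · intro u _ hu
      rw [hS0 u hu, zero_mul]
    · intro h; exact absurd (Finset.mem_univ _) h
  have hdouble2 : ∑ u : P, (∑ χ : IrrCharacter G,
      (if χ ∈ B then (ep χ : ℂ) * (χ : G → ℂ) y * (mu χ : P → ℂ) u else 0))
        * conj ((μ : P → ℂ) u)
      = (∑ χ : IrrCharacter G, if χ ∈ B ∧ mu χ = μ then (ep χ : ℂ) * (χ : G → ℂ) y else 0)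
        * (Nat.card P : ℂ) := by
    simp_rw [Finset.sum_mul]
    rw [Finset.sum_comm]
    refine Finset.sum_congr rfl (fun χ _ => ?_)
    by_cases hχ : χ ∈ B
    · simp only [hχ, if_true, true_and]
      have h4 : ∀ u : P, (ep χ : ℂ) * (χ : G → ℂ) y * (mu χ : P → ℂ) u * conj ((μ : P → ℂ) u)
          = (ep χ : ℂ) * (χ : G → ℂ) y * ((mu χ : P → ℂ) u * conj ((μ : P → ℂ) u)) :=
        fun u => by ring
      rw [Finset.sum_congr rfl (fun u _ => h4 u), ← Finset.mul_sum,
        Cfsg.Agent.Lib.helper80.irr_sum_mul_conj (mu χ) μ]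
      split_ifs <;> simp
    · simp [hχ]
  rw [← hdouble2, hdouble]
  ring

open Classical in
/-- Orthogonality of the `p`-regular parts of two members of `B` with the same restriction
type on `P`. -/
theorem sum_pRegular_mul_conj_fiber (hM : IsPModular p M) (hB : IsPBlock M B)
    (hD : IsDefectGroup p M B P) (hG : P ⊔ Subgroup.centralizer (P : Set G) = ⊤) [Fintype P]
    {χ χ' : IrrCharacter G} (hχ : χ ∈ B)
    (μ : IrrCharacter P) (e e' : ℕ) (he : e ≠ 0) (he' : e' ≠ 0)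
    (hμ : ∀ u : P, (χ : G → ℂ) u = e * (μ : P → ℂ) u)
    (hμ' : ∀ u : P, (χ' : G → ℂ) u = e' * (μ : P → ℂ) u) :
    (∑ y : G, if ¬ p ∣ orderOf y then (χ : G → ℂ) y * conj ((χ' : G → ℂ) y) else 0)
        * (Nat.card P : ℂ)
      = (if χ = χ' then (Nat.card G : ℂ) else 0) * ((μ : P → ℂ) 1) ^ 2 := by
  classical
  have hP := IsDefectGroup.isPGroup hD
  have h1 := sum_eq_sum_prod_pRegular hP hG (fun g => (χ : G → ℂ) g * conj ((χ' : G → ℂ) g))
    (fun g x hx hxP => by
      show (χ : G → ℂ) g * conj ((χ' : G → ℂ) g) = 0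
      rw [irr_eq_zero_of_pPart_not_mem hM hB hD hG hχ g x hx hxP, zero_mul])
  rw [Cfsg.Agent.Lib.helper80.irr_sum_mul_conj χ χ'] at h1
  have hμ1 := irr_one_ne_zero μ
  have hc1 : conj ((μ : P → ℂ) 1) = (μ : P → ℂ) 1 := by rw [irr_one_eq_charDegree]; simp
  have h2 : ∀ u : P, ∑ y : G, (if ¬ p ∣ orderOf y then
        (χ : G → ℂ) ((u : G) * y) * conj ((χ' : G → ℂ) ((u : G) * y)) else 0)
      = ((μ : P → ℂ) u * conj ((μ : P → ℂ) u)) / ((μ : P → ℂ) 1) ^ 2
        * ∑ y : G, (if ¬ p ∣ orderOf y then (χ : G → ℂ) y * conj ((χ' : G → ℂ) y) else 0) := by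
    intro u
    rw [Finset.mul_sum]
    refine Finset.sum_congr rfl (fun y _ => ?_)
    by_cases hy : p ∣ orderOf y
    · rw [if_neg (not_not.mpr hy), if_neg (not_not.mpr hy), mul_zero]
    · rw [if_pos hy, if_pos hy, irr_mul_pRegular hP hG χ μ e he hμ u y hy,
        irr_mul_pRegular hP hG χ' μ e' he' hμ' u y hy, map_div₀, map_mul, hc1]
      field_simp
  rw [Finset.sum_congr rfl (fun u _ => h2 u), ← Finset.sum_mul, ← Finset.sum_div,
    Cfsg.Agent.Lib.helper80.irr_sum_mul_conj μ μ, if_pos rfl] at h1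
  rw [h1]
  field_simp

/-- An irreducible character that is constant is the constant `1`. -/
theorem irr_eq_one_of_const {H : Type u} [Group H] [Fintype H] (μ : IrrCharacter H)
    (hμ : ∀ u : H, (μ : H → ℂ) u = (μ : H → ℂ) 1) (u : H) : (μ : H → ℂ) u = 1 := by
  have h1 := Cfsg.Agent.Lib.helper80.irr_sum_mul_conj μ μ
  rw [if_pos rfl] at h1
  have hd := irr_one_eq_charDegree μ
  have h2 : ∑ g : H, (μ : H → ℂ) g * conj ((μ : H → ℂ) g)
      = (Nat.card H : ℂ) * ((charDegree (μ : H → ℂ) : ℂ)) ^ 2 := by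
    rw [Finset.sum_congr rfl (fun g _ => by rw [hμ g, hd, Complex.conj_natCast])]
    rw [Finset.sum_const, Finset.card_univ, nsmul_eq_mul, ← Nat.card_eq_fintype_card]
    ring
  rw [h2] at h1
  have hH0 : (Nat.card H : ℂ) ≠ 0 := by exact_mod_cast Nat.card_pos.ne'
  have h3 : ((charDegree (μ : H → ℂ) : ℂ)) ^ 2 = 1 :=
    mul_left_cancel₀ hH0 (by rw [h1, mul_one])
  have h4 : (charDegree (μ : H → ℂ)) ^ 2 = 1 := by exact_mod_cast h3
  have h5 : charDegree (μ : H → ℂ) = 1 := by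
    rcases Nat.pow_eq_one.mp h4 with h | h
    · exact h
    · exact absurd h (by norm_num)
  rw [hμ u, hd, h5, Nat.cast_one]

/-- Arithmetic of `|P| θ(1) / |G|`. -/
theorem arith_div_aux (p a d h ν N deg t n₀ : ℕ) (hp : p ≠ 0) (hn₀ : n₀ ≠ 0)
    (hN : N = p ^ a * n₀) (hdeg : deg = p ^ ν * t) (hsum : ν + d = a + h) :
    ((p ^ d : ℕ) : ℂ) * (deg : ℂ) / (N : ℂ) = (p : ℂ) ^ h * t / n₀ := by
  subst hN hdeg
  push_cast
  have e3 : (p : ℂ) ^ d * (p : ℂ) ^ ν = (p : ℂ) ^ h * (p : ℂ) ^ a := by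
    rw [← pow_add, ← pow_add]; congr 1; omega
  have hp0 : (p : ℂ) ≠ 0 := by exact_mod_cast hp
  have hn : (n₀ : ℂ) ≠ 0 := by exact_mod_cast hn₀
  rw [div_eq_div_iff (mul_ne_zero (pow_ne_zero _ hp0) hn) hn]
  linear_combination ((t : ℂ) * n₀) * e3

/-- `|P| θ(1) / |G| = p ^ height * t / n₀` with `n₀` prime to `p`. -/
theorem exists_card_mul_degree_div (hM : IsPModular p M) (hB : IsPBlock M B)
    (hD : IsDefectGroup p M B P) {θ : IrrCharacter G} (hθ : θ ∈ B) :
    ∃ t n₀ : ℕ, ¬ p ∣ n₀ ∧ n₀ ≠ 0 ∧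
      (Nat.card P : ℂ) * (θ : G → ℂ) 1 / (Nat.card G : ℂ)
        = (p : ℂ) ^ (blockHeight p B (θ : G → ℂ)) * (t : ℂ) / (n₀ : ℂ) := by
  have hp := (Fact.out : p.Prime)
  have hcard := Cfsg.Agent.Lib.helper79.card_eq_of_isDefectGroup hM hB hD
  have hfd := Cfsg.Agent.Lib.helper79.factorization_add_defect (p := p) (B := B) hθ
  have hG0 : Nat.card G ≠ 0 := Nat.card_pos.ne'
  refine ⟨charDegree (θ : G → ℂ) / p ^ (charDegree (θ : G → ℂ)).factorization p,
    Nat.card G / p ^ (Nat.card G).factorization p, Nat.not_dvd_ordCompl hp hG0,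
    (Nat.ordCompl_pos p hG0).ne', ?_⟩
  rw [irr_one_eq_charDegree, hcard]
  exact arith_div_aux p _ _ _ _ _ _ _ _ hp.ne_zero (Nat.ordCompl_pos p hG0).ne'
    (Nat.ordProj_mul_ordCompl_eq_self (Nat.card G) p).symm
    (Nat.ordProj_mul_ordCompl_eq_self (charDegree (θ : G → ℂ)) p).symm hfd

/-- At most one member of `B` has `P` in its kernel. -/
theorem eq_of_restrict_const (hM : IsPModular p M) (hB : IsPBlock M B)
    (hD : IsDefectGroup p M B P) (hG : P ⊔ Subgroup.centralizer (P : Set G) = ⊤)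
    {θ θ' : IrrCharacter G} (hθ : θ ∈ B) (hθ' : θ' ∈ B)
    (hθP : ∀ u ∈ P, (θ : G → ℂ) u = (θ : G → ℂ) 1)
    (hθ'P : ∀ u ∈ P, (θ' : G → ℂ) u = (θ' : G → ℂ) 1) : θ = θ' := by
  classical
  by_contra hne
  have hMp := isPrime_of_isPModular hM
  have hp := (Fact.out : p.Prime)
  letI : Fintype P := Fintype.ofFinite P
  have hP := IsDefectGroup.isPGroup hD
  obtain ⟨μ, e, he, hμ⟩ := exists_irr_restrict_left hG θ
  have he0 : (e : ℂ) ≠ 0 := by exact_mod_cast he
  have hμc : ∀ u : P, (μ : P → ℂ) u = (μ : P → ℂ) 1 := by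
    intro u
    have h1 := hμ u
    have h2 := hμ 1
    rw [hθP u u.2] at h1
    simp only [Subgroup.coe_one] at h2
    rw [h2] at h1
    exact (mul_left_cancel₀ he0 h1).symm
  have hμ1 : ∀ u : P, (μ : P → ℂ) u = 1 := irr_eq_one_of_const μ hμc
  have hμ' : ∀ u : P, (θ' : G → ℂ) u = (charDegree (θ' : G → ℂ) : ℕ) * (μ : P → ℂ) u := by
    intro u; rw [hμ1 u, mul_one, hθ'P u u.2, irr_one_eq_charDegree]
  have hμθ : ∀ u : P, (θ : G → ℂ) u = (charDegree (θ : G → ℂ) : ℕ) * (μ : P → ℂ) u := by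
    intro u; rw [hμ1 u, mul_one, hθP u u.2, irr_one_eq_charDegree]
  have hdθ := (irr_charDegree_pos θ).ne'
  have hdθ' := (irr_charDegree_pos θ').ne'
  have hR1 := sum_pRegular_mul_conj_fiber hM hB hD hG hθ μ _ _ hdθ hdθ hμθ hμθ
  have hR2 := sum_pRegular_mul_conj_fiber hM hB hD hG hθ' μ _ _ hdθ' hdθ hμ' hμθ
  rw [if_pos rfl, hμ1 1, one_pow, mul_one] at hR1
  rw [if_neg (fun h => hne h.symm), zero_mul] at hR2
  obtain ⟨t, n₀, hn₀, hn₀0, hc⟩ := exists_card_mul_degree_div hM hB hD hθ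
  have hP0 : (Nat.card P : ℂ) ≠ 0 := by exact_mod_cast Nat.card_pos.ne'
  have hG0 : (Nat.card G : ℂ) ≠ 0 := by exact_mod_cast Nat.card_pos.ne'
  set c : ℂ := (Nat.card P : ℂ) * (θ : G → ℂ) 1 / (Nat.card G : ℂ) with hcdef
  let f : G → ℂ := fun g => if ¬ p ∣ orderOf g then c * conj ((θ : G → ℂ) g) else 0
  have hf : IsClassFunction G f := by
    intro g h
    show (if ¬ p ∣ orderOf (h * g * h⁻¹) then c * conj ((θ : G → ℂ) (h * g * h⁻¹)) else 0)
      = (if ¬ p ∣ orderOf g then c * conj ((θ : G → ℂ) g) else 0)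
    rw [irr_classFun θ g h]
    simp only [not_dvd_orderOf_conj_iff g h]
  have hR : ∀ g, MemLocalRing M (f g) := by
    intro g
    show MemLocalRing M (if ¬ p ∣ orderOf g then c * conj ((θ : G → ℂ) g) else 0)
    by_cases hg : p ∣ orderOf g
    · rw [if_neg (not_not.mpr hg)]
      exact memLocalRing_zero hMp
    · rw [if_pos hg, hc]
      have hint : IsIntegral ℤ ((p : ℂ) ^ (blockHeight p B (θ : G → ℂ)) * (t : ℂ)
          * conj ((θ : G → ℂ) g)) := by
        rw [← irr_inv]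
        have e1 : IsIntegral ℤ ((p : ℂ) ^ (blockHeight p B (θ : G → ℂ))) := by
          have := (isIntegral_algebraMap (R := ℤ) (A := ℂ) (x := (p : ℤ))).pow
            (blockHeight p B (θ : G → ℂ))
          simpa using this
        have e2 : IsIntegral ℤ (t : ℂ) := by
          have := isIntegral_algebraMap (R := ℤ) (A := ℂ) (x := (t : ℤ))
          simpa using this
        exact (e1.mul e2).mul (irr_isIntegral θ g⁻¹)
      have h5 := memLocalRing_div_natCast hM (⟨_, hint⟩ : AlgInt) hn₀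
      convert h5 using 1
      simp only
      ring
  have hsame : SameBlock M (θ : G → ℂ) (θ' : G → ℂ) := by
    have h1 : θ' ∈ blockOf M (θ : G → ℂ) := by
      rw [← Cfsg.Agent.Lib.helper80.eq_blockOf_of_mem hMp hB hθ]; exact hθ'
    exact h1
  have hom := memLocalIdeal_om_sub hMp θ θ' hsame f hf hR
  have hsum : ∀ ψ : IrrCharacter G, ∑ g : G, f g * (ψ : G → ℂ) g
      = c * ∑ y : G, (if ¬ p ∣ orderOf y then (ψ : G → ℂ) y * conj ((θ : G → ℂ) y) else 0) := by
    intro ψ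
    rw [Finset.mul_sum]
    refine Finset.sum_congr rfl (fun g _ => ?_)
    show (if ¬ p ∣ orderOf g then c * conj ((θ : G → ℂ) g) else 0) * (ψ : G → ℂ) g = _
    by_cases hg : p ∣ orderOf g
    · rw [if_neg (not_not.mpr hg), if_neg (not_not.mpr hg), zero_mul, mul_zero]
    · rw [if_pos hg, if_pos hg]; ring
  have h1 : om (θ : G → ℂ) f = 1 := by
    unfold om
    rw [hsum θ]
    have h10 := irr_one_ne_zero θ
    have h6 : ∑ y : G, (if ¬ p ∣ orderOf y then (θ : G → ℂ) y * conj ((θ : G → ℂ) y) else 0)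
        = (Nat.card G : ℂ) / (Nat.card P : ℂ) := by
      rw [eq_div_iff hP0]; exact hR1
    rw [h6, hcdef]
    field_simp
  have h2 : om (θ' : G → ℂ) f = 0 := by
    unfold om
    rw [hsum θ']
    have h6 : ∑ y : G, (if ¬ p ∣ orderOf y then (θ' : G → ℂ) y * conj ((θ : G → ℂ) y) else 0)
        = 0 := by
      rcases mul_eq_zero.mp hR2 with h | h
      · exact h
      · exact absurd h hP0
    rw [h6, mul_zero, zero_div]
  rw [h1, h2, sub_zero] at hom
  exact not_memLocalIdeal_one hom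

/-- The canonical character is determined by the block idempotent. -/
theorem canonical_mul_eq (hM : IsPModular p M) (hB : IsPBlock M B)
    (hD : IsDefectGroup p M B P) (hG : P ⊔ Subgroup.centralizer (P : Set G) = ⊤)
    {θ : IrrCharacter G} (hθ : θ ∈ B) (hθP : ∀ u ∈ P, (θ : G → ℂ) u = (θ : G → ℂ) 1)
    (y : G) (hy : ¬ p ∣ orderOf y) :
    (θ : G → ℂ) 1 * (θ : G → ℂ) y * (Nat.card P : ℂ)
      = (Nat.card G : ℂ) * conj (blockCoeff B y) := by
  classical
  letI : Fintype P := Fintype.ofFinite P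
  have hP := IsDefectGroup.isPGroup hD
  choose mu ep hep hmu using fun χ : IrrCharacter G => exists_irr_restrict_left hG χ
  have he0 : (ep θ : ℂ) ≠ 0 := by exact_mod_cast hep θ
  have hμc : ∀ u : P, (mu θ : P → ℂ) u = (mu θ : P → ℂ) 1 := by
    intro u
    have h1 := hmu θ u
    have h2 := hmu θ 1
    rw [hθP u u.2] at h1
    simp only [Subgroup.coe_one] at h2
    rw [h2] at h1
    exact (mul_left_cancel₀ he0 h1).symm
  have hμ₀ : ∀ u : P, (mu θ : P → ℂ) u = 1 := irr_eq_one_of_const (mu θ) hμc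
  have key := sum_block_fiber hM hB hP hG mu ep hmu (mu θ) y hy
  have hsum : ∑ χ : IrrCharacter G,
      (if χ ∈ B ∧ mu χ = mu θ then (ep χ : ℂ) * (χ : G → ℂ) y else 0)
      = (ep θ : ℂ) * (θ : G → ℂ) y := by
    rw [Finset.sum_eq_single θ]
    · rw [if_pos ⟨hθ, rfl⟩]
    · intro χ _ hχne
      rw [if_neg]
      rintro ⟨hχB, hχμ⟩
      apply hχne
      apply eq_of_restrict_const hM hB hD hG hχB hθ _ hθP
      intro u hu
      have h1 := hmu χ ⟨u, hu⟩
      have h2 := hmu χ 1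
      rw [hχμ, hμ₀] at h1
      rw [hχμ, hμ₀] at h2
      simp only [Subgroup.coe_one, mul_one] at h1 h2
      rw [h1, h2]
    · intro h; exact absurd (Finset.mem_univ _) h
  rw [hsum, hμ₀ 1, one_mul] at key
  have h3 : (ep θ : ℂ) = (θ : G → ℂ) 1 := by
    have h2 := hmu θ 1
    rw [hμ₀] at h2
    simpa using h2.symm
  rw [h3] at key
  exact key

/-- The canonical character has height zero. -/
theorem blockHeight_eq_zero_of_restrict_const (hM : IsPModular p M) (hB : IsPBlock M B)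
    (hD : IsDefectGroup p M B P) (hG : P ⊔ Subgroup.centralizer (P : Set G) = ⊤)
    {θ : IrrCharacter G} (hθ : θ ∈ B) (hθP : ∀ u ∈ P, (θ : G → ℂ) u = (θ : G → ℂ) 1) :
    blockHeight p B (θ : G → ℂ) = 0 := by
  have hMp := isPrime_of_isPModular hM
  have hD' := hD
  obtain ⟨y₀, hy₀, -⟩ := hD'
  have hreg : ¬ p ∣ orderOf y₀ := by
    intro h
    apply hy₀.2.1
    rw [blockCoeff_eq_zero_of_dvd_orderOf hM hB y₀ h]
    exact memLocalIdeal_zero hMp
  have key := canonical_mul_eq hM hB hD hG hθ hθP y₀ hreg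
  obtain ⟨t, n₀, hn₀, hn₀0, hc⟩ := exists_card_mul_degree_div hM hB hD hθ
  by_contra hh
  obtain ⟨h', hh'⟩ := Nat.exists_eq_succ_of_ne_zero hh
  apply hy₀.2.1
  have hG0 : (Nat.card G : ℂ) ≠ 0 := by exact_mod_cast Nat.card_pos.ne'
  have hb : blockCoeff B y₀ = ((Nat.card P : ℂ) * (θ : G → ℂ) 1 / (Nat.card G : ℂ))
      * conj ((θ : G → ℂ) y₀) := by
    have h1 : conj (blockCoeff B y₀)
        = (θ : G → ℂ) 1 * (θ : G → ℂ) y₀ * (Nat.card P : ℂ) / (Nat.card G : ℂ) := by
      rw [eq_div_iff hG0, key]; ring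
    have h2 := congrArg conj h1
    rw [Complex.conj_conj] at h2
    have hc1 : conj ((θ : G → ℂ) 1) = (θ : G → ℂ) 1 := by rw [irr_one_eq_charDegree]; simp
    rw [h2, map_div₀, map_mul, map_mul, Complex.conj_natCast, Complex.conj_natCast, hc1]
    ring
  rw [hb, hc, hh', pow_succ]
  have hint : IsIntegral ℤ ((p : ℂ) ^ h' * (t : ℂ) * conj ((θ : G → ℂ) y₀)) := by
    rw [← irr_inv]
    have e1 : IsIntegral ℤ ((p : ℂ) ^ h') := by
      have := (isIntegral_algebraMap (R := ℤ) (A := ℂ) (x := (p : ℤ))).pow h'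
      simpa using this
    have e2 : IsIntegral ℤ (t : ℂ) := by
      have := isIntegral_algebraMap (R := ℤ) (A := ℂ) (x := (t : ℤ))
      simpa using this
    exact (e1.mul e2).mul (irr_isIntegral θ y₀⁻¹)
  refine Cfsg.Agent.Lib.helper79.memLocalIdeal_of_mul_eq hM n₀ hn₀ _ hint ?_
  have hn : (n₀ : ℂ) ≠ 0 := by exact_mod_cast hn₀0
  field_simp

omit [Fintype G] [Fact p.Prime] in
theorem pRegularPart_of_not_dvd (f : G → ℂ) {g : G} (hg : ¬ p ∣ orderOf g) :
    pRegularPart p f g = f g := by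
  unfold pRegularPart IsPRegular
  rw [if_pos hg]

omit [Fintype G] [Fact p.Prime] in
theorem pRegularPart_of_dvd (f : G → ℂ) {g : G} (hg : p ∣ orderOf g) :
    pRegularPart p f g = 0 := by
  unfold pRegularPart IsPRegular
  rw [if_neg (not_not.mpr hg)]

/-- A defect class consists of `p`-regular elements. -/
theorem not_dvd_orderOf_of_isDefectClass (hM : IsPModular p M) (hB : IsPBlock M B) {y₀ : G}
    (hy₀ : IsDefectClass M B y₀) : ¬ p ∣ orderOf y₀ := by
  intro h
  apply hy₀.2.1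
  rw [blockCoeff_eq_zero_of_dvd_orderOf hM hB y₀ h]
  exact memLocalIdeal_zero (isPrime_of_isPModular hM)

/-- The multiplicity of `χ|_P` is divisible by `p ^ (a - d)`. -/
theorem pow_dvd_restrict_mult (hM : IsPModular p M) (hB : IsPBlock M B)
    (hD : IsDefectGroup p M B P) (hG : P ⊔ Subgroup.centralizer (P : Set G) = ⊤) [Fintype P]
    {χ : IrrCharacter G} (hχ : χ ∈ B) (μ : IrrCharacter P) (e' : ℕ) (he' : e' ≠ 0)
    (hμ : ∀ u : P, (χ : G → ℂ) u = e' * (μ : P → ℂ) u) :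
    p ^ ((Nat.card G).factorization p - blockDefect p B) ∣ e' := by
  classical
  have hp := (Fact.out : p.Prime)
  have hP := IsDefectGroup.isPGroup hD
  letI : Fintype (Subgroup.centralizer (P : Set G)) := Fintype.ofFinite _
  obtain ⟨ψ, e, he, hψ⟩ := exists_irr_restrict_right hG χ
  have hdeg := restrict_mul_degree hG χ μ e' hμ ψ e hψ
  have hD' := hD
  obtain ⟨y₀, hy₀, -⟩ := hD'
  have hreg := not_dvd_orderOf_of_isDefectClass hM hB hy₀
  have hyC := mem_centralizer_of_pRegular hp hP hG y₀ hreg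
  have hcc := hy₀.2.2 χ hχ
  have hdef := Cfsg.Agent.Lib.helper79.blockDefect_eq_of_isDefectClass hM hB y₀ hy₀
  have hidxmul : (Subgroup.centralizer ({y₀} : Set G)).index
      * Nat.card (Subgroup.centralizer ({y₀} : Set G)) = Nat.card G := Subgroup.index_mul_card _
  have hidx0 : (Subgroup.centralizer ({y₀} : Set G)).index ≠ 0 := by
    intro h
    rw [h, zero_mul] at hidxmul
    exact Nat.card_pos.ne' hidxmul.symm
  have hfac : ((Subgroup.centralizer ({y₀} : Set G)).index).factorization p + blockDefect p B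
      = (Nat.card G).factorization p := by
    have h1 := congrArg (fun f => f p) (Nat.factorization_mul hidx0
      (Nat.card_pos.ne' : Nat.card (Subgroup.centralizer ({y₀} : Set G)) ≠ 0))
    simp only [Finsupp.add_apply] at h1
    rw [hidxmul] at h1
    rw [hdef, h1]
  by_contra hnd
  have hlt : e'.factorization p < (Nat.card G).factorization p - blockDefect p B := by
    by_contra hge
    exact hnd ((Nat.Prime.pow_dvd_iff_le_factorization hp he').mpr (not_lt.mp hge))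
  apply hcc
  obtain ⟨r, hr⟩ : p ^ (e'.factorization p + 1) ∣ (Subgroup.centralizer ({y₀} : Set G)).index :=
    (Nat.Prime.pow_dvd_iff_le_factorization hp hidx0).mpr (by omega)
  have hs : ¬ p ∣ e' / p ^ e'.factorization p := Nat.not_dvd_ordCompl hp he'
  have hes : e' = p ^ e'.factorization p * (e' / p ^ e'.factorization p) :=
    (Nat.ordProj_mul_ordCompl_eq_self e' p).symm
  have hs0 : e' / p ^ e'.factorization p ≠ 0 := (Nat.ordCompl_pos p he').ne'
  obtain ⟨s, hsdef⟩ : ∃ s, s = e' / p ^ e'.factorization p := ⟨_, rfl⟩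
  obtain ⟨j, hjdef⟩ : ∃ j, j = e'.factorization p := ⟨_, rfl⟩
  rw [← hsdef] at hs hes hs0
  rw [← hjdef] at hr hes
  have hint : IsIntegral ℤ ((r : ℂ) * (ψ : Subgroup.centralizer (P : Set G) → ℂ) ⟨y₀, hyC⟩) := by
    have e2 : IsIntegral ℤ (r : ℂ) := by
      have := isIntegral_algebraMap (R := ℤ) (A := ℂ) (x := (r : ℤ))
      simpa using this
    exact e2.mul (irr_isIntegral ψ _)
  refine Cfsg.Agent.Lib.helper79.memLocalIdeal_of_mul_eq hM s hs _ hint ?_
  unfold centralChar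
  have h1 : (χ : G → ℂ) y₀ = e * (ψ : Subgroup.centralizer (P : Set G) → ℂ) ⟨y₀, hyC⟩ :=
    hψ ⟨y₀, hyC⟩
  have h2 : (χ : G → ℂ) 1 = (e : ℂ) * e' := by
    rw [irr_one_eq_charDegree, ← hdeg]; push_cast; ring
  have he0 : (e : ℂ) ≠ 0 := by exact_mod_cast he
  have hs0' : (s : ℂ) ≠ 0 := by exact_mod_cast hs0
  have hp0 : (p : ℂ) ≠ 0 := by exact_mod_cast hp.ne_zero
  have hes' : (e' : ℂ) = (p : ℂ) ^ j * (s : ℂ) := by exact_mod_cast hes
  rw [h1, h2, hr, hes']
  push_cast
  field_simp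
  ring

/-- Every member of `B` agrees on the `p`-regular elements with a multiple of the canonical
character `θ`. -/
theorem irr_pRegular_eq_mul (hM : IsPModular p M) (hB : IsPBlock M B)
    (hD : IsDefectGroup p M B P) (hG : P ⊔ Subgroup.centralizer (P : Set G) = ⊤) [Fintype P]
    {θ χ : IrrCharacter G} (hθ : θ ∈ B) (hθP : ∀ u ∈ P, (θ : G → ℂ) u = (θ : G → ℂ) 1)
    (hχ : χ ∈ B) (μ : IrrCharacter P) (e' : ℕ) (he' : e' ≠ 0)
    (hμ : ∀ u : P, (χ : G → ℂ) u = e' * (μ : P → ℂ) u) (y : G) (hy : ¬ p ∣ orderOf y) :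
    (χ : G → ℂ) y = (μ : P → ℂ) 1 * (θ : G → ℂ) y := by
  classical
  have hp := (Fact.out : p.Prime)
  have hP := IsDefectGroup.isPGroup hD
  have hP0 : (Nat.card P : ℂ) ≠ 0 := by exact_mod_cast Nat.card_pos.ne'
  have hG0 : (Nat.card G : ℂ) ≠ 0 := by exact_mod_cast Nat.card_pos.ne'
  choose mu₀ ep₀ hep₀ hmu₀ using fun χ' : IrrCharacter G => exists_irr_restrict_left hG χ'
  obtain ⟨mu, hmudef⟩ : ∃ mu : IrrCharacter G → IrrCharacter P, mu = Function.update mu₀ χ μ :=
    ⟨_, rfl⟩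
  obtain ⟨ep, hepdef⟩ : ∃ ep : IrrCharacter G → ℕ, ep = Function.update ep₀ χ e' := ⟨_, rfl⟩
  have hmuχ : mu χ = μ := by rw [hmudef, Function.update_self]
  have hepχ : ep χ = e' := by rw [hepdef, Function.update_self]
  have hmu : ∀ (χ' : IrrCharacter G) (u : P),
      (χ' : G → ℂ) u = ep χ' * (mu χ' : P → ℂ) u := by
    intro χ' u
    by_cases h : χ' = χ
    · rw [h, hmuχ, hepχ]; exact hμ u
    · rw [hmudef, hepdef, Function.update_of_ne h, Function.update_of_ne h]; exact hmu₀ χ' u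
  have hep : ∀ χ' : IrrCharacter G, ep χ' ≠ 0 := by
    intro χ'
    by_cases h : χ' = χ
    · rw [h, hepχ]; exact he'
    · rw [hepdef, Function.update_of_ne h]; exact hep₀ χ'
  obtain ⟨m₁, hm₁⟩ : ∃ m₁ : ℕ, m₁ = charDegree (μ : P → ℂ) := ⟨_, rfl⟩
  have hμ1 : (μ : P → ℂ) 1 = (m₁ : ℂ) := by rw [hm₁]; exact irr_one_eq_charDegree μ
  have hm₁pos : 0 < m₁ := by rw [hm₁]; exact irr_charDegree_pos μ
  have hm₁0 : (m₁ : ℂ) ≠ 0 := by exact_mod_cast hm₁pos.ne'
  have hθ1 := irr_one_eq_charDegree θ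
  have hθ10 := irr_one_ne_zero θ
  have he0θ : (ep θ : ℂ) ≠ 0 := by exact_mod_cast hep θ
  have hμ₀ : ∀ u : P, (mu θ : P → ℂ) u = 1 := by
    apply irr_eq_one_of_const
    intro u
    have h1 := hmu θ u
    have h2 := hmu θ 1
    rw [hθP u u.2] at h1
    simp only [Subgroup.coe_one] at h2
    rw [h2] at h1
    exact (mul_left_cancel₀ he0θ h1).symm
  -- the fibre sums
  obtain ⟨S, hSdef⟩ : ∃ S : G → ℂ, S = fun y' => ∑ χ' : IrrCharacter G,
      if χ' ∈ B ∧ mu χ' = μ then (ep χ' : ℂ) * (χ' : G → ℂ) y' else 0 := ⟨_, rfl⟩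
  have hS : ∀ y' : G, ¬ p ∣ orderOf y' →
      S y' = (m₁ : ℂ) * (θ : G → ℂ) 1 * (θ : G → ℂ) y' := by
    intro y' hy'
    have key := sum_block_fiber hM hB hP hG mu ep hmu μ y' hy'
    have can := canonical_mul_eq hM hB hD hG hθ hθP y' hy'
    rw [← can, hμ1] at key
    apply mul_right_cancel₀ hP0
    rw [hSdef]
    rw [key]; ring
  have hRfib : ∀ χ' : IrrCharacter G, χ' ∈ B → mu χ' = μ →
      (∑ y' : G, if ¬ p ∣ orderOf y' then (χ' : G → ℂ) y' * conj ((χ : G → ℂ) y') else 0)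
          * (Nat.card P : ℂ)
        = (if χ' = χ then (Nat.card G : ℂ) else 0) * (m₁ : ℂ) ^ 2 := by
    intro χ' hχ' hmuχ'
    have h1 := sum_pRegular_mul_conj_fiber hM hB hD hG hχ' μ (ep χ') e' (hep χ') he'
      (fun u => by rw [hmu χ' u, hmuχ']) hμ
    rw [hμ1] at h1
    exact h1
  have hb : (∑ y' : G, if ¬ p ∣ orderOf y' then S y' * conj ((χ : G → ℂ) y') else 0)
        * (Nat.card P : ℂ)
      = (e' : ℂ) * (Nat.card G : ℂ) * (m₁ : ℂ) ^ 2 := by
    have h1 : ∑ y' : G, (if ¬ p ∣ orderOf y' then S y' * conj ((χ : G → ℂ) y') else 0)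
        = ∑ χ' : IrrCharacter G, if χ' ∈ B ∧ mu χ' = μ then (ep χ' : ℂ) * ∑ y' : G,
            (if ¬ p ∣ orderOf y' then (χ' : G → ℂ) y' * conj ((χ : G → ℂ) y') else 0)
          else 0 := by
      have h2 : ∀ y' : G, (if ¬ p ∣ orderOf y' then S y' * conj ((χ : G → ℂ) y') else 0)
          = ∑ χ' : IrrCharacter G, if χ' ∈ B ∧ mu χ' = μ then (ep χ' : ℂ) *
              (if ¬ p ∣ orderOf y' then (χ' : G → ℂ) y' * conj ((χ : G → ℂ) y') else 0)
            else 0 := by
        intro y'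
        by_cases hy' : p ∣ orderOf y'
        · simp [hy']
        · rw [if_pos hy', hSdef, Finset.sum_mul]
          refine Finset.sum_congr rfl (fun χ' _ => ?_)
          rw [if_pos hy']
          split_ifs
          · ring
          · rw [zero_mul]
      rw [Finset.sum_congr rfl (fun y' _ => h2 y'), Finset.sum_comm]
      refine Finset.sum_congr rfl (fun χ' _ => ?_)
      split_ifs
      · rw [Finset.mul_sum]
      · simp
    rw [h1, Finset.sum_mul, Finset.sum_eq_single χ]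
    · rw [if_pos ⟨hχ, hmuχ⟩, mul_assoc, hRfib χ hχ hmuχ, if_pos rfl, hepχ]; ring
    · intro χ' _ hne
      by_cases hc : χ' ∈ B ∧ mu χ' = μ
      · rw [if_pos hc, mul_assoc, hRfib χ' hc.1 hc.2, if_neg hne]; ring
      · rw [if_neg hc, zero_mul]
    · intro h; exact absurd (Finset.mem_univ _) h
  obtain ⟨Rθχ, hRθχ⟩ : ∃ R : ℂ, R = ∑ y' : G,
      (if ¬ p ∣ orderOf y' then (θ : G → ℂ) y' * conj ((χ : G → ℂ) y') else 0) := ⟨_, rfl⟩
  have ha : ∑ y' : G, (if ¬ p ∣ orderOf y' then S y' * conj ((χ : G → ℂ) y') else 0)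
      = (m₁ : ℂ) * (θ : G → ℂ) 1 * Rθχ := by
    rw [hRθχ, Finset.mul_sum]
    refine Finset.sum_congr rfl (fun y' _ => ?_)
    by_cases hy' : p ∣ orderOf y'
    · rw [if_neg (not_not.mpr hy'), if_neg (not_not.mpr hy'), mul_zero]
    · rw [if_pos hy', if_pos hy', hS y' hy']; ring
  rw [ha] at hb
  have hR : Rθχ * (Nat.card P : ℂ) * (θ : G → ℂ) 1 = (e' : ℂ) * (m₁ : ℂ) * (Nat.card G : ℂ) := by
    apply mul_left_cancel₀ hm₁0
    linear_combination hb
  -- the contribution is an integer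
  have hcs := Cfsg.Agent.Lib.helper79.contrib_spec hM hB hθ χ
  have hreg : Cfsg.Agent.Lib.helper79.regInner p (θ : G → ℂ) (χ : G → ℂ) = Rθχ := by
    unfold Cfsg.Agent.Lib.helper79.regInner
    rw [hRθχ]
    refine Finset.sum_congr rfl (fun g _ => ?_)
    by_cases hg : p ∣ orderOf g
    · rw [if_neg (not_not.mpr hg), pRegularPart_of_dvd _ hg, zero_mul]
    · rw [if_pos hg, pRegularPart_of_not_dvd _ hg]
  have hcardP := Cfsg.Agent.Lib.helper79.card_eq_of_isDefectGroup hM hB hD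
  have hcardP' : (Nat.card P : ℂ) = (p : ℂ) ^ blockDefect p B := by rw [hcardP]; push_cast; rfl
  obtain ⟨n, hn⟩ : ∃ n : ℤ, n = Cfsg.Agent.Lib.helper79.contrib p B θ χ := ⟨_, rfl⟩
  rw [← hn, hreg, ← hcardP'] at hcs
  have hnθ : (n : ℂ) * (θ : G → ℂ) 1 = (e' : ℂ) * m₁ := by
    apply mul_left_cancel₀ hG0
    linear_combination (θ : G → ℂ) 1 * hcs + hR
  have hRn : Rθχ * (Nat.card P : ℂ) = n * (Nat.card G : ℂ) := by
    apply mul_right_cancel₀ hθ10
    linear_combination hR - (Nat.card G : ℂ) * hnθ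
  -- the norm of `χ° - m₁ θ°`
  have hRχχ := hRfib χ hχ hmuχ
  rw [if_pos rfl] at hRχχ
  have hRθθ := sum_pRegular_mul_conj_fiber hM hB hD hG hθ (mu θ) (ep θ) (ep θ) (hep θ) (hep θ)
    (hmu θ) (hmu θ)
  rw [if_pos rfl, hμ₀ 1, one_pow, mul_one] at hRθθ
  have hRχθ : ∑ y' : G, (if ¬ p ∣ orderOf y' then (χ : G → ℂ) y' * conj ((θ : G → ℂ) y') else 0)
      = conj Rθχ := by
    rw [hRθχ, map_sum]
    refine Finset.sum_congr rfl (fun y' _ => ?_)
    by_cases hy' : p ∣ orderOf y'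
    · rw [if_neg (not_not.mpr hy'), if_neg (not_not.mpr hy'), map_zero]
    · rw [if_pos hy', if_pos hy', map_mul, Complex.conj_conj, mul_comm]
  have hconjR : conj Rθχ = Rθχ := by
    have h1 : Rθχ = (n : ℂ) * (Nat.card G : ℂ) / (Nat.card P : ℂ) := by
      rw [eq_div_iff hP0]; exact hRn
    rw [h1, map_div₀, map_mul, Complex.conj_natCast, Complex.conj_natCast, map_intCast]
  have hT : (∑ y' : G, if ¬ p ∣ orderOf y' then
        ((χ : G → ℂ) y' - m₁ * (θ : G → ℂ) y') * conj ((χ : G → ℂ) y' - m₁ * (θ : G → ℂ) y')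
        else 0) * (Nat.card P : ℂ)
      = 2 * (m₁ : ℂ) * (Nat.card G : ℂ) * ((m₁ : ℂ) - n) := by
    have h1 : ∀ y' : G, (if ¬ p ∣ orderOf y' then
          ((χ : G → ℂ) y' - m₁ * (θ : G → ℂ) y') * conj ((χ : G → ℂ) y' - m₁ * (θ : G → ℂ) y')
          else 0)
        = (if ¬ p ∣ orderOf y' then (χ : G → ℂ) y' * conj ((χ : G → ℂ) y') else 0)
          - m₁ * (if ¬ p ∣ orderOf y' then (χ : G → ℂ) y' * conj ((θ : G → ℂ) y') else 0)
          - m₁ * (if ¬ p ∣ orderOf y' then (θ : G → ℂ) y' * conj ((χ : G → ℂ) y') else 0)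
          + (m₁ : ℂ) ^ 2 *
            (if ¬ p ∣ orderOf y' then (θ : G → ℂ) y' * conj ((θ : G → ℂ) y') else 0) := by
      intro y'
      by_cases hy' : p ∣ orderOf y'
      · simp [hy']
      · simp only [if_pos hy', map_sub, map_mul, Complex.conj_natCast]; ring
    rw [Finset.sum_congr rfl (fun y' _ => h1 y'), Finset.sum_add_distrib,
      Finset.sum_sub_distrib, Finset.sum_sub_distrib, ← Finset.mul_sum, ← Finset.mul_sum,
      ← Finset.mul_sum, hRχθ, hconjR, ← hRθχ]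
    linear_combination hRχχ - 2 * (m₁ : ℂ) * hRn + (m₁ : ℂ) ^ 2 * hRθθ
  obtain ⟨Tr, hTr⟩ : ∃ Tr : ℝ, Tr = ∑ y' : G, if ¬ p ∣ orderOf y' then
      Complex.normSq ((χ : G → ℂ) y' - m₁ * (θ : G → ℂ) y') else 0 := ⟨_, rfl⟩
  have hTc : (∑ y' : G, if ¬ p ∣ orderOf y' then
        ((χ : G → ℂ) y' - m₁ * (θ : G → ℂ) y') * conj ((χ : G → ℂ) y' - m₁ * (θ : G → ℂ) y')
        else 0) = (Tr : ℂ) := by
    rw [hTr, Complex.ofReal_sum]
    refine Finset.sum_congr rfl (fun y' _ => ?_)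
    by_cases hy' : p ∣ orderOf y'
    · simp [hy']
    · rw [if_pos hy', if_pos hy', Complex.mul_conj]
  rw [hTc] at hT
  have hTreal : Tr * (Nat.card P : ℝ) = 2 * (m₁ : ℝ) * (Nat.card G : ℝ) * ((m₁ : ℝ) - (n : ℝ)) := by
    exact_mod_cast hT
  have hTnn : 0 ≤ Tr := by
    rw [hTr]
    exact Finset.sum_nonneg (fun y' _ => by split_ifs <;> simp [Complex.normSq_nonneg])
  have hPr : (0 : ℝ) < Nat.card P := by exact_mod_cast Nat.card_pos
  have hGr : (0 : ℝ) < Nat.card G := by exact_mod_cast Nat.card_pos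
  have hmr : (0 : ℝ) < m₁ := by exact_mod_cast hm₁pos
  have hnle : n ≤ (m₁ : ℤ) := by
    have h1 : 0 ≤ 2 * (m₁ : ℝ) * (Nat.card G : ℝ) * ((m₁ : ℝ) - (n : ℝ)) := by
      rw [← hTreal]; positivity
    have h2 : 0 ≤ (m₁ : ℝ) - (n : ℝ) := by
      by_contra hneg
      have h3 : 2 * (m₁ : ℝ) * (Nat.card G : ℝ) * ((m₁ : ℝ) - (n : ℝ)) < 0 :=
        mul_neg_of_pos_of_neg (by positivity) (not_le.mp hneg)
      linarith
    have h3 : (n : ℝ) ≤ (m₁ : ℝ) := by linarith
    exact_mod_cast h3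
  -- divisibility
  have hnZ : n * (charDegree (θ : G → ℂ) : ℤ) = ((e' * m₁ : ℕ) : ℤ) := by
    have h1 : ((n * (charDegree (θ : G → ℂ) : ℤ) : ℤ) : ℂ) = (((e' * m₁ : ℕ) : ℤ) : ℂ) := by
      push_cast; rw [← hθ1]; exact hnθ
    exact_mod_cast h1
  have hdθpos := irr_charDegree_pos θ
  have hnpos : 0 < n := by
    by_contra hneg
    have h1 : n * (charDegree (θ : G → ℂ) : ℤ) ≤ 0 :=
      mul_nonpos_of_nonpos_of_nonneg (not_lt.mp hneg) (by positivity)
    have h2 : (0 : ℤ) < ((e' * m₁ : ℕ) : ℤ) := by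
      exact_mod_cast Nat.mul_pos (Nat.pos_of_ne_zero he') hm₁pos
    rw [hnZ] at h1
    exact absurd h2 (not_lt.mpr h1)
  obtain ⟨n', hn'⟩ : ∃ n' : ℕ, n = n' := ⟨n.toNat, (Int.toNat_of_nonneg hnpos.le).symm⟩
  have hnN : n' * charDegree (θ : G → ℂ) = e' * m₁ := by
    rw [hn'] at hnZ; exact_mod_cast hnZ
  have hn'pos : 0 < n' := by rw [hn'] at hnpos; exact_mod_cast hnpos
  have hpe := pow_dvd_restrict_mult hM hB hD hG hχ μ e' he' hμ
  have hht := blockHeight_eq_zero_of_restrict_const hM hB hD hG hθ hθP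
  have hfd := Cfsg.Agent.Lib.helper79.factorization_add_defect (p := p) (B := B) hθ
  rw [hht, add_zero] at hfd
  obtain ⟨j, -, hj⟩ := (Nat.dvd_prime_pow hp).mp
    (by rw [← hcardP, hm₁]; exact irr_degree_dvd_card μ : m₁ ∣ p ^ blockDefect p B)
  obtain ⟨k, hk⟩ : ∃ k : ℕ, k = (Nat.card G).factorization p - blockDefect p B := ⟨_, rfl⟩
  rw [← hk] at hpe
  have hνθ : (charDegree (θ : G → ℂ)).factorization p = k := by omega
  have hθdecomp : charDegree (θ : G → ℂ) = p ^ k * (charDegree (θ : G → ℂ) / p ^ k) := by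
    rw [← hνθ]; exact (Nat.ordProj_mul_ordCompl_eq_self (charDegree (θ : G → ℂ)) p).symm
  have ht : ¬ p ∣ charDegree (θ : G → ℂ) / p ^ k := by
    rw [← hνθ]; exact Nat.not_dvd_ordCompl hp hdθpos.ne'
  obtain ⟨s, hs⟩ := hpe
  obtain ⟨t, htdef⟩ : ∃ t : ℕ, t = charDegree (θ : G → ℂ) / p ^ k := ⟨_, rfl⟩
  rw [← htdef] at ht hθdecomp
  have h5 : n' * t = s * p ^ j := by
    have h6 : p ^ k * (n' * t) = p ^ k * (s * p ^ j) := by
      calc p ^ k * (n' * t) = n' * (p ^ k * t) := by ring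
        _ = n' * charDegree (θ : G → ℂ) := by rw [← hθdecomp]
        _ = e' * m₁ := hnN
        _ = p ^ k * s * p ^ j := by rw [hs, hj]
        _ = p ^ k * (s * p ^ j) := by ring
    exact Nat.eq_of_mul_eq_mul_left (pow_pos hp.pos _) h6
  have h7 : p ^ j ∣ n' := by
    have hcop : (p ^ j).Coprime t :=
      Nat.Coprime.pow_left j ((Nat.Prime.coprime_iff_not_dvd hp).mpr ht)
    exact hcop.dvd_of_dvd_mul_right (Dvd.intro_left s h5.symm)
  have h8 : m₁ ≤ n' := by rw [hj]; exact Nat.le_of_dvd hn'pos h7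
  have h9 : n' ≤ m₁ := by rw [hn'] at hnle; exact_mod_cast hnle
  have hnm : (n : ℝ) = m₁ := by rw [hn']; exact_mod_cast le_antisymm h9 h8
  have hT0 : Tr = 0 := by
    have h1 : Tr * (Nat.card P : ℝ) = 0 := by rw [hTreal, hnm]; ring
    rcases mul_eq_zero.mp h1 with h | h
    · exact h
    · exact absurd h hPr.ne'
  rw [hTr] at hT0
  have hterm := (Finset.sum_eq_zero_iff_of_nonneg (fun y' _ => by
    split_ifs <;> simp [Complex.normSq_nonneg])).mp hT0 y (Finset.mem_univ y)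
  rw [if_pos hy] at hterm
  have h10 := Complex.normSq_eq_zero.mp hterm
  rw [hμ1]
  linear_combination h10

/-- Existence and uniqueness of the canonical character: exactly one member of `B` has `P` in
its kernel. -/
theorem exists_unique_restrict_const (hM : IsPModular p M) (hB : IsPBlock M B)
    (hD : IsDefectGroup p M B P) (hG : P ⊔ Subgroup.centralizer (P : Set G) = ⊤) :
    ∃! θ : IrrCharacter G, θ ∈ B ∧ ∀ x ∈ P, (θ : G → ℂ) x = (θ : G → ℂ) 1 := by
  classical
  have hMp := isPrime_of_isPModular hM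
  letI : Fintype P := Fintype.ofFinite P
  have hP := IsDefectGroup.isPGroup hD
  choose mu ep hep hmu using fun χ : IrrCharacter G => exists_irr_restrict_left hG χ
  have hD' := hD
  obtain ⟨y₀, hy₀, -⟩ := hD'
  have hreg := not_dvd_orderOf_of_isDefectClass hM hB hy₀
  obtain ⟨μ₀, hμ₀⟩ : ∃ μ₀ : IrrCharacter P, ∀ u : P, (μ₀ : P → ℂ) u = 1 :=
    ⟨⟨fun _ => 1, Cfsg.Agent.Lib.helper81.isIrrCharacter_const_one⟩, fun _ => rfl⟩
  have key := sum_block_fiber hM hB hP hG mu ep hmu μ₀ y₀ hreg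
  have hne : (∑ χ : IrrCharacter G,
      if χ ∈ B ∧ mu χ = μ₀ then (ep χ : ℂ) * (χ : G → ℂ) y₀ else 0) ≠ 0 := by
    intro h0
    rw [h0, zero_mul, hμ₀ 1, one_mul] at key
    have h1 : blockCoeff B y₀ = 0 := by
      rcases mul_eq_zero.mp key.symm with h | h
      · exact absurd h (by exact_mod_cast Nat.card_pos.ne')
      · simpa using h
    apply hy₀.2.1
    rw [h1]
    exact memLocalIdeal_zero hMp
  obtain ⟨θ, -, hθne⟩ := Finset.exists_ne_zero_of_sum_ne_zero hne
  have hθc : θ ∈ B ∧ mu θ = μ₀ := by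
    by_contra h
    exact hθne (if_neg h)
  have hθP : ∀ x ∈ P, (θ : G → ℂ) x = (θ : G → ℂ) 1 := by
    intro x hx
    have h1 := hmu θ ⟨x, hx⟩
    have h2 := hmu θ 1
    rw [hθc.2, hμ₀] at h1
    rw [hθc.2, hμ₀] at h2
    simp only [Subgroup.coe_one] at h2
    rw [h1, h2]
  refine ⟨θ, ⟨hθc.1, hθP⟩, ?_⟩
  rintro θ' ⟨hθ', hθ'P⟩
  exact eq_of_restrict_const hM hB hD hG hθ' hθc.1 hθ'P hθP

/-- The degree of the canonical character has the same `p`-part as the index of `P`. -/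
theorem factorization_degree_of_restrict_const (hM : IsPModular p M) (hB : IsPBlock M B)
    (hD : IsDefectGroup p M B P) (hG : P ⊔ Subgroup.centralizer (P : Set G) = ⊤)
    {θ : IrrCharacter G} (hθ : θ ∈ B) (hθP : ∀ u ∈ P, (θ : G → ℂ) u = (θ : G → ℂ) 1) :
    (charDegree (θ : G → ℂ)).factorization p = P.index.factorization p := by
  have hp := (Fact.out : p.Prime)
  have hht := blockHeight_eq_zero_of_restrict_const hM hB hD hG hθ hθP
  have hfd := Cfsg.Agent.Lib.helper79.factorization_add_defect (p := p) (B := B) hθ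
  rw [hht, add_zero] at hfd
  have hcard := Cfsg.Agent.Lib.helper79.card_eq_of_isDefectGroup hM hB hD
  have hidx : P.index * Nat.card P = Nat.card G := Subgroup.index_mul_card P
  have hidx0 : P.index ≠ 0 := by
    intro h
    rw [h, zero_mul] at hidx
    exact Nat.card_pos.ne' hidx.symm
  have h1 := congrArg (fun f => f p) (Nat.factorization_mul hidx0
    (Nat.card_pos.ne' : Nat.card P ≠ 0))
  simp only [Finsupp.add_apply] at h1
  rw [hidx, hcard, hp.factorization_pow, Finsupp.single_eq_same] at h1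
  omega

/-- `χ ↦ μ_χ` is a bijection from `B` onto the irreducible characters of `P`. -/
theorem card_block_eq_card_irr (hM : IsPModular p M) (hB : IsPBlock M B)
    (hD : IsDefectGroup p M B P) (hG : P ⊔ Subgroup.centralizer (P : Set G) = ⊤) :
    Nat.card B = Nat.card (IrrCharacter P) := by
  classical
  have hMp := isPrime_of_isPModular hM
  have hp := (Fact.out : p.Prime)
  letI : Fintype P := Fintype.ofFinite P
  have hP := IsDefectGroup.isPGroup hD
  choose mu ep hep hmu using fun χ : IrrCharacter G => exists_irr_restrict_left hG χ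
  obtain ⟨θ, ⟨hθ, hθP⟩, -⟩ := exists_unique_restrict_const hM hB hD hG
  have hD' := hD
  obtain ⟨y₀, hy₀, -⟩ := hD'
  have hreg := not_dvd_orderOf_of_isDefectClass hM hB hy₀
  refine Nat.card_congr (Equiv.ofBijective (fun χ : B => mu χ.1) ⟨?_, ?_⟩)
  · rintro ⟨χ, hχ⟩ ⟨χ', hχ'⟩ h
    simp only at h
    apply Subtype.ext
    apply Subtype.ext
    funext g
    obtain ⟨a, ha⟩ := exists_isPPart_zpow hp g
    by_cases hx : g ^ a ∈ P
    · obtain ⟨y, hxy, -, -, hy⟩ := ha
      rw [← hxy]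
      have e1 := irr_mul_pRegular hP hG χ (mu χ) (ep χ) (hep χ) (hmu χ) ⟨g ^ a, hx⟩ y hy
      have e2 := irr_mul_pRegular hP hG χ' (mu χ') (ep χ') (hep χ') (hmu χ') ⟨g ^ a, hx⟩ y hy
      have e3 := irr_pRegular_eq_mul hM hB hD hG hθ hθP hχ (mu χ) (ep χ) (hep χ) (hmu χ) y hy
      have e4 := irr_pRegular_eq_mul hM hB hD hG hθ hθP hχ' (mu χ') (ep χ') (hep χ') (hmu χ')
        y hy
      simp only at e1 e2
      rw [e1, e2, e3, e4, h]
    · rw [irr_eq_zero_of_pPart_not_mem hM hB hD hG hχ g _ ha hx,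
        irr_eq_zero_of_pPart_not_mem hM hB hD hG hχ' g _ ha hx]
  · intro μ
    have key := sum_block_fiber hM hB hP hG mu ep hmu μ y₀ hreg
    have hne : (∑ χ : IrrCharacter G,
        if χ ∈ B ∧ mu χ = μ then (ep χ : ℂ) * (χ : G → ℂ) y₀ else 0) ≠ 0 := by
      intro h0
      rw [h0, zero_mul] at key
      have h1 : blockCoeff B y₀ = 0 := by
        rcases mul_eq_zero.mp key.symm with h | h
        · exact absurd h (irr_one_ne_zero μ)
        · rcases mul_eq_zero.mp h with h | h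
          · exact absurd h (by exact_mod_cast Nat.card_pos.ne')
          · simpa using h
      apply hy₀.2.1
      rw [h1]
      exact memLocalIdeal_zero hMp
    obtain ⟨χ, -, hχne⟩ := Finset.exists_ne_zero_of_sum_ne_zero hne
    have hχc : χ ∈ B ∧ mu χ = μ := by
      by_contra h
      exact hχne (if_neg h)
    exact ⟨⟨χ, hχc.1⟩, hχc.2⟩

/-- The number of members of `B` is the number of conjugacy classes of `P`. -/
theorem card_block_eq_card_conjClasses (hM : IsPModular p M) (hB : IsPBlock M B)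
    (hD : IsDefectGroup p M B P) (hG : P ⊔ Subgroup.centralizer (P : Set G) = ⊤) :
    Nat.card B = Nat.card (ConjClasses P) := by
  rw [card_block_eq_card_irr hM hB hD hG]
  exact Cfsg.Agent.Lib.helper4.card_irr_eq_card_conjClasses

/-- `B` has `p`-regular rank one. -/
theorem blockRank_eq_one_of_sup_centralizer (hM : IsPModular p M) (hB : IsPBlock M B)
    (hD : IsDefectGroup p M B P) (hG : P ⊔ Subgroup.centralizer (P : Set G) = ⊤) :
    blockRank p B = 1 := by
  classical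
  have hp := (Fact.out : p.Prime)
  letI : Fintype P := Fintype.ofFinite P
  obtain ⟨θ, ⟨hθ, hθP⟩, -⟩ := exists_unique_restrict_const hM hB hD hG
  unfold blockRank
  have hspan : Submodule.span ℂ ((fun χ : IrrCharacter G => pRegularPart p (χ : G → ℂ)) '' B)
      = Submodule.span ℂ {pRegularPart p (θ : G → ℂ)} := by
    apply le_antisymm
    · rw [Submodule.span_le]
      rintro _ ⟨χ, hχ, rfl⟩
      obtain ⟨μ, e, he, hμ⟩ := exists_irr_restrict_left hG χ
      have h1 : pRegularPart p (χ : G → ℂ)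
          = ((μ : P → ℂ) 1) • pRegularPart p (θ : G → ℂ) := by
        funext g
        by_cases hg : p ∣ orderOf g
        · rw [Pi.smul_apply, pRegularPart_of_dvd _ hg, pRegularPart_of_dvd _ hg, smul_zero]
        · rw [Pi.smul_apply, pRegularPart_of_not_dvd _ hg, pRegularPart_of_not_dvd _ hg,
            smul_eq_mul]
          exact irr_pRegular_eq_mul hM hB hD hG hθ hθP hχ μ e he hμ g hg
      show pRegularPart p (χ : G → ℂ) ∈ _
      rw [h1]
      exact Submodule.smul_mem _ _ (Submodule.mem_span_singleton_self _)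
    · rw [Submodule.span_le, Set.singleton_subset_iff]
      exact Submodule.subset_span ⟨θ, hθ, rfl⟩
  rw [hspan]
  apply finrank_span_singleton
  intro h0
  have h2 := congrFun h0 1
  rw [pRegularPart_of_not_dvd _ (by rw [orderOf_one]; exact hp.not_dvd_one)] at h2
  exact irr_one_ne_zero θ h2

end CentralDefect

end Cfsg.Agent.Lib.helper84
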