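import Mathlib
import Cfsg.Agent.Lib.helper84.MinMax
import Cfsg.Agent.Lib.helper84.VanishP
import Cfsg.Agent.Lib.helper84.CentralDefect
import Cfsg.Agent.Lib.helper80.FMT
import Cfsg.Agent.Lib.helper1.Coprime

/-!
# Blocks of a group with a normal Sylow `p`-subgroup (helper84)

If `Q` is a normal Sylow `p`-subgroup of `H`, the number of `p`-blocks of `H` equals the number
of conjugacy classes of `p`-regular elements centralizing `Q`
(`card_blocks_eq_card_classes_of_normal_sylow`), and every block has defect group `Q`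
(`isDefectGroup_of_normal_sylow`).
-/

set_option autoImplicit false
set_option linter.style.haveILetI false

namespace Cfsg.Agent.Lib.helper84

open Cfsg Cfsg.Agent.Lib.helper20 Cfsg.Agent.Lib.helper80 Cfsg.Agent.Lib.helper81
open scoped ComplexConjugate

universe u

section MatrixCount

variable {M : Ideal AlgInt}

/-- If `A * Λ` is congruent to the identity modulo the local ideal, then `A` has at least as many
columns as rows. -/
theorem card_le_card_of_mul_sub_one_mem (hMp : M.IsPrime) {X Y : Type*} [Fintype X] [Fintype Y]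
    [DecidableEq X] (A : Matrix X Y ℂ) (Λ : Matrix Y X ℂ)
    (hJ : ∀ a b, MemLocalIdeal M ((A * Λ) a b - (1 : Matrix X X ℂ) a b)) :
    Fintype.card X ≤ Fintype.card Y := by
  have hdet := det_ne_zero_of_sub_one_mem hMp (A * Λ) hJ
  have hunit : IsUnit (A * Λ) :=
    (Matrix.isUnit_iff_isUnit_det _).mpr (isUnit_iff_ne_zero.mpr hdet)
  have hrank := Matrix.rank_of_isUnit (A * Λ) hunit
  have hle : (A * Λ).rank ≤ Fintype.card Y :=
    (Matrix.rank_mul_le_left A Λ).trans (Matrix.rank_le_card_width A)
  rw [← hrank]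
  exact hle

end MatrixCount

section NormalSylow

variable {H : Type u} [Group H] [Fintype H] {p : ℕ} [Fact p.Prime] {M : Ideal AlgInt}

/-- The class consists of `p`-regular elements centralizing `Q`. -/
def CentClass (p : ℕ) (Q : Subgroup H) (c : ConjClasses H) : Prop :=
  ∀ h : H, ConjClasses.mk h = c → ¬ p ∣ orderOf h ∧ h ∈ Subgroup.centralizer (Q : Set H)

omit [Fact p.Prime] in
/-- The sum of an irreducible character over a normal subgroup is `0` or `|Q| θ(1)`. -/
theorem sum_normal_eq_zero_or (Q : Subgroup H) [Q.Normal] [Fintype Q] (θ : IrrCharacter H) :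
    (∑ u : Q, (θ : H → ℂ) u) = 0 ∨
      (∑ u : Q, (θ : H → ℂ) u) = (Nat.card Q : ℂ) * (θ : H → ℂ) 1 := by
  have h1 : ∀ h : H, ∑ u : Q, (θ : H → ℂ) ((u : H) * h)
      = (∑ u : Q, (θ : H → ℂ) u) / (θ : H → ℂ) 1 * (θ : H → ℂ) h := sum_subgroup_shift Q θ
  have hθ1 := irr_one_ne_zero θ
  have h2 : ∑ v : Q, ∑ u : Q, (θ : H → ℂ) ((u : H) * (v : H))
      = (Nat.card Q : ℂ) * ∑ u : Q, (θ : H → ℂ) u := by
    have h3 : ∀ v : Q, ∑ u : Q, (θ : H → ℂ) ((u : H) * (v : H)) = ∑ u : Q, (θ : H → ℂ) u := by
      intro v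
      exact Fintype.sum_equiv (Equiv.mulRight v) _ _ (fun u => rfl)
    rw [Finset.sum_congr rfl (fun v _ => h3 v), Finset.sum_const, Finset.card_univ,
      nsmul_eq_mul, Nat.card_eq_fintype_card]
  have h3 : ∑ v : Q, ∑ u : Q, (θ : H → ℂ) ((u : H) * (v : H))
      = (∑ u : Q, (θ : H → ℂ) u) / (θ : H → ℂ) 1 * ∑ v : Q, (θ : H → ℂ) v := by
    rw [Finset.mul_sum]
    exact Finset.sum_congr rfl (fun v _ => h1 v)
  obtain ⟨S, hS⟩ : ∃ S : ℂ, S = ∑ u : Q, (θ : H → ℂ) u := ⟨_, rfl⟩
  rw [← hS] at h2 h3 ⊢
  have h5 : (Nat.card Q : ℂ) * S * (θ : H → ℂ) 1 = S * S := by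
    rw [← h2, h3]
    field_simp
  have h4 : S * (S - (Nat.card Q : ℂ) * (θ : H → ℂ) 1) = 0 := by linear_combination -h5
  rcases mul_eq_zero.mp h4 with h | h
  · exact Or.inl h
  · exact Or.inr (sub_eq_zero.mp h)

open Classical in
/-- Column orthogonality for the characters with a normal `p`-subgroup in the kernel, at
`p`-regular elements centralizing it. -/
theorem sum_irr_normal_mul_conj (Q : Subgroup H) [Q.Normal] [Fintype Q] (hQ : IsPGroup p Q)
    (y y' : H) (hy : ¬ p ∣ orderOf y) (hy' : ¬ p ∣ orderOf y')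
    (hc' : y' ∈ Subgroup.centralizer (Q : Set H)) :
    (Nat.card Q : ℂ) * ∑ θ : IrrCharacter H, (if (∑ u : Q, (θ : H → ℂ) u) ≠ 0 then
        (θ : H → ℂ) y * conj ((θ : H → ℂ) y') else 0)
      = if IsConj y y' then (Nat.card (Subgroup.centralizer ({y} : Set H)) : ℂ) else 0 := by
  classical
  have hp := (Fact.out : p.Prime)
  have key : ∑ u : Q, ∑ θ : IrrCharacter H, (θ : H → ℂ) y * conj ((θ : H → ℂ) ((u : H) * y'))
      = if IsConj y y' then (Nat.card (Subgroup.centralizer ({y} : Set H)) : ℂ) else 0 := by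
    rw [Finset.sum_eq_single (1 : Q)]
    · simp only [Subgroup.coe_one, one_mul]
      by_cases hconj : IsConj y y'
      · rw [if_pos hconj]
        exact Cfsg.Agent.Lib.helper4.sum_irr_mul_conj_of_isConj hconj
      · rw [if_neg hconj]
        exact Cfsg.Agent.Lib.helper4.sum_irr_mul_conj_of_not_isConj hconj
    · intro u _ hu
      apply Cfsg.Agent.Lib.helper4.sum_irr_mul_conj_of_not_isConj
      intro hconj
      obtain ⟨t, ht⟩ := isConj_iff.mp hconj
      have hcomm : Commute (u : H) y' :=
        Subgroup.mem_centralizer_iff.mp hc' u u.2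
      obtain ⟨j, hj⟩ := exists_orderOf_eq_pow_of_mem hQ u.2
      have hdvd := dvd_orderOf_mul_of_commute hcomm
        (fun h => hu (Subtype.ext h)) hj hy'
      rw [← ht] at hdvd
      exact (not_dvd_orderOf_conj_iff y t).mpr hy hdvd
    · intro h
      exact absurd (Finset.mem_univ _) h
  rw [← key, Finset.sum_comm, Finset.mul_sum]
  refine Finset.sum_congr rfl (fun θ _ => ?_)
  rw [← Finset.mul_sum, ← map_sum, sum_subgroup_shift Q θ y']
  have hθ1 := irr_one_ne_zero θ
  have hc1 : conj ((θ : H → ℂ) 1) = (θ : H → ℂ) 1 := by rw [irr_one_eq_charDegree]; simp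
  rcases sum_normal_eq_zero_or Q θ with h | h
  · rw [h, if_neg (not_not.mpr rfl)]
    simp
  · have hne : (∑ u : Q, (θ : H → ℂ) u) ≠ 0 := by
      rw [h]
      exact mul_ne_zero (by exact_mod_cast Nat.card_pos.ne') hθ1
    rw [if_pos hne, h, map_mul, map_div₀, map_mul, Complex.conj_natCast, hc1]
    field_simp

/-- An element whose centralizer has full `p`-part centralizes the normal Sylow subgroup. -/
theorem mem_centralizer_of_factorization_le (Q : Subgroup H) [Q.Normal] (hQ : IsPGroup p Q)
    (hQi : ¬ p ∣ Q.index) (y : H)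
    (h : (Nat.card H).factorization p
      ≤ (Nat.card (Subgroup.centralizer ({y} : Set H))).factorization p) :
    y ∈ Subgroup.centralizer (Q : Set H) := by
  have hp := (Fact.out : p.Prime)
  obtain ⟨C, hC⟩ : ∃ C : Subgroup H, C = Subgroup.centralizer ({y} : Set H) := ⟨_, rfl⟩
  rw [← hC] at h
  obtain ⟨S⟩ : Nonempty (Sylow p C) := inferInstance
  have hScard : Nat.card S = p ^ (Nat.card C).factorization p := S.card_eq_multiplicity
  obtain ⟨S', hS'⟩ : ∃ S' : Subgroup H, S' = (S : Subgroup C).map C.subtype := ⟨_, rfl⟩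
  have hS'card : Nat.card S' = p ^ (Nat.card C).factorization p := by
    rw [hS', Subgroup.card_map_of_injective C.subtype_injective]
    exact hScard
  have hS'p : IsPGroup p S' := by
    rw [hS']
    exact S.isPGroup'.map _
  obtain ⟨R, hR⟩ := hS'p.exists_le_sylow
  have hQR : Q ≤ R := Cfsg.Agent.Lib.helper1.normal_pgroup_le_sylow Q hQ R
  have hRcard : Nat.card R = p ^ (Nat.card H).factorization p := R.card_eq_multiplicity
  obtain ⟨k, hk⟩ := hQ.exists_card_eq
  have hQcard : Nat.card Q = p ^ (Nat.card H).factorization p := by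
    have h1 : (Nat.card H).factorization p = k := by
      rw [← Q.index_mul_card, Nat.factorization_mul Q.index_ne_zero_of_finite
        Nat.card_pos.ne', hk, Nat.factorization_pow, hp.factorization]
      have h2 : Q.index.factorization p = 0 := Nat.factorization_eq_zero_of_not_dvd hQi
      simp [h2]
    rw [hk, h1]
  have hQReq : Q = (R : Subgroup H) :=
    Subgroup.eq_of_le_of_card_ge hQR (by rw [hRcard, hQcard])
  have hS'Q : S' = Q := by
    have h1 : S' ≤ Q := by rw [hQReq]; exact hR
    apply Subgroup.eq_of_le_of_card_ge h1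
    rw [hS'card, hQcard]
    exact Nat.pow_le_pow_right hp.pos h
  rw [Subgroup.mem_centralizer_iff]
  intro q hq
  have hq' : q ∈ S' := by rw [hS'Q]; exact hq
  rw [hS'] at hq'
  obtain ⟨s, -, rfl⟩ := Subgroup.mem_map.mp hq'
  have hs : (s : H) ∈ Subgroup.centralizer ({y} : Set H) := by
    rw [← hC]
    exact s.2
  have h2 := Subgroup.mem_centralizer_iff.mp hs y (Set.mem_singleton y)
  exact h2.symm

/-- Every block of a group with a normal Sylow `p`-subgroup `Q` has defect group `Q`. -/
theorem isDefectGroup_of_normal_sylow (hM : IsPModular p M) (Q : Subgroup H) [Q.Normal]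
    (hQ : IsPGroup p Q) (hQi : ¬ p ∣ Q.index) {B : Set (IrrCharacter H)} (hB : IsPBlock M B) :
    IsDefectGroup p M B Q := by
  have hp := (Fact.out : p.Prime)
  have hMp := isPrime_of_isPModular hM
  obtain ⟨D, hD⟩ := exists_isDefectGroup p hMp hB
  have hQD : Q ≤ D := normal_le_defectGroup hM Q hQ hB hD
  have hDp := IsDefectGroup.isPGroup hD
  obtain ⟨R, hR⟩ := hDp.exists_le_sylow
  have hQR : Q ≤ R := Cfsg.Agent.Lib.helper1.normal_pgroup_le_sylow Q hQ R
  have hRcard : Nat.card R = p ^ (Nat.card H).factorization p := R.card_eq_multiplicity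
  obtain ⟨k, hk⟩ := hQ.exists_card_eq
  have hQcard : Nat.card Q = p ^ (Nat.card H).factorization p := by
    have h1 : (Nat.card H).factorization p = k := by
      rw [← Q.index_mul_card, Nat.factorization_mul Q.index_ne_zero_of_finite
        Nat.card_pos.ne', hk, Nat.factorization_pow, hp.factorization]
      have h2 : Q.index.factorization p = 0 := Nat.factorization_eq_zero_of_not_dvd hQi
      simp [h2]
    rw [hk, h1]
  have hQReq : Q = (R : Subgroup H) :=
    Subgroup.eq_of_le_of_card_ge hQR (by rw [hRcard, hQcard])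
  have hDQ : D = Q := le_antisymm (by rw [hQReq]; exact hR) hQD
  rw [← hDQ]
  exact hD

open Classical in
/-- At most as many blocks as `p`-regular classes centralizing the normal Sylow subgroup. -/
theorem card_blocks_le_card_classes_of_normal_sylow (hM : IsPModular p M) (Q : Subgroup H)
    [Q.Normal] (hQ : IsPGroup p Q) (hQi : ¬ p ∣ Q.index) :
    Nat.card {B : Set (IrrCharacter H) // IsPBlock M B}
      ≤ Nat.card {c : ConjClasses H // CentClass p Q c} := by
  classical
  have hp := (Fact.out : p.Prime)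
  have hMp := isPrime_of_isPModular hM
  have h1 := card_blocks_le_card_classes hM (fun _ : Set (IrrCharacter H) => True)
    (CentClass p Q) (by
      intro B B' hB _ hB' _ c hc χ' hχ'
      obtain ⟨y, hy⟩ : ∃ y : H, y = Quotient.out c := ⟨_, rfl⟩
      rw [← hy]
      have hyc : ConjClasses.mk y = c := by rw [hy]; exact Quotient.out_eq c
      by_cases hreg : p ∣ orderOf y
      · rw [blockCoeff_eq_zero_of_dvd_orderOf hM hB y hreg, zero_mul]
        exact memLocalIdeal_zero hMp
      · have hycent : y ∉ Subgroup.centralizer (Q : Set H) := by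
          intro hyC
          apply hc
          intro h hh
          have hconj : IsConj y h := by
            rw [← ConjClasses.mk_eq_mk_iff_isConj, hyc, hh]
          obtain ⟨t, ht⟩ := isConj_iff.mp hconj
          refine ⟨?_, ?_⟩
          · rw [← ht]
            exact (not_dvd_orderOf_conj_iff y t).mpr hreg
          · rw [← ht, Subgroup.mem_centralizer_iff]
            intro q hq
            have hq' : t⁻¹ * q * t ∈ Q := by
              have h2 := (inferInstance : Q.Normal).conj_mem q hq t⁻¹
              simpa using h2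
            have h3 := Subgroup.mem_centralizer_iff.mp hyC _ hq'
            have h4 : q * (t * y * t⁻¹) = t * ((t⁻¹ * q * t) * y) * t⁻¹ := by group
            rw [h4, h3]
            group
        have hlt : (Nat.card (Subgroup.centralizer ({y} : Set H))).factorization p
            < (Nat.card H).factorization p := by
          by_contra hcon
          exact hycent (mem_centralizer_of_factorization_le Q hQ hQi y (not_lt.mp hcon))
        have hdef : (Nat.card H).factorization p ≤ blockDefect p B' := by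
          have hD := isDefectGroup_of_normal_sylow hM Q hQ hQi hB'
          have h5 := Cfsg.Agent.Lib.helper79.card_eq_of_isDefectGroup hM hB' hD
          obtain ⟨k, hk⟩ := hQ.exists_card_eq
          have h6 : (Nat.card H).factorization p = k := by
            rw [← Q.index_mul_card, Nat.factorization_mul Q.index_ne_zero_of_finite
              Nat.card_pos.ne', hk, Nat.factorization_pow, hp.factorization]
            have h2 : Q.index.factorization p = 0 := Nat.factorization_eq_zero_of_not_dvd hQi
            simp [h2]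
          rw [hk] at h5
          have h7 := Nat.pow_right_injective hp.two_le h5
          omega
        have h8 : MemLocalIdeal M (centralChar (χ' : H → ℂ) y) :=
          memLocalIdeal_centralChar_of_lt_defect hM hB' hχ' _ (by omega)
        exact memLocalIdeal_mul_left hMp (memLocalRing_blockCoeff hMp hB _) h8)
  have e : {B : Set (IrrCharacter H) // IsPBlock M B} ≃
      {B : Set (IrrCharacter H) // IsPBlock M B ∧ True} :=
    Equiv.subtypeEquivRight (fun B => by simp)
  rw [Nat.card_congr e]
  exact h1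

open Classical in
/-- At least as many blocks as `p`-regular classes centralizing the normal Sylow subgroup. -/
theorem card_classes_le_card_blocks_of_normal_sylow (hM : IsPModular p M) (Q : Subgroup H)
    [Q.Normal] (hQ : IsPGroup p Q) (hQi : ¬ p ∣ Q.index) :
    Nat.card {c : ConjClasses H // CentClass p Q c}
      ≤ Nat.card {B : Set (IrrCharacter H) // IsPBlock M B} := by
  classical
  have hMp := isPrime_of_isPModular hM
  have hp := (Fact.out : p.Prime)
  have : Fintype Q := Fintype.ofFinite Q
  have : Fintype {B : Set (IrrCharacter H) // IsPBlock M B} := Fintype.ofFinite _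
  have : Fintype {c : ConjClasses H // CentClass p Q c} := Fintype.ofFinite _
  rw [Nat.card_eq_fintype_card, Nat.card_eq_fintype_card]
  have hrep : ∀ B : {B : Set (IrrCharacter H) // IsPBlock M B},
      ∃ χ : IrrCharacter H, χ ∈ B.1 :=
    fun B => Cfsg.Agent.Lib.helper81.isPBlock_nonempty hMp B.2
  choose rep hrepmem using hrep
  obtain ⟨m, hm⟩ : ∃ m : ℕ, m = Q.index := ⟨_, rfl⟩
  have hpm : ¬ p ∣ m := hm ▸ hQi
  have hm0 : (m : ℂ) ≠ 0 := by
    intro h0
    have h1 : m = 0 := by exact_mod_cast h0
    rw [h1] at hpm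
    exact hpm (dvd_zero p)
  have hQ0 : (Nat.card Q : ℂ) ≠ 0 := by exact_mod_cast Nat.card_pos.ne'
  have hcardH : (Nat.card H : ℂ) = (m : ℂ) * (Nat.card Q : ℂ) := by
    rw [hm]
    exact_mod_cast Q.index_mul_card.symm
  obtain ⟨F, hF⟩ : ∃ F : H → IrrCharacter H → ℂ,
      F = fun (y' : H) (θ : IrrCharacter H) =>
        (θ : H → ℂ) 1 * (θ : H → ℂ) y'⁻¹ / (m : ℂ) := ⟨_, rfl⟩
  have hFR : ∀ y' θ, MemLocalRing M (F y' θ) := by
    intro y' θ
    rw [hF]
    exact memLocalRing_div_natCast hM ⟨(θ : H → ℂ) 1 * (θ : H → ℂ) y'⁻¹,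
      (irr_isIntegral θ 1).mul (irr_isIntegral θ y'⁻¹)⟩ hpm
  apply card_le_card_of_mul_sub_one_mem hMp
    (Matrix.of fun (c : {c : ConjClasses H // CentClass p Q c})
      (B : {B : Set (IrrCharacter H) // IsPBlock M B}) =>
        centralChar (rep B : H → ℂ) (Quotient.out c.1))
    (Matrix.of fun (B : {B : Set (IrrCharacter H) // IsPBlock M B})
      (c : {c : ConjClasses H // CentClass p Q c}) => ∑ θ : IrrCharacter H,
        if θ ∈ B.1 ∧ (∑ u : Q, (θ : H → ℂ) u) ≠ 0 then F (Quotient.out c.1) θ else 0)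
  intro c c'
  obtain ⟨y, hy⟩ : ∃ y : H, y = Quotient.out c.1 := ⟨_, rfl⟩
  obtain ⟨y', hy'⟩ : ∃ y' : H, y' = Quotient.out c'.1 := ⟨_, rfl⟩
  have hyc : ConjClasses.mk y = c.1 := by rw [hy]; exact Quotient.out_eq c.1
  have hyc' : ConjClasses.mk y' = c'.1 := by rw [hy']; exact Quotient.out_eq c'.1
  obtain ⟨hyreg, hycent⟩ := c.2 y hyc
  obtain ⟨hyreg', hycent'⟩ := c'.2 y' hyc'
  rw [Matrix.mul_apply]
  simp only [Matrix.of_apply]
  rw [← hy, ← hy']
  obtain ⟨E, hE⟩ : ∃ E : ℂ, E = ∑ B : {B : Set (IrrCharacter H) // IsPBlock M B},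
      ∑ θ : IrrCharacter H, if θ ∈ B.1 ∧ (∑ u : Q, (θ : H → ℂ) u) ≠ 0 then
        centralChar (θ : H → ℂ) y * F y' θ else 0 := ⟨_, rfl⟩
  have hdiff : MemLocalIdeal M ((∑ B : {B : Set (IrrCharacter H) // IsPBlock M B},
      centralChar (rep B : H → ℂ) y * ∑ θ : IrrCharacter H,
        if θ ∈ B.1 ∧ (∑ u : Q, (θ : H → ℂ) u) ≠ 0 then F y' θ else 0) - E) := by
    rw [hE, ← Finset.sum_sub_distrib]
    apply memLocalIdeal_sum hMp
    intro B _
    rw [Finset.mul_sum, ← Finset.sum_sub_distrib]
    apply memLocalIdeal_sum hMp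
    intro θ _
    by_cases hθ : θ ∈ B.1 ∧ (∑ u : Q, (θ : H → ℂ) u) ≠ 0
    · rw [if_pos hθ, if_pos hθ, ← sub_mul]
      exact memLocalIdeal_mul_right hMp
        (Cfsg.Agent.Lib.helper81.sameBlock_of_mem hMp B.2 (hrepmem B) hθ.1 y) (hFR y' θ)
    · rw [if_neg hθ, if_neg hθ, mul_zero, sub_zero]
      exact memLocalIdeal_zero hMp
  have hEval : E = (1 : Matrix {c : ConjClasses H // CentClass p Q c} _ ℂ) c c' := by
    rw [hE, Finset.sum_comm]
    have h1 : ∀ θ : IrrCharacter H, ∑ B : {B : Set (IrrCharacter H) // IsPBlock M B},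
        (if θ ∈ B.1 ∧ (∑ u : Q, (θ : H → ℂ) u) ≠ 0 then
          centralChar (θ : H → ℂ) y * F y' θ else 0)
        = if (∑ u : Q, (θ : H → ℂ) u) ≠ 0 then
            ((Subgroup.centralizer ({y} : Set H)).index : ℂ) / (m : ℂ)
              * ((θ : H → ℂ) y * conj ((θ : H → ℂ) y')) else 0 := by
      intro θ
      rw [Finset.sum_eq_single (⟨blockOf M (θ : H → ℂ), isPBlock_blockOf M θ⟩ :
        {B : Set (IrrCharacter H) // IsPBlock M B})]
      · by_cases hT : (∑ u : Q, (θ : H → ℂ) u) ≠ 0
        · rw [if_pos ⟨Cfsg.Agent.Lib.helper80.mem_blockOf_self hMp θ, hT⟩, if_pos hT, hF]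
          simp only
          unfold centralChar
          rw [irr_inv]
          have hθ1 := irr_one_ne_zero θ
          field_simp
        · rw [if_neg (fun h => hT h.2), if_neg hT]
      · intro B _ hB
        rw [if_neg]
        intro h
        apply hB
        exact Subtype.ext (Cfsg.Agent.Lib.helper80.eq_blockOf_of_mem hMp B.2 h.1)
      · intro h
        exact absurd (Finset.mem_univ _) h
    rw [Finset.sum_congr rfl (fun θ _ => h1 θ)]
    have h2 := sum_irr_normal_mul_conj Q hQ y y' hyreg hyreg' hycent'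
    obtain ⟨S, hS⟩ : ∃ S : ℂ, S = ∑ θ : IrrCharacter H,
        (if (∑ u : Q, (θ : H → ℂ) u) ≠ 0 then
          (θ : H → ℂ) y * conj ((θ : H → ℂ) y') else 0) := ⟨_, rfl⟩
    rw [← hS] at h2
    have h3 : ∑ θ : IrrCharacter H, (if (∑ u : Q, (θ : H → ℂ) u) ≠ 0 then
        ((Subgroup.centralizer ({y} : Set H)).index : ℂ) / (m : ℂ)
          * ((θ : H → ℂ) y * conj ((θ : H → ℂ) y')) else 0)
        = ((Subgroup.centralizer ({y} : Set H)).index : ℂ) / (m : ℂ) * S := by
      rw [hS, Finset.mul_sum]
      refine Finset.sum_congr rfl (fun θ _ => ?_)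
      split_ifs <;> simp
    rw [h3, Matrix.one_apply]
    have hidx : ((Subgroup.centralizer ({y} : Set H)).index : ℂ)
        * (Nat.card (Subgroup.centralizer ({y} : Set H)) : ℂ)
        = (m : ℂ) * (Nat.card Q : ℂ) := by
      rw [← hcardH]
      exact_mod_cast (Subgroup.centralizer ({y} : Set H)).index_mul_card
    by_cases hcc : c = c'
    · have hconj : IsConj y y' := by
        rw [← ConjClasses.mk_eq_mk_iff_isConj, hyc, hyc', hcc]
      rw [if_pos hconj] at h2
      rw [if_pos hcc]
      have hS' : S = (Nat.card (Subgroup.centralizer ({y} : Set H)) : ℂ) / (Nat.card Q : ℂ) := by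
        rw [eq_div_iff hQ0]
        linear_combination h2
      rw [hS']
      field_simp
      linear_combination hidx
    · have hconj : ¬ IsConj y y' := by
        intro h
        apply hcc
        apply Subtype.ext
        rw [← hyc, ← hyc']
        exact ConjClasses.mk_eq_mk_iff_isConj.mpr h
      rw [if_neg hconj] at h2
      rw [if_neg hcc]
      rcases mul_eq_zero.mp h2 with h | h
      · exact absurd h hQ0
      · rw [h, mul_zero]
  rw [← hEval]
  exact hdiff

/-- **Blocks of a group with a normal Sylow `p`-subgroup**: their number is the number of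
classes of `p`-regular elements centralizing the Sylow subgroup. -/
theorem card_blocks_eq_card_classes_of_normal_sylow (hM : IsPModular p M) (Q : Subgroup H)
    [Q.Normal] (hQ : IsPGroup p Q) (hQi : ¬ p ∣ Q.index) :
    Nat.card {B : Set (IrrCharacter H) // IsPBlock M B}
      = Nat.card {c : ConjClasses H // CentClass p Q c} :=
  le_antisymm (card_blocks_le_card_classes_of_normal_sylow hM Q hQ hQi)
    (card_classes_le_card_blocks_of_normal_sylow hM Q hQ hQi)

end NormalSylow

end Cfsg.Agent.Lib.helper84
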