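import Mathlib
import Cfsg.Prelude.Def_Blocks
import Cfsg.Agent.Lib.helper20.Basic
import Cfsg.Agent.Lib.helper20.NormalIdem
import Cfsg.Agent.Lib.helper80.LocalInt
import Cfsg.Agent.Lib.helper84.NormalSylow

/-!
# Ranks of integer matrices modulo `p` from congruences modulo the local ideal

* `exists_rank_factorization`, `exists_rank_inverse`: a square matrix `N` over a field factors
  through `Fin N.rank`, and has one-sided "inverses" `P' * N * Q' = 1` of that size.
* `MCong`, `MLoc`: entrywise congruence modulo the local ideal, entrywise local integrality.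
* `NatLifts`: a complex matrix with natural-number entries reducing to a matrix over `ZMod p`.
* `rank_eq_card_of_cong`: if a natural-number matrix `n` satisfies
  `n ≡ A * Eᵀ * diag κ` and `Eᵀ * A ≡ 1` modulo the local ideal, with `A`, `E` of shape `ι × β`
  having local-integer entries and `κ` prime to `p`, then the rank of `n` modulo `p` is the
  cardinality of `β`.
-/

set_option autoImplicit false

namespace Cfsg.Agent.Lib.helper84

open Cfsg Cfsg.Agent.Lib.helper20
open Matrix Module

section LinAlg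

variable {K : Type*} [Field K] {ι : Type*} [Fintype ι] [DecidableEq ι]

theorem toMatrix'_mulVecLin_self (N : Matrix ι ι K) : LinearMap.toMatrix' N.mulVecLin = N := by
  rw [← Matrix.toLin'_apply', LinearMap.toMatrix'_toLin']

/-- A square matrix over a field factors through `Fin N.rank`. -/
theorem exists_rank_factorization (N : Matrix ι ι K) :
    ∃ (X : Matrix ι (Fin N.rank) K) (Y : Matrix (Fin N.rank) ι K), N = X * Y := by
  classical
  let T : (ι → K) →ₗ[K] (ι → K) := N.mulVecLin
  let V := LinearMap.range T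
  have hr : finrank K V = N.rank := rfl
  let b : Basis (Fin N.rank) K V := Module.finBasisOfFinrankEq K V hr
  let x : (Fin N.rank → K) →ₗ[K] (ι → K) := V.subtype ∘ₗ b.equivFun.symm.toLinearMap
  let y : (ι → K) →ₗ[K] (Fin N.rank → K) := b.equivFun.toLinearMap ∘ₗ T.rangeRestrict
  have hxy : x ∘ₗ y = T := by
    refine LinearMap.ext fun v => ?_
    show V.subtype (b.equivFun.symm (b.equivFun (T.rangeRestrict v))) = T v
    rw [LinearEquiv.symm_apply_apply]
    rfl
  refine ⟨LinearMap.toMatrix' x, LinearMap.toMatrix' y, ?_⟩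
  rw [← LinearMap.toMatrix'_comp, hxy]
  exact (toMatrix'_mulVecLin_self N).symm

/-- A square matrix over a field has "one-sided inverses" of size its rank. -/
theorem exists_rank_inverse (N : Matrix ι ι K) :
    ∃ (P' : Matrix (Fin N.rank) ι K) (Q' : Matrix ι (Fin N.rank) K), P' * N * Q' = 1 := by
  classical
  let T : (ι → K) →ₗ[K] (ι → K) := N.mulVecLin
  let V := LinearMap.range T
  have hr : finrank K V = N.rank := rfl
  let b : Basis (Fin N.rank) K V := Module.finBasisOfFinrankEq K V hr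
  obtain ⟨g₁, hg₁⟩ := LinearMap.exists_rightInverse_of_surjective T.rangeRestrict
    (LinearMap.range_rangeRestrict T)
  obtain ⟨g₂, hg₂⟩ := LinearMap.exists_leftInverse_of_injective V.subtype (Submodule.ker_subtype V)
  let q' : (Fin N.rank → K) →ₗ[K] (ι → K) := g₁ ∘ₗ b.equivFun.symm.toLinearMap
  let p' : (ι → K) →ₗ[K] (Fin N.rank → K) := b.equivFun.toLinearMap ∘ₗ g₂
  have hcomp : (p' ∘ₗ T) ∘ₗ q' = LinearMap.id := by
    refine LinearMap.ext fun v => ?_
    have h1 : T.rangeRestrict (g₁ (b.equivFun.symm v)) = b.equivFun.symm v :=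
      LinearMap.congr_fun hg₁ (b.equivFun.symm v)
    have h2 : g₂ (V.subtype (b.equivFun.symm v)) = b.equivFun.symm v :=
      LinearMap.congr_fun hg₂ (b.equivFun.symm v)
    have h3 : T (g₁ (b.equivFun.symm v)) = V.subtype (b.equivFun.symm v) := by
      have h4 := congrArg (fun w : V => (w : ι → K)) h1
      exact h4
    show b.equivFun (g₂ (T (g₁ (b.equivFun.symm v)))) = v
    rw [h3, h2, LinearEquiv.apply_symm_apply]
  refine ⟨LinearMap.toMatrix' p', LinearMap.toMatrix' q', ?_⟩
  have key : LinearMap.toMatrix' p' * LinearMap.toMatrix' T * LinearMap.toMatrix' q' = 1 := by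
    rw [← LinearMap.toMatrix'_comp, ← LinearMap.toMatrix'_comp, hcomp, LinearMap.toMatrix'_id]
  rwa [toMatrix'_mulVecLin_self N] at key

end LinAlg

section MatCong

variable {M : Ideal AlgInt}

/-- Entrywise congruence modulo the local ideal. -/
def MCong (M : Ideal AlgInt) {m n : Type*} (A B : Matrix m n ℂ) : Prop :=
  ∀ i j, MemLocalIdeal M (A i j - B i j)

/-- All entries are local integers. -/
def MLoc (M : Ideal AlgInt) {m n : Type*} (A : Matrix m n ℂ) : Prop :=
  ∀ i j, MemLocalRing M (A i j)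

theorem MCong.refl (hM : M.IsPrime) {m n : Type*} (A : Matrix m n ℂ) : MCong M A A := by
  intro i j
  rw [sub_self]
  exact memLocalIdeal_zero hM

theorem MCong.symm {m n : Type*} {A B : Matrix m n ℂ} (h : MCong M A B) : MCong M B A := by
  intro i j
  have h1 := memLocalIdeal_neg (h i j)
  rwa [neg_sub] at h1

theorem MCong.trans (hM : M.IsPrime) {m n : Type*} {A B C : Matrix m n ℂ} (h₁ : MCong M A B)
    (h₂ : MCong M B C) : MCong M A C := by
  intro i j
  have h1 := memLocalIdeal_add hM (h₁ i j) (h₂ i j)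
  rwa [sub_add_sub_cancel] at h1

theorem MCong.of_eq (hM : M.IsPrime) {m n : Type*} {A B : Matrix m n ℂ} (h : A = B) :
    MCong M A B := by
  rw [h]
  exact MCong.refl hM B

theorem MCong.mul_right (hM : M.IsPrime) {m n k : Type*} [Fintype n] {A B : Matrix m n ℂ}
    (h : MCong M A B) {C : Matrix n k ℂ} (hC : MLoc M C) : MCong M (A * C) (B * C) := by
  intro i j
  rw [Matrix.mul_apply, Matrix.mul_apply, ← Finset.sum_sub_distrib]
  refine memLocalIdeal_sum hM _ _ (fun l _ => ?_)
  rw [← sub_mul]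
  exact memLocalIdeal_mul_right hM (h i l) (hC l j)

theorem MCong.mul_left (hM : M.IsPrime) {m n k : Type*} [Fintype n] {C : Matrix m n ℂ}
    (hC : MLoc M C) {A B : Matrix n k ℂ} (h : MCong M A B) : MCong M (C * A) (C * B) := by
  intro i j
  rw [Matrix.mul_apply, Matrix.mul_apply, ← Finset.sum_sub_distrib]
  refine memLocalIdeal_sum hM _ _ (fun l _ => ?_)
  rw [← mul_sub]
  exact memLocalIdeal_mul_left hM (hC i l) (h l j)

theorem MLoc.mul (hM : M.IsPrime) {m n k : Type*} [Fintype n] {A : Matrix m n ℂ}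
    {B : Matrix n k ℂ} (hA : MLoc M A) (hB : MLoc M B) : MLoc M (A * B) := by
  intro i j
  rw [Matrix.mul_apply]
  exact memLocalRing_sum hM _ _ (fun l _ => memLocalRing_mul hM (hA i l) (hB l j))

theorem MLoc.transpose {m n : Type*} {A : Matrix m n ℂ} (hA : MLoc M A) : MLoc M Aᵀ :=
  fun i j => hA j i

theorem MLoc.diagonal (hM : M.IsPrime) {m : Type*} [DecidableEq m] {d : m → ℂ}
    (hd : ∀ i, MemLocalRing M (d i)) : MLoc M (Matrix.diagonal d) := by
  intro i j
  by_cases h : i = j
  · subst h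
    rw [Matrix.diagonal_apply_eq]
    exact hd i
  · rw [Matrix.diagonal_apply_ne _ h]
    exact memLocalRing_zero hM

end MatCong

section NatLift

variable {p : ℕ} [Fact p.Prime] {M : Ideal AlgInt}

/-- Two natural numbers with the same residue modulo `p` are congruent modulo the local ideal. -/
theorem memLocalIdeal_natCast_sub_of_zmod_eq (hM : IsPModular p M) {a b : ℕ}
    (h : (a : ZMod p) = (b : ZMod p)) : MemLocalIdeal M ((a : ℂ) - (b : ℂ)) := by
  have hMp := isPrime_of_isPModular hM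
  have h1 : a ≡ b [MOD p] := (ZMod.natCast_eq_natCast_iff a b p).mp h
  obtain ⟨k, hk⟩ := (Nat.modEq_iff_dvd.mp h1)
  have h2 : (a : ℂ) - (b : ℂ) = -(((p : ℕ) : ℂ) * (k : ℂ)) := by
    have h3 : ((b : ℤ) : ℂ) - ((a : ℤ) : ℂ) = ((p : ℤ) : ℂ) * (k : ℂ) := by
      rw [← Int.cast_sub, hk, Int.cast_mul]
    simp only [Int.cast_natCast] at h3
    rw [← h3]
    ring
  rw [h2]
  exact memLocalIdeal_neg (memLocalIdeal_mul_right hMp
    (Cfsg.Agent.Lib.helper80.memLocalIdeal_natCast hM (dvd_refl p)) (memLocalRing_intCast hMp k))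

/-- The complex matrix `A` has natural-number entries reducing modulo `p` to `Z`. -/
def NatLifts (p : ℕ) {m n : Type*} (A : Matrix m n ℂ) (Z : Matrix m n (ZMod p)) : Prop :=
  ∀ i j, ∃ a : ℕ, A i j = (a : ℂ) ∧ (a : ZMod p) = Z i j

/-- The standard lift of a matrix over `ZMod p`. -/
noncomputable def natLift {m n : Type*} (Z : Matrix m n (ZMod p)) : Matrix m n ℂ :=
  fun i j => ((Z i j).val : ℂ)

theorem natLifts_natLift {m n : Type*} (Z : Matrix m n (ZMod p)) : NatLifts p (natLift Z) Z := by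
  intro i j
  haveI : NeZero p := ⟨(Fact.out : p.Prime).ne_zero⟩
  exact ⟨(Z i j).val, rfl, ZMod.natCast_zmod_val (Z i j)⟩

theorem NatLifts.mLoc (hM : M.IsPrime) {m n : Type*} {A : Matrix m n ℂ}
    {Z : Matrix m n (ZMod p)} (h : NatLifts p A Z) : MLoc M A := by
  intro i j
  obtain ⟨a, ha, -⟩ := h i j
  rw [ha]
  exact memLocalRing_natCast hM a

theorem NatLifts.mul {m n k : Type*} [Fintype n] {A : Matrix m n ℂ} {Z : Matrix m n (ZMod p)}
    {B : Matrix n k ℂ} {W : Matrix n k (ZMod p)} (hA : NatLifts p A Z) (hB : NatLifts p B W) :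
    NatLifts p (A * B) (Z * W) := by
  choose a ha ha' using hA
  choose b hb hb' using hB
  intro i j
  refine ⟨∑ l, a i l * b l j, ?_, ?_⟩
  · rw [Matrix.mul_apply, Nat.cast_sum]
    refine Finset.sum_congr rfl (fun l _ => ?_)
    rw [ha, hb, Nat.cast_mul]
  · rw [Matrix.mul_apply, Nat.cast_sum]
    refine Finset.sum_congr rfl (fun l _ => ?_)
    rw [Nat.cast_mul, ha', hb']

theorem natLifts_one {m : Type*} [DecidableEq m] :
    NatLifts p (1 : Matrix m m ℂ) (1 : Matrix m m (ZMod p)) := by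
  intro i j
  by_cases h : i = j
  · subst h
    exact ⟨1, by rw [Matrix.one_apply_eq, Nat.cast_one], by rw [Matrix.one_apply_eq, Nat.cast_one]⟩
  · exact ⟨0, by rw [Matrix.one_apply_ne h, Nat.cast_zero],
      by rw [Matrix.one_apply_ne h, Nat.cast_zero]⟩

theorem NatLifts.mCong (hM : IsPModular p M) {m n : Type*} {A B : Matrix m n ℂ}
    {Z : Matrix m n (ZMod p)} (hA : NatLifts p A Z) (hB : NatLifts p B Z) : MCong M A B := by
  intro i j
  obtain ⟨a, ha, ha'⟩ := hA i j
  obtain ⟨b, hb, hb'⟩ := hB i j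
  rw [ha, hb]
  exact memLocalIdeal_natCast_sub_of_zmod_eq hM (ha'.trans hb'.symm)

end NatLift

section RankEq

variable {p : ℕ} [Fact p.Prime] {M : Ideal AlgInt}

/-- If the natural-number matrix `n` satisfies `n ≡ A * Eᵀ * diag κ` and `Eᵀ * A ≡ 1` modulo the
local ideal, with `A`, `E` of shape `ι × β` having local-integer entries and `κ` prime to `p`,
then the rank of `n` modulo `p` is the cardinality of `β`. -/
theorem rank_eq_card_of_cong (hM : IsPModular p M) {ι β : Type*} [Fintype ι] [DecidableEq ι]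
    [Fintype β] [DecidableEq β] (n : ι → ι → ℕ) (A E : Matrix ι β ℂ) (hA : MLoc M A)
    (hE : MLoc M E) (κ : ι → ℕ) (hκ : ∀ j, ¬ p ∣ κ j)
    (H1 : ∀ i j, MemLocalIdeal M ((n i j : ℂ) - (κ j : ℂ) * ∑ b, A i b * E j b))
    (H2 : ∀ b b' : β, MemLocalIdeal M ((∑ i, E i b' * A i b) - if b = b' then 1 else 0)) :
    (Matrix.of fun i j => (n i j : ZMod p)).rank = Fintype.card β := by
  classical
  have hp := (Fact.out : p.Prime)
  have hMp := isPrime_of_isPModular hM
  set N : Matrix ι ι (ZMod p) := Matrix.of fun i j => (n i j : ZMod p) with hN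
  let nC : Matrix ι ι ℂ := fun i j => (n i j : ℂ)
  let Kd : Matrix ι ι ℂ := Matrix.diagonal (fun j => (κ j : ℂ))
  let Kinv : Matrix ι ι ℂ := Matrix.diagonal (fun j => ((κ j : ℂ))⁻¹)
  have hκ0 : ∀ j, (κ j : ℂ) ≠ 0 := fun j =>
    Nat.cast_ne_zero.mpr (fun h0 => hκ j (by rw [h0]; exact dvd_zero p))
  have hKd : MLoc M Kd := MLoc.diagonal hMp (fun j => memLocalRing_natCast hMp _)
  have hKinv : MLoc M Kinv := MLoc.diagonal hMp (fun j =>
    memLocalRing_inv_natCast hM
      (Nat.coprime_comm.mp ((Nat.Prime.coprime_iff_not_dvd hp).mpr (hκ j))))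
  have hKK : Kd * Kinv = 1 := by
    show Matrix.diagonal (fun j => (κ j : ℂ)) * Matrix.diagonal (fun j => ((κ j : ℂ))⁻¹) = 1
    rw [Matrix.diagonal_mul_diagonal, ← Matrix.diagonal_one]
    congr 1
    funext j
    exact mul_inv_cancel₀ (hκ0 j)
  have hnC : NatLifts p nC N := fun i j => ⟨n i j, rfl, rfl⟩
  have hH1 : MCong M nC (A * Eᵀ * Kd) := by
    intro i j
    have h1 : (A * Eᵀ * Kd) i j = (κ j : ℂ) * ∑ b, A i b * E j b := by
      show (A * Eᵀ * Matrix.diagonal (fun j => (κ j : ℂ))) i j = _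
      rw [Matrix.mul_diagonal, Matrix.mul_apply, mul_comm]
      rfl
    rw [h1]
    exact H1 i j
  have hH2 : MCong M (Eᵀ * A) 1 := by
    intro b' b
    have h1 : (Eᵀ * A) b' b = ∑ i, E i b' * A i b := by
      rw [Matrix.mul_apply]
      rfl
    rw [h1, Matrix.one_apply]
    have h2 := H2 b b'
    by_cases h : b = b'
    · rw [if_pos h] at h2
      rw [if_pos h.symm]
      exact h2
    · rw [if_neg h] at h2
      rw [if_neg (fun h' => h h'.symm)]
      exact h2
  apply le_antisymm
  · obtain ⟨P', Q', hPQ⟩ := exists_rank_inverse N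
    have hlift : NatLifts p (natLift P' * nC * natLift Q') (P' * N * Q') :=
      ((natLifts_natLift P').mul hnC).mul (natLifts_natLift Q')
    rw [hPQ] at hlift
    have hc1 : MCong M (natLift P' * nC * natLift Q') 1 := hlift.mCong hM natLifts_one
    have hP : MLoc M (natLift P') := (natLifts_natLift P').mLoc hMp
    have hQ : MLoc M (natLift Q') := (natLifts_natLift Q').mLoc hMp
    have hc2 : MCong M (natLift P' * (A * Eᵀ * Kd) * natLift Q')
        (natLift P' * nC * natLift Q') :=
      MCong.mul_right hMp (MCong.mul_left hMp hP hH1.symm) hQ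
    have hc3 : MCong M ((natLift P' * A) * (Eᵀ * Kd * natLift Q')) 1 := by
      have heq : (natLift P' * A) * (Eᵀ * Kd * natLift Q')
          = natLift P' * (A * Eᵀ * Kd) * natLift Q' := by
        simp only [Matrix.mul_assoc]
      rw [heq]
      exact MCong.trans hMp hc2 hc1
    have h4 := card_le_card_of_mul_sub_one_mem hMp (natLift P' * A) (Eᵀ * Kd * natLift Q') hc3
    rwa [Fintype.card_fin] at h4
  · obtain ⟨X, Y, hXY⟩ := exists_rank_factorization N
    have hlift : NatLifts p (natLift X * natLift Y) (X * Y) :=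
      (natLifts_natLift X).mul (natLifts_natLift Y)
    rw [← hXY] at hlift
    have hc1 : MCong M (natLift X * natLift Y) nC := hlift.mCong hM hnC
    have heq1 : (Eᵀ * natLift X) * (natLift Y * Kinv * A)
        = Eᵀ * (natLift X * natLift Y) * (Kinv * A) := by
      simp only [Matrix.mul_assoc]
    have hKA : MLoc M (Kinv * A) := MLoc.mul hMp hKinv hA
    have hc2 : MCong M (Eᵀ * (natLift X * natLift Y) * (Kinv * A)) (Eᵀ * nC * (Kinv * A)) :=
      MCong.mul_right hMp (MCong.mul_left hMp hE.transpose hc1) hKA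
    have hc3 : MCong M (Eᵀ * nC * (Kinv * A)) (Eᵀ * (A * Eᵀ * Kd) * (Kinv * A)) :=
      MCong.mul_right hMp (MCong.mul_left hMp hE.transpose hH1) hKA
    have heq2 : Eᵀ * (A * Eᵀ * Kd) * (Kinv * A) = (Eᵀ * A) * (Eᵀ * A) := by
      calc Eᵀ * (A * Eᵀ * Kd) * (Kinv * A) = Eᵀ * A * Eᵀ * (Kd * Kinv) * A := by
            simp only [Matrix.mul_assoc]
        _ = (Eᵀ * A) * (Eᵀ * A) := by rw [hKK, Matrix.mul_one, Matrix.mul_assoc]
    have hEA : MLoc M (Eᵀ * A) := MLoc.mul hMp hE.transpose hA
    have hc4 : MCong M ((Eᵀ * A) * (Eᵀ * A)) 1 := by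
      have h1 : MCong M ((Eᵀ * A) * (Eᵀ * A)) (1 * (Eᵀ * A)) := MCong.mul_right hMp hH2 hEA
      rw [Matrix.one_mul] at h1
      exact MCong.trans hMp h1 hH2
    have hc5 : MCong M ((Eᵀ * natLift X) * (natLift Y * Kinv * A)) 1 := by
      rw [heq1]
      refine MCong.trans hMp hc2 (MCong.trans hMp hc3 ?_)
      rw [heq2]
      exact hc4
    have h4 := card_le_card_of_mul_sub_one_mem hMp (Eᵀ * natLift X) (natLift Y * Kinv * A) hc5
    rwa [Fintype.card_fin] at h4

end RankEq

end Cfsg.Agent.Lib.helper84
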