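import Mathlib
import Cfsg.Agent.Lib.helper80.BlockIdem
import Cfsg.Agent.Lib.helper80.CentralQuot
import Cfsg.Agent.Lib.helper80.StabIndex
import Cfsg.Agent.Lib.helper82.CharQuot
import Cfsg.Agent.Lib.helper82.Ramification
import Cfsg.Agent.Lib.helper82.Ito
import Cfsg.Agent.Lib.helper4.CharDecomp
import Cfsg.Agent.Lib.helper4.DefectZero
import Cfsg.Agent.Lib.helper21.TIChar
import Cfsg.Agent.Lib.helper81.CharOrtho
import Cfsg.Agent.Lib.helper84.NormalSylow

/-!
# Weights of Brauer pairs: defect-zero characters of a quotient by a normal `p`-subgroup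

* `sum_blockCoeff_mul_list`, `mem_of_constituent_of_blockCoeff`: if the block idempotent of a
  block `F'` of `T` is supported on a subgroup `C` where it is the idempotent of a set `e` of
  irreducible characters of `C`, then every constituent of the restriction to `C` of a member of
  `F'` lies in `e`.
* `irr_eq_zero_of_quotient_defect_zero`: an irreducible character trivial on a normal subgroup
  `Q` whose degree has the full `p`-part of `|H : Q|` vanishes at the elements whose image in
  `H ⧸ Q` has order divisible by `p`.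
* `exists_constituent_of_quotient_defect_zero`: for such a character and a homomorphism
  `φ : K → H` with normal range, a constituent `θ` of the pull-back that is trivial on the preimage
  of `Q` and whose degree has the full `p`-part of the index of that preimage.
* `le_of_quotient_defect_zero`: in that situation `Q` contains every normal `p`-subgroup.
-/

set_option autoImplicit false

namespace Cfsg.Agent.Lib.helper84

open Cfsg
open scoped ComplexConjugate

universe u

section WeightA

variable {G : Type u} [Group G] [Fintype G]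

open Classical in
/-- The block-idempotent sum of a list of irreducible characters. -/
theorem sum_blockCoeff_mul_list (e : Set (IrrCharacter G)) (l : List (IrrCharacter G)) :
    ∑ c : G, blockCoeff e c * (l.map Subtype.val).sum c
      + (((l.map (fun (θ : IrrCharacter G) =>
          if θ ∈ e then 0 else charDegree (θ : G → ℂ))).sum : ℕ) : ℂ)
      = (l.map Subtype.val).sum 1 := by
  induction l with
  | nil => simp
  | cons θ l ih =>
    simp only [List.map_cons, List.sum_cons, Pi.add_apply, mul_add, Finset.sum_add_distrib,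
      Nat.cast_add]
    rw [← ih, Cfsg.Agent.Lib.helper80.sum_blockCoeff_mul_irr]
    by_cases h : θ ∈ e
    · rw [if_pos h, if_pos h, Nat.cast_zero]
      ring
    · rw [if_neg h, if_neg h, Cfsg.Agent.Lib.helper81.irr_one_eq_charDegree]
      ring

/-- If the idempotent coefficients of the set `F'` of irreducible characters of `T` are those of
the set `e` of irreducible characters of `C ≤ T` (and vanish off `C`), then the constituents of the
restriction to `C` of a member of `F'` lie in `e`. -/
theorem mem_of_constituent_of_blockCoeff (C T : Subgroup G) [Fintype C] [Fintype T] (hCT : C ≤ T)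
    (e : Set (IrrCharacter C)) (F' : Set (IrrCharacter T))
    (hF'e : ∀ t : T, blockCoeff F' t = subgroupBlockCoeff C e (t : G))
    (χ : IrrCharacter T) (hχ : χ ∈ F') (θ : IrrCharacter C)
    (hθ : classInner (fun c : C => (χ : T → ℂ) ⟨c, hCT c.2⟩) (θ : C → ℂ) ≠ 0) : θ ∈ e := by
  classical
  have h1 := Cfsg.Agent.Lib.helper80.sum_blockCoeff_mul_irr F' χ
  rw [if_pos hχ] at h1
  have h2 : ∑ c : C, blockCoeff e c * (χ : T → ℂ) ⟨c, hCT c.2⟩
      = ∑ t : T, blockCoeff F' t * (χ : T → ℂ) t := by
    refine Fintype.sum_of_injective (fun c : C => (⟨c, hCT c.2⟩ : T)) ?_ _ _ ?_ ?_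
    · intro a b hab
      exact Subtype.ext (congrArg (fun t : T => (t : G)) hab)
    · intro t ht
      have h3 : (t : G) ∉ C := fun hc => ht ⟨⟨t, hc⟩, rfl⟩
      rw [hF'e, subgroupBlockCoeff, dif_neg h3, zero_mul]
    · intro c
      rw [hF'e, subgroupBlockCoeff, dif_pos c.2]
  have hres : IsCharacter C (fun c : C => (χ : T → ℂ) ⟨c, hCT c.2⟩) :=
    Cfsg.Agent.Lib.helper4.isCharacter_comp (Subgroup.inclusion hCT)
      (Cfsg.Agent.Lib.helper4.isCharacter_of_isIrrCharacter χ.2)
  obtain ⟨l, hl⟩ := Cfsg.Agent.Lib.helper4.exists_irr_list_of_isCharacter hres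
  have h3 := sum_blockCoeff_mul_list e l
  rw [← hl] at h3
  rw [h2, h1] at h3
  have h5 : (l.map (fun (θ : IrrCharacter C) =>
      if θ ∈ e then 0 else charDegree (θ : C → ℂ))).sum = 0 := by
    have h6 : (((l.map (fun (θ : IrrCharacter C) =>
        if θ ∈ e then 0 else charDegree (θ : C → ℂ))).sum : ℕ) : ℂ) = 0 := by
      have h7 : (χ : T → ℂ) 1 + (((l.map (fun (θ : IrrCharacter C) =>
          if θ ∈ e then 0 else charDegree (θ : C → ℂ))).sum : ℕ) : ℂ) = (χ : T → ℂ) 1 := h3
      exact add_eq_left.mp h7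
    exact_mod_cast h6
  rw [List.sum_eq_zero_iff] at h5
  have hmem : θ ∈ l := by
    have h8 := Cfsg.Agent.Lib.helper21.classInner_list_sum_irr l θ
    rw [← hl] at h8
    rw [h8] at hθ
    have h9 : l.count θ ≠ 0 := fun h0 => hθ (by rw [h0, Nat.cast_zero])
    exact List.count_pos_iff.mp (Nat.pos_of_ne_zero h9)
  by_contra hne
  have h10 := h5 _ (List.mem_map_of_mem hmem)
  rw [if_neg hne] at h10
  exact (Cfsg.Agent.Lib.helper81.irr_charDegree_pos θ).ne' h10

end WeightA

section WeightB

variable {H : Type u} [Group H] [Finite H] (p : ℕ) [Fact p.Prime]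

/-- The `p`-part of the index of `Q` from the degree condition. -/
theorem index_factorization_of_degree (Q : Subgroup H) (χ : IrrCharacter H)
    (hdeg : (charDegree (χ : H → ℂ)).factorization p + (Nat.card Q).factorization p
      = (Nat.card H).factorization p) :
    Q.index.factorization p = (charDegree (χ : H → ℂ)).factorization p := by
  have h1 := Subgroup.card_mul_index Q
  have h2 : (Nat.card Q * Q.index).factorization p
      = (Nat.card Q).factorization p + Q.index.factorization p := by
    rw [Nat.factorization_mul Nat.card_pos.ne' Subgroup.index_ne_zero_of_finite]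
    rfl
  rw [h1] at h2
  omega

/-- An irreducible character trivial on the normal subgroup `Q` whose degree has the full
`p`-part of `|H : Q|` vanishes at every element whose image in `H ⧸ Q` has order divisible by
`p`. -/
theorem irr_eq_zero_of_quotient_defect_zero (Q : Subgroup H) [Q.Normal] (χ : IrrCharacter H)
    (hχQ : ∀ x ∈ Q, (χ : H → ℂ) x = (χ : H → ℂ) 1)
    (hdeg : (charDegree (χ : H → ℂ)).factorization p + (Nat.card Q).factorization p
      = (Nat.card H).factorization p)
    (x : H) (hx : p ∣ orderOf (x : H ⧸ Q)) : (χ : H → ℂ) x = 0 := by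
  have hp := (Fact.out : p.Prime)
  obtain ⟨ψ, hψ, hψχ⟩ := Cfsg.Agent.Lib.helper82.isIrrCharacter_deflation Q χ.2 hχQ
  obtain ⟨n, ρ, hirr, rfl⟩ := hψ
  haveI := hirr
  rw [← hψχ x]
  have hn : n = charDegree (χ : H → ℂ) := by
    have h1 := hψχ 1
    rw [QuotientGroup.mk_one, Representation.char_one,
      Cfsg.Agent.Lib.helper81.irr_one_eq_charDegree, Module.finrank_fin_fun] at h1
    exact_mod_cast h1
  have hidx := index_factorization_of_degree p Q χ hdeg
  refine Cfsg.Agent.Lib.helper4.char_eq_zero_of_defect_zero ρ p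
    ((charDegree (χ : H → ℂ)).factorization p) hp ?_ ?_ (x : H ⧸ Q) hx
  · rw [← Subgroup.index_eq_card, ← hidx]
    exact Nat.pow_succ_factorization_not_dvd Subgroup.index_ne_zero_of_finite hp
  · rw [Module.finrank_fin_fun, hn]
    exact Nat.ordProj_dvd _ _

/-- For an irreducible character `χ` of `H` trivial on the normal subgroup `Q` whose degree has
the full `p`-part of `|H : Q|`, and a homomorphism `φ : K → H` with normal range: the pull-back of
`χ` has an irreducible constituent trivial on the preimage of `Q` whose degree has the full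
`p`-part of the index of that preimage. -/
theorem exists_constituent_of_quotient_defect_zero {K : Type u} [Group K] [Fintype K]
    (Q : Subgroup H) [Q.Normal] (χ : IrrCharacter H)
    (hχQ : ∀ x ∈ Q, (χ : H → ℂ) x = (χ : H → ℂ) 1)
    (hdeg : (charDegree (χ : H → ℂ)).factorization p + (Nat.card Q).factorization p
      = (Nat.card H).factorization p)
    (φ : K →* H) (hφ : φ.range.Normal) :
    ∃ θ : IrrCharacter K, classInner (fun k : K => (χ : H → ℂ) (φ k)) (θ : K → ℂ) ≠ 0 ∧
      (∀ z : K, φ z ∈ Q → (θ : K → ℂ) z = (θ : K → ℂ) 1) ∧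
      (charDegree (θ : K → ℂ)).factorization p + (Nat.card (Q.comap φ)).factorization p
        = (Nat.card K).factorization p := by
  classical
  have hp := (Fact.out : p.Prime)
  obtain ⟨ψ, hψ, hψχ⟩ := Cfsg.Agent.Lib.helper82.isIrrCharacter_deflation Q χ.2 hχQ
  let g : K →* H ⧸ Q := (QuotientGroup.mk' Q).comp φ
  haveI hgn : g.range.Normal := by
    have h1 : g.range = φ.range.map (QuotientGroup.mk' Q) := MonoidHom.range_comp _ _
    rw [h1]
    exact Subgroup.Normal.map hφ _ (QuotientGroup.mk'_surjective Q)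
  have hf : Function.Surjective g.rangeRestrict := g.rangeRestrict_surjective
  haveI : Fintype (H ⧸ Q) := Fintype.ofFinite _
  haveI : Fintype g.range := Fintype.ofFinite _
  obtain ⟨ϑ, hϑ, e, he, he0⟩ := Cfsg.Agent.Lib.helper82.exists_constituent_restrict g.range hψ
  obtain ⟨k, hk, hk1⟩ := Cfsg.Agent.Lib.helper82.degree_quot_dvd_index g.range hψ hϑ
    (by rw [he]; exact_mod_cast he0)
  have hθirr : IsIrrCharacter K (fun x => ϑ (g.rangeRestrict x)) := by
    obtain ⟨n, ρ, hirr, hρ⟩ := hϑ
    exact ⟨n, Cfsg.Agent.Lib.helper82.compRep g.rangeRestrict ρ,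
      (Cfsg.Agent.Lib.helper82.isIrreducible_comp_iff g.rangeRestrict hf ρ).mpr hirr, by
        funext x
        rw [Cfsg.Agent.Lib.helper82.character_comp, hρ]⟩
  refine ⟨⟨_, hθirr⟩, ?_, ?_, ?_⟩
  · show classInner (fun k : K => (χ : H → ℂ) (φ k)) (fun x => ϑ (g.rangeRestrict x)) ≠ 0
    unfold classInner
    have h1 : ∀ x : K, (χ : H → ℂ) (φ x) * conj (ϑ (g.rangeRestrict x))
        = (fun y : g.range => ψ (y : H ⧸ Q) * conj (ϑ y)) (g.rangeRestrict x) := by
      intro x
      show _ = ψ ((g.rangeRestrict x : g.range) : H ⧸ Q) * conj (ϑ (g.rangeRestrict x))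
      rw [← hψχ (φ x)]
      rfl
    rw [Finset.sum_congr rfl (fun x _ => h1 x)]
    rw [← Finset.sum_fiberwise Finset.univ g.rangeRestrict]
    have h2 : ∀ y : g.range, ∑ x ∈ Finset.univ.filter (fun x : K => g.rangeRestrict x = y),
        (fun y : g.range => ψ (y : H ⧸ Q) * conj (ϑ y)) (g.rangeRestrict x)
        = ((Finset.univ.filter (fun x : K => g.rangeRestrict x = 1)).card : ℂ)
          * (ψ (y : H ⧸ Q) * conj (ϑ y)) := by
      intro y
      have h3 : ∀ x ∈ Finset.univ.filter (fun x : K => g.rangeRestrict x = y),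
          (fun y : g.range => ψ (y : H ⧸ Q) * conj (ϑ y)) (g.rangeRestrict x)
            = ψ (y : H ⧸ Q) * conj (ϑ y) := by
        intro x hx
        rw [(Finset.mem_filter.mp hx).2]
      rw [Finset.sum_congr rfl h3, Finset.sum_const, nsmul_eq_mul,
        MonoidHom.card_fiber_eq_of_mem_range g.rangeRestrict (hf y) (hf 1)]
    rw [Finset.sum_congr rfl (fun y _ => h2 y), ← Finset.mul_sum]
    have h4 : (∑ y : g.range, ψ (y : H ⧸ Q) * conj (ϑ y)) = (Nat.card g.range : ℂ) * e := by
      rw [← he]
      unfold classInner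
      rw [← mul_assoc, mul_inv_cancel₀ (Nat.cast_ne_zero.mpr Nat.card_pos.ne'), one_mul]
    rw [h4]
    have hn0 : (Finset.univ.filter (fun x : K => g.rangeRestrict x = 1)).card ≠ 0 :=
      Finset.card_ne_zero.mpr ⟨1, Finset.mem_filter.mpr ⟨Finset.mem_univ _, map_one _⟩⟩
    exact mul_ne_zero (inv_ne_zero (Nat.cast_ne_zero.mpr Nat.card_pos.ne'))
      (mul_ne_zero (Nat.cast_ne_zero.mpr hn0)
        (mul_ne_zero (Nat.cast_ne_zero.mpr Nat.card_pos.ne') (Nat.cast_ne_zero.mpr he0)))
  · intro z hz
    show ϑ (g.rangeRestrict z) = ϑ (g.rangeRestrict 1)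
    have h1 : g.rangeRestrict z = 1 := by
      apply Subtype.ext
      show g z = 1
      exact (QuotientGroup.eq_one_iff _).mpr hz
    rw [h1, map_one]
  · show (charDegree (fun x => ϑ (g.rangeRestrict x))).factorization p + _ = _
    have hd1 : charDegree (fun x => ϑ (g.rangeRestrict x)) = charDegree ϑ := by
      show ⌊(ϑ (g.rangeRestrict 1)).re⌋₊ = ⌊(ϑ 1).re⌋₊
      rw [map_one]
    rw [hd1]
    have hϑ1 : ϑ 1 = (charDegree ϑ : ℂ) :=
      Cfsg.Agent.Lib.helper81.irr_one_eq_charDegree ⟨ϑ, hϑ⟩
    have hϑpos : 0 < charDegree ϑ := Cfsg.Agent.Lib.helper81.irr_charDegree_pos ⟨ϑ, hϑ⟩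
    have hϑdvd : charDegree ϑ ∣ Nat.card g.range :=
      Cfsg.Agent.Lib.helper81.irr_degree_dvd_card ⟨ϑ, hϑ⟩
    have hψ1 : ψ 1 = (charDegree (χ : H → ℂ) : ℂ) := by
      have h1 := hψχ 1
      rw [QuotientGroup.mk_one] at h1
      rw [h1, Cfsg.Agent.Lib.helper81.irr_one_eq_charDegree]
    have hmul : charDegree (χ : H → ℂ) = k * charDegree ϑ := by
      rw [hψ1, hϑ1] at hk1
      exact_mod_cast hk1
    have hk0 : k ≠ 0 := by
      rintro rfl
      rw [zero_mul] at hmul
      exact (Cfsg.Agent.Lib.helper81.irr_charDegree_pos χ).ne' hmul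
    have hf1 : (charDegree (χ : H → ℂ)).factorization p
        = k.factorization p + (charDegree ϑ).factorization p := by
      rw [hmul, Nat.factorization_mul hk0 hϑpos.ne']
      rfl
    have hf2 : k.factorization p ≤ g.range.index.factorization p :=
      (Nat.factorization_le_iff_dvd hk0 Subgroup.index_ne_zero_of_finite).mpr hk p
    have hf3 : (charDegree ϑ).factorization p ≤ (Nat.card g.range).factorization p :=
      (Nat.factorization_le_iff_dvd hϑpos.ne' Nat.card_pos.ne').mpr hϑdvd p
    have hf4 : (Nat.card g.range).factorization p + g.range.index.factorization p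
        = Q.index.factorization p := by
      have h1 := Subgroup.card_mul_index g.range
      rw [← Subgroup.index_eq_card Q] at h1
      rw [← h1, Nat.factorization_mul Nat.card_pos.ne' Subgroup.index_ne_zero_of_finite]
      rfl
    have hf5 := index_factorization_of_degree p Q χ hdeg
    have hker : Q.comap φ = g.ker := by
      rw [← MonoidHom.comap_ker, QuotientGroup.ker_mk']
    have hf6 : (Nat.card (Q.comap φ)).factorization p + (Nat.card g.range).factorization p
        = (Nat.card K).factorization p := by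
      rw [hker]
      have h1 := Subgroup.card_mul_index g.ker
      rw [Subgroup.index_ker] at h1
      rw [← h1, Nat.factorization_mul Nat.card_pos.ne' Nat.card_pos.ne']
      rfl
    omega

/-- In the presence of an irreducible character trivial on the normal `p`-subgroup `Q` whose
degree has the full `p`-part of `|H : Q|`, every normal `p`-subgroup lies in `Q`. -/
theorem le_of_quotient_defect_zero [Fintype H] (Q : Subgroup H) [Q.Normal] (hQ : IsPGroup p Q)
    (χ : IrrCharacter H) (hχQ : ∀ x ∈ Q, (χ : H → ℂ) x = (χ : H → ℂ) 1)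
    (hdeg : (charDegree (χ : H → ℂ)).factorization p + (Nat.card Q).factorization p
      = (Nat.card H).factorization p)
    (S : Subgroup H) [S.Normal] (hS : IsPGroup p S) : S ≤ Q := by
  classical
  have hp := (Fact.out : p.Prime)
  have hS'p : IsPGroup p (S ⊔ Q : Subgroup H) := IsPGroup.to_sup_of_normal_right hS hQ
  haveI : Fintype (S ⊔ Q : Subgroup H) := Fintype.ofFinite _
  haveI : Fintype Q := Fintype.ofFinite _
  have hvan : ∀ u : (S ⊔ Q : Subgroup H), (u : H) ∉ Q → (χ : H → ℂ) u = 0 := by
    intro u hu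
    apply irr_eq_zero_of_quotient_defect_zero p Q χ hχQ hdeg
    obtain ⟨k, hk⟩ := hS'p u
    have h1 : ((u : H) : H ⧸ Q) ^ (p ^ k) = 1 := by
      rw [← QuotientGroup.mk_pow]
      have h2 : ((u : H)) ^ (p ^ k) = 1 := by
        exact_mod_cast congrArg Subtype.val hk
      rw [h2, QuotientGroup.mk_one]
    have h2 := orderOf_dvd_of_pow_eq_one h1
    obtain ⟨j, -, hj⟩ := (Nat.dvd_prime_pow hp).mp h2
    rw [hj]
    have hj0 : j ≠ 0 := by
      rintro rfl
      rw [pow_zero, orderOf_eq_one_iff, QuotientGroup.eq_one_iff] at hj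
      exact hu hj
    exact dvd_pow_self p hj0
  have hsum : ∑ u : (S ⊔ Q : Subgroup H), (χ : H → ℂ) u
      = (Nat.card Q : ℂ) * (χ : H → ℂ) 1 := by
    have h1 : ∑ _q : Q, (χ : H → ℂ) 1 = ∑ u : (S ⊔ Q : Subgroup H), (χ : H → ℂ) u := by
      refine Fintype.sum_of_injective
        (fun q : Q => (⟨q, (le_sup_right : Q ≤ S ⊔ Q) q.2⟩ : (S ⊔ Q : Subgroup H))) ?_ _ _ ?_ ?_
      · intro a b hab
        exact Subtype.ext (congrArg (fun t : (S ⊔ Q : Subgroup H) => (t : H)) hab)
      · intro u hu
        exact hvan u (fun hc => hu ⟨⟨u, hc⟩, rfl⟩)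
      · intro q
        exact (hχQ q q.2).symm
    rw [← h1, Finset.sum_const, Finset.card_univ, nsmul_eq_mul, Nat.card_eq_fintype_card]
  have hχ1 := Cfsg.Agent.Lib.helper81.irr_one_ne_zero χ
  rcases sum_normal_eq_zero_or (S ⊔ Q) χ with h0 | h0
  · rw [hsum] at h0
    exact absurd h0 (mul_ne_zero (Nat.cast_ne_zero.mpr Nat.card_pos.ne') hχ1)
  · rw [hsum] at h0
    have h1 : (Nat.card Q : ℂ) = (Nat.card (S ⊔ Q : Subgroup H) : ℂ) :=
      mul_right_cancel₀ hχ1 h0
    have h2 : Nat.card Q = Nat.card (S ⊔ Q : Subgroup H) := by exact_mod_cast h1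
    have h3 : Q = S ⊔ Q := Subgroup.eq_of_le_of_card_ge le_sup_right h2.ge
    calc S ≤ S ⊔ Q := le_sup_left
      _ = Q := h3.symm

end WeightB

end Cfsg.Agent.Lib.helper84
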