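import Mathlib
import Cfsg.Agent.Lib.helper84.RankMod
import Cfsg.Agent.Lib.helper84.Weight
import Cfsg.Agent.Lib.helper84.NormalSylow
import Cfsg.Agent.Lib.helper84.MinMax
import Cfsg.Agent.Lib.helper79.DefectDeg
import Cfsg.Agent.Lib.helper79.DefectSep
import Cfsg.Agent.Lib.helper80.FMT
import Cfsg.Agent.Lib.helper80.DefectGroup
import Cfsg.Agent.Lib.helper80.IrrBasic
import Cfsg.Agent.Lib.helper82.CharSums
import Cfsg.Agent.Lib.helper20.Osima
import Cfsg.Agent.Lib.helper1.Coprime
import Cfsg.Agent.S4653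

/-!
# Counting blocks with a normal defect group by a matrix rank (helper84)

For a normal `p`-subgroup `D` of `G` and a Sylow `p`-subgroup `S`, the number of `p`-blocks of
`G` with defect group `D` is the rank modulo `p` of the matrix of the numbers
`ω(i, j) / p ^ (a - d)`, where `ω(i, j)` counts the pairs `(y, z)` in `K_i × K_j` with
`z y⁻¹ ∈ S` and `K_i` runs over the classes of `p`-regular elements whose centralizer has `D` as
a Sylow `p`-subgroup (`card_blocks_normal_defect_eq_rank`).
-/

set_option autoImplicit false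
set_option linter.style.haveILetI false

namespace Cfsg.Agent.Lib.helper84

open Cfsg Cfsg.Agent.Lib.helper20 Cfsg.Agent.Lib.helper80 Cfsg.Agent.Lib.helper81
open scoped ComplexConjugate

universe u

section RobinsonA

variable {G : Type u} [Group G] [Fintype G]

open Classical in
/-- The sum of `χ (s y)` over the class of `x` is `ω_χ(x) χ(s)`. -/
theorem sum_isConj_irr_mul (χ : IrrCharacter G) (x s : G) :
    ∑ y : G, (if IsConj x y then (χ : G → ℂ) (s * y) else 0)
      = centralChar (χ : G → ℂ) x * (χ : G → ℂ) s := by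
  classical
  have hG : (Nat.card G : ℂ) ≠ 0 := by exact_mod_cast Nat.card_pos.ne'
  have h1 : ∀ g : G, ∑ y : G, (if IsConj x y then (χ : G → ℂ) (s * (g * y * g⁻¹)) else 0)
      = ∑ y : G, (if IsConj x y then (χ : G → ℂ) (s * y) else 0) := by
    intro g
    refine Fintype.sum_equiv (MulAut.conj g).toEquiv _ _ (fun y => ?_)
    have hiff : IsConj x (g * y * g⁻¹) ↔ IsConj x y := by
      constructor
      · intro h
        exact h.trans (isConj_iff.mpr ⟨g⁻¹, by group⟩)
      · intro h
        exact h.trans (isConj_iff.mpr ⟨g, rfl⟩)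
    show _ = if IsConj x (g * y * g⁻¹) then (χ : G → ℂ) (s * (g * y * g⁻¹)) else 0
    by_cases h : IsConj x y
    · rw [if_pos h, if_pos (hiff.mpr h)]
    · rw [if_neg h, if_neg (fun h' => h (hiff.mp h'))]
  have h2 : ∑ g : G, ∑ y : G, (if IsConj x y then (χ : G → ℂ) (s * (g * y * g⁻¹)) else 0)
      = (Nat.card G : ℂ) * ∑ y : G, (if IsConj x y then (χ : G → ℂ) (s * y) else 0) := by
    rw [Finset.sum_congr rfl (fun g _ => h1 g), Finset.sum_const, Finset.card_univ,
      nsmul_eq_mul, Nat.card_eq_fintype_card]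
  have h3 : ∑ g : G, ∑ y : G, (if IsConj x y then (χ : G → ℂ) (s * (g * y * g⁻¹)) else 0)
      = ∑ y : G, (if IsConj x y then (Nat.card G : ℂ) * (χ : G → ℂ) s * (χ : G → ℂ) y
          / (charDegree (χ : G → ℂ) : ℂ) else 0) := by
    rw [Finset.sum_comm]
    refine Finset.sum_congr rfl (fun y _ => ?_)
    by_cases h : IsConj x y
    · simp only [if_pos h]
      exact Cfsg.Agent.Lib.helper82.irr_sum_mul_conj χ s y
    · simp only [if_neg h]
      simp
  have h4 : ∑ y : G, (if IsConj x y then (Nat.card G : ℂ) * (χ : G → ℂ) s * (χ : G → ℂ) y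
          / (charDegree (χ : G → ℂ) : ℂ) else 0)
      = (Nat.card G : ℂ) * (χ : G → ℂ) s / (charDegree (χ : G → ℂ) : ℂ)
        * (((Subgroup.centralizer ({x} : Set G)).index : ℂ) * (χ : G → ℂ) x) := by
    rw [← sum_isConj_classFun (irr_classFun χ) x, Finset.mul_sum]
    refine Finset.sum_congr rfl (fun y _ => ?_)
    split_ifs <;> ring
  have h5 := h2.symm.trans (h3.trans h4)
  have hdeg : (charDegree (χ : G → ℂ) : ℂ) ≠ 0 := by
    rw [← irr_one_eq_charDegree]
    exact irr_one_ne_zero χ
  unfold centralChar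
  rw [irr_one_eq_charDegree]
  field_simp
  field_simp at h5
  linear_combination h5

open Classical in
/-- Column orthogonality with the centralizer of the second argument. -/
theorem irr_col_orth_right (g h : G) :
    ∑ χ : IrrCharacter G, (χ : G → ℂ) g * conj ((χ : G → ℂ) h)
      = if IsConj h g then (Nat.card (Subgroup.centralizer ({h} : Set G)) : ℂ) else 0 := by
  have h1 := congrArg conj (irr_col_orth h g)
  rw [map_sum] at h1
  have h2 : ∀ χ : IrrCharacter G, conj ((χ : G → ℂ) h * conj ((χ : G → ℂ) g))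
      = (χ : G → ℂ) g * conj ((χ : G → ℂ) h) := by
    intro χ
    rw [map_mul, Complex.conj_conj, mul_comm]
  rw [Finset.sum_congr rfl (fun χ _ => h2 χ)] at h1
  rw [h1]
  split_ifs
  · exact Complex.conj_natCast _
  · exact map_zero _

open Classical in
/-- The number of pairs `(y, s)` with `y` in the class of `xi`, `s ∈ S` and `s y` in the class of
`xj`, through characters. -/
theorem sum_pairs_formula (S : Subgroup G) [Fintype S] (xi xj : G) :
    ∑ y : G, ∑ s : S, (if IsConj xi y ∧ IsConj xj ((s : G) * y) then (1 : ℂ) else 0)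
      = (Nat.card (Subgroup.centralizer ({xj} : Set G)) : ℂ)⁻¹
        * ∑ χ : IrrCharacter G, centralChar (χ : G → ℂ) xi * conj ((χ : G → ℂ) xj)
          * ∑ s : S, (χ : G → ℂ) s := by
  classical
  have hc : (Nat.card (Subgroup.centralizer ({xj} : Set G)) : ℂ) ≠ 0 := by
    exact_mod_cast Nat.card_pos.ne'
  have hterm : ∀ χ : IrrCharacter G, centralChar (χ : G → ℂ) xi * conj ((χ : G → ℂ) xj)
        * ∑ s : S, (χ : G → ℂ) s
      = ∑ y : G, ∑ s : S, (if IsConj xi y then
          (χ : G → ℂ) ((s : G) * y) * conj ((χ : G → ℂ) xj) else 0) := by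
    intro χ
    rw [Finset.sum_comm, Finset.mul_sum]
    refine Finset.sum_congr rfl (fun s _ => ?_)
    have h1 := sum_isConj_irr_mul χ xi (s : G)
    have h2 : ∑ y : G, (if IsConj xi y then
          (χ : G → ℂ) ((s : G) * y) * conj ((χ : G → ℂ) xj) else 0)
        = (∑ y : G, (if IsConj xi y then (χ : G → ℂ) ((s : G) * y) else 0))
          * conj ((χ : G → ℂ) xj) := by
      rw [Finset.sum_mul]
      refine Finset.sum_congr rfl (fun y _ => ?_)
      split_ifs <;> ring
    rw [h2, h1]
    ring
  have hswap : ∑ χ : IrrCharacter G, ∑ y : G, ∑ s : S, (if IsConj xi y then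
          (χ : G → ℂ) ((s : G) * y) * conj ((χ : G → ℂ) xj) else 0)
      = ∑ y : G, ∑ s : S, ∑ χ : IrrCharacter G, (if IsConj xi y then
          (χ : G → ℂ) ((s : G) * y) * conj ((χ : G → ℂ) xj) else 0) := by
    rw [Finset.sum_comm]
    refine Finset.sum_congr rfl (fun y _ => ?_)
    rw [Finset.sum_comm]
  rw [Finset.sum_congr rfl (fun χ _ => hterm χ), hswap, Finset.mul_sum]
  refine Finset.sum_congr rfl (fun y _ => ?_)
  rw [Finset.mul_sum]
  refine Finset.sum_congr rfl (fun s _ => ?_)
  by_cases h : IsConj xi y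
  · simp only [h, true_and, if_true]
    rw [irr_col_orth_right ((s : G) * y) xj]
    split_ifs
    · field_simp
    · simp
  · rw [if_neg (fun h' => h h'.1)]
    have h0 : ∀ χ : IrrCharacter G, (if IsConj xi y then
        (χ : G → ℂ) ((s : G) * y) * conj ((χ : G → ℂ) xj) else 0) = 0 := fun χ => if_neg h
    rw [Finset.sum_congr rfl (fun χ _ => h0 χ), Finset.sum_const_zero, mul_zero]

open Classical in
/-- The number of pairs `(y, z)` in `K_i × K_j` with `z y⁻¹ ∈ S` as a double sum. -/
theorem card_pairs_eq (S : Subgroup G) [Fintype S] (Ki Kj : ConjClasses G) (xi xj : G)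
    (hi : xi ∈ Ki.carrier) (hj : xj ∈ Kj.carrier) :
    (Nat.card {yz : G × G // yz.1 ∈ Ki.carrier ∧ yz.2 ∈ Kj.carrier ∧ yz.2 * yz.1⁻¹ ∈ S} : ℂ)
      = ∑ y : G, ∑ s : S, (if IsConj xi y ∧ IsConj xj ((s : G) * y) then (1 : ℂ) else 0) := by
  classical
  have hKi : ∀ y, y ∈ Ki.carrier ↔ IsConj xi y := by
    intro y
    rw [ConjClasses.mem_carrier_iff_mk_eq] at hi ⊢
    rw [← hi, ConjClasses.mk_eq_mk_iff_isConj]
    exact isConj_comm
  have hKj : ∀ y, y ∈ Kj.carrier ↔ IsConj xj y := by
    intro y
    rw [ConjClasses.mem_carrier_iff_mk_eq] at hj ⊢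
    rw [← hj, ConjClasses.mk_eq_mk_iff_isConj]
    exact isConj_comm
  let e : {yz : G × G // yz.1 ∈ Ki.carrier ∧ yz.2 ∈ Kj.carrier ∧ yz.2 * yz.1⁻¹ ∈ S}
      ≃ {ys : G × S // IsConj xi ys.1 ∧ IsConj xj ((ys.2 : G) * ys.1)} :=
    { toFun := fun yz => ⟨(yz.1.1, ⟨yz.1.2 * yz.1.1⁻¹, yz.2.2.2⟩), (hKi _).mp yz.2.1, by
        have h := (hKj _).mp yz.2.2.1
        simpa using h⟩
      invFun := fun ys => ⟨(ys.1.1, (ys.1.2 : G) * ys.1.1), (hKi _).mpr ys.2.1,
        (hKj _).mpr ys.2.2, by simp⟩
      left_inv := fun yz => by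
        apply Subtype.ext
        apply Prod.ext <;> simp
      right_inv := fun ys => by
        apply Subtype.ext
        apply Prod.ext
        · simp
        · apply Subtype.ext
          simp }
  rw [Nat.card_congr e, Nat.card_eq_fintype_card, Fintype.card_subtype, Finset.card_filter]
  push_cast
  rw [Fintype.sum_prod_type]

end RobinsonA

section RobinsonB

variable {G : Type u} [Group G] [Fintype G] {p : ℕ} [Fact p.Prime] {M : Ideal AlgInt}

omit [Fact p.Prime] in
/-- If the sum of `χ` over the normal subgroup `D` vanishes, so does its sum over every subgroup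
containing `D`. -/
theorem sum_subgroup_eq_zero_of_sum_normal_eq_zero (D : Subgroup G) [D.Normal] [Fintype D]
    (S : Subgroup G) [Fintype S] (hDS : D ≤ S) (χ : IrrCharacter G)
    (h0 : ∑ u : D, (χ : G → ℂ) u = 0) : ∑ s : S, (χ : G → ℂ) s = 0 := by
  have hD0 : (Nat.card D : ℂ) ≠ 0 := by exact_mod_cast Nat.card_pos.ne'
  have h1 : ∀ u : D, ∑ s : S, (χ : G → ℂ) ((u : G) * (s : G)) = ∑ s : S, (χ : G → ℂ) s := by
    intro u
    exact Fintype.sum_equiv (Equiv.mulLeft (⟨u, hDS u.2⟩ : S)) _ _ (fun s => rfl)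
  have h2 : ∑ u : D, ∑ s : S, (χ : G → ℂ) ((u : G) * (s : G))
      = (Nat.card D : ℂ) * ∑ s : S, (χ : G → ℂ) s := by
    rw [Finset.sum_congr rfl (fun u _ => h1 u), Finset.sum_const, Finset.card_univ,
      nsmul_eq_mul, Nat.card_eq_fintype_card]
  have h3 : ∑ u : D, ∑ s : S, (χ : G → ℂ) ((u : G) * (s : G)) = 0 := by
    rw [Finset.sum_comm]
    refine Finset.sum_eq_zero (fun s _ => ?_)
    rw [sum_subgroup_shift D χ (s : G), h0]
    simp
  rw [h3] at h2
  exact (mul_eq_zero.mp h2.symm).resolve_left hD0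

omit [Fact p.Prime] in
/-- If the sum of `χ` over the normal subgroup `D` does not vanish, `D` lies in the kernel. -/
theorem irr_eq_one_of_sum_normal_ne_zero (D : Subgroup G) [D.Normal] [Fintype D]
    (χ : IrrCharacter G) (h0 : ∑ u : D, (χ : G → ℂ) u ≠ 0) :
    ∀ u ∈ D, (χ : G → ℂ) u = (χ : G → ℂ) 1 := by
  intro h hh
  have hD0 : (Nat.card D : ℂ) ≠ 0 := by exact_mod_cast Nat.card_pos.ne'
  have hχ1 := irr_one_ne_zero χ
  have hδ : ∑ u : D, (χ : G → ℂ) u = (Nat.card D : ℂ) * (χ : G → ℂ) 1 :=
    (sum_normal_eq_zero_or D χ).resolve_left h0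
  have h1 := sum_subgroup_shift D χ h
  have h2 : ∑ u : D, (χ : G → ℂ) ((u : G) * h) = ∑ u : D, (χ : G → ℂ) u :=
    Fintype.sum_equiv (Equiv.mulRight (⟨h, hh⟩ : D)) _ _ (fun u => rfl)
  rw [h2, hδ] at h1
  have h3 : (Nat.card D : ℂ) * (χ : G → ℂ) 1 = (Nat.card D : ℂ) * (χ : G → ℂ) h := by
    rw [h1]
    field_simp
  exact (mul_left_cancel₀ hD0 h3).symm

omit [Fact p.Prime] in
/-- The degree of a character with the normal subgroup `D` in its kernel divides `|G : D|`. -/
theorem factorization_degree_add_le (D : Subgroup G) [D.Normal] (χ : IrrCharacter G)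
    (hχ : ∀ u ∈ D, (χ : G → ℂ) u = (χ : G → ℂ) 1) :
    (charDegree (χ : G → ℂ)).factorization p + (Nat.card D).factorization p
      ≤ (Nat.card G).factorization p := by
  obtain ⟨ψ, hψ, hψχ⟩ := Cfsg.Agent.Lib.helper82.isIrrCharacter_deflation D χ.2 hχ
  have hdeg : charDegree ψ = charDegree (χ : G → ℂ) := by
    unfold charDegree
    rw [← hψχ 1]
    rfl
  haveI : Fintype (G ⧸ D) := Fintype.ofFinite _
  have hdvd : charDegree ψ ∣ Nat.card (G ⧸ D) :=
    irr_degree_dvd_card (⟨ψ, hψ⟩ : IrrCharacter (G ⧸ D))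
  rw [hdeg, ← Subgroup.index_eq_card] at hdvd
  have hdeg0 : charDegree (χ : G → ℂ) ≠ 0 := by
    intro h
    have h1 := irr_one_ne_zero χ
    rw [irr_one_eq_charDegree, h] at h1
    exact h1 (by simp)
  have h1 := Subgroup.card_mul_index D
  have h2 : (Nat.card D * D.index).factorization p
      = (Nat.card D).factorization p + D.index.factorization p := by
    rw [Nat.factorization_mul Nat.card_pos.ne' Subgroup.index_ne_zero_of_finite]
    rfl
  rw [h1] at h2
  have h3 : (charDegree (χ : G → ℂ)).factorization p ≤ D.index.factorization p :=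
    (Nat.factorization_le_iff_dvd hdeg0 Subgroup.index_ne_zero_of_finite).mpr hdvd p
  omega

/-- A character with the normal `p`-subgroup `D` in its kernel whose degree has the full
`p`-part of `|G : D|` sums to `|D| χ(1)` over every `p`-subgroup containing `D`. -/
theorem sum_pgroup_eq_of_quotient_defect_zero (D : Subgroup G) [D.Normal] [Fintype D]
    (S : Subgroup G) [Fintype S] (hS : IsPGroup p S) (hDS : D ≤ S) (χ : IrrCharacter G)
    (hχ : ∀ u ∈ D, (χ : G → ℂ) u = (χ : G → ℂ) 1)
    (hdeg : (charDegree (χ : G → ℂ)).factorization p + (Nat.card D).factorization p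
      = (Nat.card G).factorization p) :
    ∑ s : S, (χ : G → ℂ) s = (Nat.card D : ℂ) * (χ : G → ℂ) 1 := by
  have hp := (Fact.out : p.Prime)
  have h1 : ∑ u : D, (χ : G → ℂ) u = ∑ s : S, (χ : G → ℂ) s := by
    refine Fintype.sum_of_injective (Subgroup.inclusion hDS) (Subgroup.inclusion_injective hDS)
      _ _ ?_ (fun u => rfl)
    intro s hs
    apply irr_eq_zero_of_quotient_defect_zero p D χ hχ hdeg
    have hsD : (s : G) ∉ D := fun h => hs ⟨⟨s, h⟩, Subtype.ext rfl⟩
    obtain ⟨k, hk⟩ := exists_orderOf_eq_pow_of_mem hS s.2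
    have hdvd : orderOf ((s : G) : G ⧸ D) ∣ p ^ k := by
      rw [← hk]
      exact orderOf_map_dvd (QuotientGroup.mk' D) (s : G)
    obtain ⟨j, -, hj⟩ := (Nat.dvd_prime_pow hp).mp hdvd
    have hj0 : j ≠ 0 := by
      intro h0
      rw [h0, pow_zero, orderOf_eq_one_iff, QuotientGroup.eq_one_iff] at hj
      exact hsD hj
    rw [hj]
    exact dvd_pow_self p hj0
  rw [← h1]
  have h2 : ∀ u : D, (χ : G → ℂ) (u : G) = (χ : G → ℂ) 1 := fun u => hχ (u : G) u.2
  rw [Finset.sum_congr rfl (fun u _ => h2 u), Finset.sum_const, Finset.card_univ,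
    nsmul_eq_mul, Nat.card_eq_fintype_card]

/-- A normal `p`-subgroup `D` has order at most the order of the defect groups of any block, with
equality only if `D` is a defect group. -/
theorem le_blockDefect_of_normal (hM : IsPModular p M) (D : Subgroup G) [D.Normal]
    (hD : IsPGroup p D) {B : Set (IrrCharacter G)} (hB : IsPBlock M B) :
    (Nat.card D).factorization p ≤ blockDefect p B ∧
      ((Nat.card D).factorization p = blockDefect p B → IsDefectGroup p M B D) := by
  have hp := (Fact.out : p.Prime)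
  have hMp := isPrime_of_isPModular hM
  obtain ⟨D', hD'⟩ := exists_isDefectGroup p hMp hB
  have hcard := Cfsg.Agent.Lib.helper79.card_eq_of_isDefectGroup hM hB hD'
  have hle := normal_le_defectGroup hM D hD hB hD'
  obtain ⟨k, hk⟩ := hD.exists_card_eq
  have hk' : (Nat.card D).factorization p = k := by
    rw [hk, Nat.factorization_pow, hp.factorization]
    simp
  have h1 : Nat.card D ≤ Nat.card D' := Nat.le_of_dvd Nat.card_pos (Subgroup.card_dvd_of_le hle)
  rw [hk, hcard] at h1
  have h2 : k ≤ blockDefect p B := (Nat.pow_le_pow_iff_right hp.one_lt).mp h1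
  refine ⟨by omega, fun h => ?_⟩
  have h3 : D = D' := Subgroup.eq_of_le_of_card_ge hle (by rw [hcard, hk, ← h, hk'])
  rw [h3]
  exact hD'

/-- The defect of a block with defect group `D`. -/
theorem blockDefect_eq_of_isDefectGroup (hM : IsPModular p M) (D : Subgroup G)
    {B : Set (IrrCharacter G)} (hB : IsPBlock M B) (hBD : IsDefectGroup p M B D) :
    blockDefect p B = (Nat.card D).factorization p := by
  have hp := (Fact.out : p.Prime)
  have hcard := Cfsg.Agent.Lib.helper79.card_eq_of_isDefectGroup hM hB hBD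
  rw [hcard, Nat.factorization_pow, hp.factorization]
  simp

omit [Fact p.Prime] [Fintype G] in
/-- The degree of a member of `B` has `p`-part at least `|G|_p / p ^ (defect of B)`. -/
theorem factorization_card_le_degree_add_blockDefect (B : Set (IrrCharacter G))
    (χ : IrrCharacter G) (hχ : χ ∈ B) :
    (Nat.card G).factorization p
      ≤ (charDegree (χ : G → ℂ)).factorization p + blockDefect p B := by
  unfold blockDefect
  have h1 : sInf ((fun χ : IrrCharacter G => (charDegree (χ : G → ℂ)).factorization p) '' B)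
      ≤ (charDegree (χ : G → ℂ)).factorization p := Nat.sInf_le ⟨χ, hχ, rfl⟩
  omega

open Classical in
/-- The coefficient of a block idempotent at a `p`-regular element centralizing the normal
`p`-subgroup `D`, through the sums of the characters over `D`. -/
theorem blockCoeff_eq_sum_normal (hM : IsPModular p M) (D : Subgroup G) [D.Normal] [Fintype D]
    (hD : IsPGroup p D) {B : Set (IrrCharacter G)} (hB : IsPBlock M B) (x : G)
    (hx : ¬ p ∣ orderOf x) (hxD : x ∈ Subgroup.centralizer (D : Set G)) :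
    blockCoeff B x = (Nat.card G : ℂ)⁻¹ * ∑ χ : IrrCharacter G,
      if χ ∈ B then conj (∑ u : D, (χ : G → ℂ) u) * conj ((χ : G → ℂ) x) else 0 := by
  classical
  have hp := (Fact.out : p.Prime)
  have key : ∑ u : D, blockCoeff B ((u : G) * x) = blockCoeff B x := by
    rw [Finset.sum_eq_single (1 : D)]
    · simp
    · intro u _ hu
      apply blockCoeff_eq_zero_of_dvd_orderOf hM hB
      have hcomm : Commute (u : G) x := Subgroup.mem_centralizer_iff.mp hxD u u.2
      obtain ⟨j, hj⟩ := exists_orderOf_eq_pow_of_mem hD u.2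
      exact dvd_orderOf_mul_of_commute hcomm (fun h => hu (Subtype.ext h)) hj hx
    · intro h
      exact absurd (Finset.mem_univ _) h
  rw [← key]
  have h1 : ∀ u : D, blockCoeff B ((u : G) * x) = (Nat.card G : ℂ)⁻¹ * ∑ χ : IrrCharacter G,
      if χ ∈ B then (χ : G → ℂ) 1 * conj ((χ : G → ℂ) ((u : G) * x)) else 0 :=
    fun u => Cfsg.Agent.Lib.helper80.blockCoeff_eq_sum B _
  rw [Finset.sum_congr rfl (fun u _ => h1 u), ← Finset.mul_sum, Finset.sum_comm]
  congr 1
  refine Finset.sum_congr rfl (fun χ _ => ?_)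
  by_cases hχ : χ ∈ B
  · simp only [if_pos hχ]
    rw [← Finset.mul_sum, ← map_sum, sum_subgroup_shift D χ x, map_mul, map_div₀]
    have hc1 : conj ((χ : G → ℂ) 1) = (χ : G → ℂ) 1 := by
      rw [irr_one_eq_charDegree]
      simp
    have hχ1 := irr_one_ne_zero χ
    rw [hc1]
    field_simp
  · simp [hχ]

end RobinsonB

section RobinsonC

variable {G : Type u} [Group G] [Fintype G] {p : ℕ} [Fact p.Prime] {M : Ideal AlgInt}

open Classical in
/-- **Robinson's rank theorem for a normal defect group**: the number of blocks with the normal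
`p`-subgroup `D` as a defect group is the rank modulo `p` of the matrix of the numbers
`ω(i, j) / p ^ (a - d)`. -/
theorem card_blocks_normal_defect_eq_rank (hM : IsPModular p M) (D : Subgroup G) [D.Normal]
    (hD : IsPGroup p D) (S : Sylow p G) {ι : Type*} [Fintype ι] [DecidableEq ι]
    (K : ι → ConjClasses G) (hKinj : Function.Injective K)
    (hK : ∀ C : ConjClasses G, (∃ i, K i = C) ↔ ∃ x ∈ C.carrier, ¬ p ∣ orderOf x ∧
      ∃ Q : Sylow p (Subgroup.centralizer ({x} : Set G)),
        (Q : Subgroup (Subgroup.centralizer ({x} : Set G))).map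
          (Subgroup.centralizer ({x} : Set G)).subtype = D) :
    Nat.card {B : Set (IrrCharacter G) // IsPBlock M B ∧ IsDefectGroup p M B D}
      = (Matrix.of fun i j : ι => ((Nat.card {yz : G × G // yz.1 ∈ (K i).carrier ∧
          yz.2 ∈ (K j).carrier ∧ yz.2 * yz.1⁻¹ ∈ (S : Subgroup G)}
          / p ^ ((Nat.card G).factorization p - (Nat.card D).factorization p) : ℕ)
          : ZMod p)).rank := by
  classical
  have hp := (Fact.out : p.Prime)
  have hMp := isPrime_of_isPModular hM
  haveI : Fintype D := Fintype.ofFinite D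
  haveI : Fintype (S : Subgroup G) := Fintype.ofFinite _
  obtain ⟨a, ha⟩ : ∃ a : ℕ, a = (Nat.card G).factorization p := ⟨_, rfl⟩
  obtain ⟨d, hd⟩ : ∃ d : ℕ, d = (Nat.card D).factorization p := ⟨_, rfl⟩
  rw [← ha, ← hd]
  have hpC : (p : ℂ) ≠ 0 := Nat.cast_ne_zero.mpr hp.ne_zero
  have hGC : (Nat.card G : ℂ) ≠ 0 := by exact_mod_cast Nat.card_pos.ne'
  -- basic facts on `D` and `S`
  have hDS : D ≤ (S : Subgroup G) := Cfsg.Agent.Lib.helper1.normal_pgroup_le_sylow D hD S
  have hDcard : Nat.card D = p ^ d := by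
    obtain ⟨k, hk⟩ := hD.exists_card_eq
    have hk' : (Nat.card D).factorization p = k := by
      rw [hk, Nat.factorization_pow, hp.factorization]
      simp
    rw [hd, hk', hk]
  have hScard : Nat.card (S : Subgroup G) = p ^ a := by
    rw [ha]
    exact S.card_eq_multiplicity
  have hda : d ≤ a := by
    have h1 : Nat.card D ∣ Nat.card (S : Subgroup G) := Subgroup.card_dvd_of_le hDS
    rw [hDcard, hScard] at h1
    exact (Nat.pow_dvd_pow_iff_le_right hp.one_lt).mp h1
  -- representatives of the classes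
  have hrep : ∀ i, ∃ x ∈ (K i).carrier, ¬ p ∣ orderOf x ∧
      ∃ Q : Sylow p (Subgroup.centralizer ({x} : Set G)),
        (Q : Subgroup (Subgroup.centralizer ({x} : Set G))).map
          (Subgroup.centralizer ({x} : Set G)).subtype = D := fun i => (hK (K i)).mp ⟨i, rfl⟩
  choose x hxK hxreg hxQ using hrep
  have hxD : ∀ i, x i ∈ Subgroup.centralizer (D : Set G) := by
    intro i
    obtain ⟨Q, hQ⟩ := hxQ i
    rw [Subgroup.mem_centralizer_iff]
    intro u hu
    rw [← hQ] at hu
    obtain ⟨q, -, rfl⟩ := Subgroup.mem_map.mp hu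
    have h1 := Subgroup.mem_centralizer_iff.mp q.2 (x i) (Set.mem_singleton _)
    exact h1.symm
  have hxc : ∀ i, (Nat.card (Subgroup.centralizer ({x i} : Set G))).factorization p = d := by
    intro i
    obtain ⟨Q, hQ⟩ := hxQ i
    have h1 : Nat.card D = Nat.card (Q : Subgroup (Subgroup.centralizer ({x i} : Set G))) := by
      rw [← hQ]
      exact Subgroup.card_map_of_injective (Subgroup.subtype_injective _)
    rw [Q.card_eq_multiplicity, hDcard] at h1
    exact (Nat.pow_right_injective hp.two_le h1).symm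
  -- the blocks
  haveI : Fintype {B : Set (IrrCharacter G) // IsPBlock M B ∧ IsDefectGroup p M B D} :=
    Fintype.ofFinite _
  rw [Nat.card_eq_fintype_card]
  have hrepB : ∀ B : {B : Set (IrrCharacter G) // IsPBlock M B ∧ IsDefectGroup p M B D},
      ∃ χ : IrrCharacter G, χ ∈ B.1 :=
    fun B => Cfsg.Agent.Lib.helper81.isPBlock_nonempty hMp B.2.1
  choose rep hrepmem using hrepB
  have hBdef : ∀ B : {B : Set (IrrCharacter G) // IsPBlock M B ∧ IsDefectGroup p M B D},
      blockDefect p B.1 = d := by
    intro B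
    rw [hd]
    exact blockDefect_eq_of_isDefectGroup hM D B.2.1 B.2.2
  -- the normalized sums over the Sylow subgroup
  obtain ⟨t, ht⟩ : ∃ t : IrrCharacter G → ℂ,
      t = fun χ : IrrCharacter G =>
        (∑ s : (S : Subgroup G), (χ : G → ℂ) s) / (Nat.card G : ℂ) := ⟨_, rfl⟩
  have htR : ∀ χ, MemLocalRing M (t χ) := by
    intro χ
    obtain ⟨m, hm⟩ := sum_subgroup_irr (S : Subgroup G) χ
    have hidx : ¬ p ∣ (S : Subgroup G).index := S.not_dvd_index
    have hidx0 : ((S : Subgroup G).index : ℂ) ≠ 0 :=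
      Nat.cast_ne_zero.mpr Subgroup.index_ne_zero_of_finite
    have hS0 : (Nat.card (S : Subgroup G) : ℂ) ≠ 0 := by exact_mod_cast Nat.card_pos.ne'
    have hG : (Nat.card G : ℂ) = (Nat.card (S : Subgroup G) : ℂ) * ((S : Subgroup G).index : ℂ) := by
      exact_mod_cast (Subgroup.card_mul_index (S : Subgroup G)).symm
    have h1 : t χ = (m : ℂ) * (((S : Subgroup G).index : ℂ))⁻¹ := by
      rw [ht]
      show (∑ s : (S : Subgroup G), (χ : G → ℂ) s) / (Nat.card G : ℂ) = _
      rw [hm, hG]
      field_simp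
    rw [h1]
    exact memLocalRing_mul hMp (memLocalRing_natCast hMp m)
      (memLocalRing_inv_natCast hM ((Nat.Prime.coprime_iff_not_dvd hp).mpr hidx).symm)
  -- the `p'`-parts of the class sizes
  obtain ⟨κ, hκdef⟩ : ∃ κ : ι → ℕ,
      κ = fun j => (Subgroup.centralizer ({x j} : Set G)).index / p ^ (a - d) := ⟨_, rfl⟩
  have hidxfac : ∀ j, ((Subgroup.centralizer ({x j} : Set G)).index).factorization p = a - d := by
    intro j
    have h1 := Subgroup.card_mul_index (Subgroup.centralizer ({x j} : Set G))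
    have h2 : (Nat.card (Subgroup.centralizer ({x j} : Set G))
          * (Subgroup.centralizer ({x j} : Set G)).index).factorization p
        = (Nat.card (Subgroup.centralizer ({x j} : Set G))).factorization p
          + ((Subgroup.centralizer ({x j} : Set G)).index).factorization p := by
      rw [Nat.factorization_mul Nat.card_pos.ne' Subgroup.index_ne_zero_of_finite]
      rfl
    rw [h1, hxc j, ← ha] at h2
    omega
  have hκmul : ∀ j, (Subgroup.centralizer ({x j} : Set G)).index = p ^ (a - d) * κ j := by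
    intro j
    have h1 := Nat.ordProj_mul_ordCompl_eq_self (Subgroup.centralizer ({x j} : Set G)).index p
    rw [hidxfac j] at h1
    rw [hκdef]
    exact h1.symm
  have hκ : ∀ j, ¬ p ∣ κ j := by
    intro j
    have h1 := Nat.not_dvd_ordCompl hp
      (Subgroup.index_ne_zero_of_finite (H := Subgroup.centralizer ({x j} : Set G)))
    rw [hidxfac j] at h1
    rw [hκdef]
    exact h1
  -- the count through characters
  obtain ⟨ω, hω⟩ : ∃ ω : ι → ι → ℕ, ω = fun i j => Nat.card {yz : G × G // yz.1 ∈ (K i).carrier ∧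
      yz.2 ∈ (K j).carrier ∧ yz.2 * yz.1⁻¹ ∈ (S : Subgroup G)} := ⟨_, rfl⟩
  have hωform : ∀ i j, (ω i j : ℂ) = (p : ℂ) ^ (a - d) * ((κ j : ℂ)
      * ∑ χ : IrrCharacter G, centralChar (χ : G → ℂ) (x i) * conj ((χ : G → ℂ) (x j)) * t χ) := by
    intro i j
    have h1 := card_pairs_eq (S : Subgroup G) (K i) (K j) (x i) (x j) (hxK i) (hxK j)
    rw [sum_pairs_formula] at h1
    have hc0 : (Nat.card (Subgroup.centralizer ({x j} : Set G)) : ℂ) ≠ 0 := by
      exact_mod_cast Nat.card_pos.ne'
    have hG : (Nat.card G : ℂ) = (Nat.card (Subgroup.centralizer ({x j} : Set G)) : ℂ)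
        * ((p : ℂ) ^ (a - d) * (κ j : ℂ)) := by
      have h2 := Subgroup.card_mul_index (Subgroup.centralizer ({x j} : Set G))
      rw [hκmul j] at h2
      exact_mod_cast h2.symm
    have h3 : ∀ χ : IrrCharacter G,
        centralChar (χ : G → ℂ) (x i) * conj ((χ : G → ℂ) (x j))
          * ∑ s : (S : Subgroup G), (χ : G → ℂ) s
        = (Nat.card G : ℂ) * (centralChar (χ : G → ℂ) (x i) * conj ((χ : G → ℂ) (x j)) * t χ) := by
      intro χ
      rw [ht]
      field_simp
    rw [hω]
    show (Nat.card {yz : G × G // yz.1 ∈ (K i).carrier ∧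
      yz.2 ∈ (K j).carrier ∧ yz.2 * yz.1⁻¹ ∈ (S : Subgroup G)} : ℂ) = _
    rw [h1, Finset.sum_congr rfl (fun χ _ => h3 χ), ← Finset.mul_sum, hG]
    field_simp
  have hsumR : ∀ i j, MemLocalRing M (∑ χ : IrrCharacter G,
      centralChar (χ : G → ℂ) (x i) * conj ((χ : G → ℂ) (x j)) * t χ) := by
    intro i j
    refine memLocalRing_sum hMp _ _ (fun χ _ => ?_)
    refine memLocalRing_mul hMp (memLocalRing_mul hMp (memLocalRing_centralChar hMp χ _) ?_)
      (htR χ)
    rw [← irr_inv]
    exact memLocalRing_of_algInt hMp (⟨_, irr_isIntegral χ _⟩ : AlgInt)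
  have hωdvd : ∀ i j, p ^ (a - d) ∣ ω i j := by
    intro i j
    apply pow_dvd_of_memLocalRing_div hM
    rw [hωform i j, mul_div_cancel_left₀ _ (pow_ne_zero _ hpC)]
    exact memLocalRing_mul hMp (memLocalRing_natCast hMp _) (hsumR i j)
  have hncast : ∀ i j, ((ω i j / p ^ (a - d) : ℕ) : ℂ) = (κ j : ℂ)
      * ∑ χ : IrrCharacter G, centralChar (χ : G → ℂ) (x i) * conj ((χ : G → ℂ) (x j)) * t χ := by
    intro i j
    rw [Nat.cast_div (hωdvd i j) (by
      push_cast
      exact pow_ne_zero _ hpC), hωform i j]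
    push_cast
    rw [mul_div_cancel_left₀ _ (pow_ne_zero _ hpC)]
  have htχ : ∀ χ : IrrCharacter G,
      t χ = (∑ s : (S : Subgroup G), (χ : G → ℂ) s) / (Nat.card G : ℂ) := fun χ => by rw [ht]
  have hconjR : ∀ (χ : IrrCharacter G) (g : G), MemLocalRing M (conj ((χ : G → ℂ) g)) := by
    intro χ g
    rw [← irr_inv]
    exact memLocalRing_of_algInt hMp (⟨_, irr_isIntegral χ _⟩ : AlgInt)
  -- the matrices
  obtain ⟨A, hAdef⟩ : ∃ A : Matrix ι
      {B : Set (IrrCharacter G) // IsPBlock M B ∧ IsDefectGroup p M B D} ℂ,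
      A = fun i B => centralChar (rep B : G → ℂ) (x i) := ⟨_, rfl⟩
  obtain ⟨E, hEdef⟩ : ∃ E : Matrix ι
      {B : Set (IrrCharacter G) // IsPBlock M B ∧ IsDefectGroup p M B D} ℂ,
      E = fun j B => blockCoeff B.1 (x j) := ⟨_, rfl⟩
  have hA : MLoc M A := by
    intro i B
    rw [hAdef]
    exact memLocalRing_centralChar hMp (rep B) (x i)
  have hE : MLoc M E := by
    intro j B
    rw [hEdef]
    exact memLocalRing_blockCoeff hMp B.2.1 (x j)
  -- the idempotent coefficients through the sums over the Sylow subgroup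
  have hEform : ∀ (B : {B : Set (IrrCharacter G) // IsPBlock M B ∧ IsDefectGroup p M B D})
      (j : ι), blockCoeff B.1 (x j) = ∑ χ : IrrCharacter G,
        if χ ∈ B.1 then conj ((χ : G → ℂ) (x j)) * t χ else 0 := by
    intro B j
    rw [blockCoeff_eq_sum_normal hM D hD B.2.1 (x j) (hxreg j) (hxD j), Finset.mul_sum]
    refine Finset.sum_congr rfl (fun χ _ => ?_)
    by_cases hχ : χ ∈ B.1
    · rw [if_pos hχ, if_pos hχ]
      have hkey : conj (∑ u : D, (χ : G → ℂ) u) = ∑ s : (S : Subgroup G), (χ : G → ℂ) s := by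
        by_cases h0 : ∑ u : D, (χ : G → ℂ) u = 0
        · rw [h0, sum_subgroup_eq_zero_of_sum_normal_eq_zero D (S : Subgroup G) hDS χ h0,
            map_zero]
        · have hker := irr_eq_one_of_sum_normal_ne_zero D χ h0
          have hle := factorization_degree_add_le (p := p) D χ hker
          have hge := factorization_card_le_degree_add_blockDefect (p := p) B.1 χ hχ
          rw [hBdef B] at hge
          rw [← hd, ← ha] at hle
          have hdeg : (charDegree (χ : G → ℂ)).factorization p + (Nat.card D).factorization p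
              = (Nat.card G).factorization p := by
            rw [← hd, ← ha]
            omega
          rw [sum_pgroup_eq_of_quotient_defect_zero D (S : Subgroup G) S.isPGroup' hDS χ hker
            hdeg, (sum_normal_eq_zero_or D χ).resolve_left h0, map_mul, Complex.conj_natCast,
            irr_one_eq_charDegree, Complex.conj_natCast]
      rw [hkey, htχ χ]
      field_simp
    · rw [if_neg hχ, if_neg hχ, mul_zero]
  -- the first congruence
  have H1 : ∀ i j, MemLocalIdeal M (((ω i j / p ^ (a - d) : ℕ) : ℂ)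
      - (κ j : ℂ) * ∑ B, A i B * E j B) := by
    intro i j
    rw [hncast i j, ← mul_sub]
    refine memLocalIdeal_mul_left hMp (memLocalRing_natCast hMp _) ?_
    have h1 : ∑ B, A i B * E j B = ∑ χ : IrrCharacter G,
        ∑ B : {B : Set (IrrCharacter G) // IsPBlock M B ∧ IsDefectGroup p M B D},
          if χ ∈ B.1 then centralChar (rep B : G → ℂ) (x i) * (conj ((χ : G → ℂ) (x j)) * t χ)
          else 0 := by
      rw [Finset.sum_comm]
      refine Finset.sum_congr rfl (fun B _ => ?_)
      rw [hAdef, hEdef]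
      show centralChar (rep B : G → ℂ) (x i) * blockCoeff B.1 (x j) = _
      rw [hEform B j, Finset.mul_sum]
      refine Finset.sum_congr rfl (fun χ _ => ?_)
      split_ifs
      · rfl
      · exact mul_zero _
    rw [h1, ← Finset.sum_sub_distrib]
    refine memLocalIdeal_sum hMp _ _ (fun χ _ => ?_)
    by_cases hβ : IsDefectGroup p M (blockOf M (χ : G → ℂ)) D
    · obtain ⟨B₀, hB₀⟩ : ∃ B₀ : {B : Set (IrrCharacter G) //
          IsPBlock M B ∧ IsDefectGroup p M B D}, B₀.1 = blockOf M (χ : G → ℂ) :=
        ⟨⟨blockOf M (χ : G → ℂ), isPBlock_blockOf M χ, hβ⟩, rfl⟩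
      have hχB₀ : χ ∈ B₀.1 := by
        rw [hB₀]
        exact Cfsg.Agent.Lib.helper80.mem_blockOf_self hMp χ
      have hsingle : ∑ B : {B : Set (IrrCharacter G) // IsPBlock M B ∧ IsDefectGroup p M B D},
          (if χ ∈ B.1 then centralChar (rep B : G → ℂ) (x i) * (conj ((χ : G → ℂ) (x j)) * t χ)
            else 0)
          = centralChar (rep B₀ : G → ℂ) (x i) * (conj ((χ : G → ℂ) (x j)) * t χ) := by
        rw [Finset.sum_eq_single B₀]
        · rw [if_pos hχB₀]
        · intro B _ hB
          rw [if_neg]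
          intro hχB
          apply hB
          apply Subtype.ext
          rw [hB₀]
          exact Cfsg.Agent.Lib.helper80.eq_blockOf_of_mem hMp B.2.1 hχB
        · intro h
          exact absurd (Finset.mem_univ _) h
      rw [hsingle]
      have hsame : MemLocalIdeal M (centralChar (χ : G → ℂ) (x i)
          - centralChar (rep B₀ : G → ℂ) (x i)) := by
        have h2 := hrepmem B₀
        rw [hB₀] at h2
        exact h2 (x i)
      have h3 : centralChar (χ : G → ℂ) (x i) * conj ((χ : G → ℂ) (x j)) * t χ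
          - centralChar (rep B₀ : G → ℂ) (x i) * (conj ((χ : G → ℂ) (x j)) * t χ)
          = (centralChar (χ : G → ℂ) (x i) - centralChar (rep B₀ : G → ℂ) (x i))
            * (conj ((χ : G → ℂ) (x j)) * t χ) := by ring
      rw [h3]
      exact memLocalIdeal_mul_right hMp hsame (memLocalRing_mul hMp (hconjR χ _) (htR χ))
    · have hzero : ∑ B : {B : Set (IrrCharacter G) // IsPBlock M B ∧ IsDefectGroup p M B D},
          (if χ ∈ B.1 then centralChar (rep B : G → ℂ) (x i) * (conj ((χ : G → ℂ) (x j)) * t χ)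
            else 0) = 0 := by
        refine Finset.sum_eq_zero (fun B _ => ?_)
        rw [if_neg]
        intro hχB
        apply hβ
        rw [← Cfsg.Agent.Lib.helper80.eq_blockOf_of_mem hMp B.2.1 hχB]
        exact B.2.2
      rw [hzero, sub_zero]
      have hlt : (Nat.card (Subgroup.centralizer ({x i} : Set G))).factorization p
          < blockDefect p (blockOf M (χ : G → ℂ)) := by
        obtain ⟨h1, h2⟩ := le_blockDefect_of_normal hM D hD (isPBlock_blockOf M χ)
        rw [hxc i]
        rw [← hd] at h1 h2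
        rcases Nat.lt_or_ge d (blockDefect p (blockOf M (χ : G → ℂ))) with h | h
        · exact h
        · exact absurd (h2 (le_antisymm h1 h)) hβ
      have hcc := memLocalIdeal_centralChar_of_lt_defect hM (isPBlock_blockOf M χ)
        (Cfsg.Agent.Lib.helper80.mem_blockOf_self hMp χ) (x i) hlt
      rw [mul_assoc]
      exact memLocalIdeal_mul_right hMp hcc (memLocalRing_mul hMp (hconjR χ _) (htR χ))
  -- the second congruence
  have H2 : ∀ B B' : {B : Set (IrrCharacter G) // IsPBlock M B ∧ IsDefectGroup p M B D},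
      MemLocalIdeal M ((∑ i, E i B' * A i B) - if B = B' then 1 else 0) := by
    intro B B'
    obtain ⟨Fc, hFc⟩ : ∃ Fc : ConjClasses G → ℂ, Fc = fun c =>
        blockCoeff B'.1 (Quotient.out c) * centralChar (rep B : G → ℂ) (Quotient.out c) :=
      ⟨_, rfl⟩
    have hcf : IsClassFunction G (blockCoeff B'.1) := fun g h =>
      Cfsg.Agent.Lib.helper79.blockCoeff_eq_of_isConj B'.1 (isConj_iff.mpr ⟨h, rfl⟩).symm
    have hom : ∑ c : ConjClasses G, Fc c = if B = B' then 1 else 0 := by
      rw [hFc, ← om_eq_sum_classes (rep B : G → ℂ) (irr_classFun (rep B)) (blockCoeff B'.1) hcf,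
        om_blockCoeff]
      by_cases hBB : B = B'
      · rw [if_pos hBB, if_pos (hBB ▸ hrepmem B)]
      · rw [if_neg hBB, if_neg]
        intro hmem
        apply hBB
        apply Subtype.ext
        rw [Cfsg.Agent.Lib.helper80.eq_blockOf_of_mem hMp B.2.1 (hrepmem B),
          Cfsg.Agent.Lib.helper80.eq_blockOf_of_mem hMp B'.2.1 hmem]
    have hrange : ∑ i, E i B' * A i B
        = ∑ c : ConjClasses G, if c ∈ Set.range K then Fc c else 0 := by
      refine Fintype.sum_of_injective K hKinj _ _ ?_ ?_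
      · intro c hc
        exact if_neg hc
      · intro i
        rw [if_pos (Set.mem_range_self i), hEdef, hAdef, hFc]
        show blockCoeff B'.1 (x i) * centralChar (rep B : G → ℂ) (x i)
          = blockCoeff B'.1 (Quotient.out (K i))
            * centralChar (rep B : G → ℂ) (Quotient.out (K i))
        have hconj : IsConj (x i) (Quotient.out (K i)) := by
          rw [← ConjClasses.mk_eq_mk_iff_isConj]
          have h1 := ConjClasses.mem_carrier_iff_mk_eq.mp (hxK i)
          rw [h1]
          exact (Quotient.out_eq (K i)).symm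
        obtain ⟨g, hg⟩ := isConj_iff.mp hconj
        rw [Cfsg.Agent.Lib.helper79.blockCoeff_eq_of_isConj B'.1 hconj, ← hg, centralChar_conj']
    rw [hrange, ← hom, ← Finset.sum_sub_distrib]
    refine memLocalIdeal_sum hMp _ _ (fun c _ => ?_)
    by_cases hc : c ∈ Set.range K
    · rw [if_pos hc, sub_self]
      exact memLocalIdeal_zero hMp
    · rw [if_neg hc, zero_sub]
      apply memLocalIdeal_neg
      rw [hFc]
      show MemLocalIdeal M (blockCoeff B'.1 (Quotient.out c)
        * centralChar (rep B : G → ℂ) (Quotient.out c))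
      obtain ⟨y, hy⟩ : ∃ y : G, y = Quotient.out c := ⟨_, rfl⟩
      rw [← hy]
      have hyc : ConjClasses.mk y = c := by
        rw [hy]
        exact Quotient.out_eq c
      by_cases hcond : ¬ p ∣ orderOf y ∧
          blockDefect p B.1 ≤ (Nat.card (Subgroup.centralizer ({y} : Set G))).factorization p ∧
          (Nat.card (Subgroup.centralizer ({y} : Set G))).factorization p ≤ blockDefect p B'.1
      · obtain ⟨hreg, h1, h2⟩ := hcond
        rw [hBdef B] at h1
        rw [hBdef B'] at h2
        have hν : (Nat.card (Subgroup.centralizer ({y} : Set G))).factorization p = d :=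
          le_antisymm h2 h1
        have hyD : y ∉ Subgroup.centralizer (D : Set G) := by
          intro hyD
          apply hc
          have hDC : D ≤ Subgroup.centralizer ({y} : Set G) := by
            intro u hu
            rw [Subgroup.mem_centralizer_iff]
            intro h hh
            rw [Set.mem_singleton_iff.mp hh]
            exact (Subgroup.mem_centralizer_iff.mp hyD u hu).symm
          have hcard : Nat.card (D.subgroupOf (Subgroup.centralizer ({y} : Set G)))
              = p ^ (Nat.card (Subgroup.centralizer ({y} : Set G))).factorization p := by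
            rw [hν, ← hDcard]
            exact Nat.card_congr (Subgroup.subgroupOfEquivOfLe hDC).toEquiv
          obtain ⟨i, hi⟩ := (hK c).mpr ⟨y, ConjClasses.mem_carrier_iff_mk_eq.mpr hyc, hreg,
            Sylow.ofCard _ hcard, by
              rw [Sylow.coe_ofCard, Subgroup.subgroupOf_map_subtype]
              exact inf_eq_left.mpr hDC⟩
          exact ⟨i, hi⟩
        rw [Cfsg.Agent.S4653.result p M hM D hD B'.1 B'.2.1 y hyD, zero_mul]
        exact memLocalIdeal_zero hMp
      · exact Cfsg.Agent.Lib.helper79.memLocalIdeal_blockCoeff_mul_centralChar hM B'.2.1 B.2.1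
          (hrepmem B) y hcond
  have hfin := rank_eq_card_of_cong hM (fun i j => ω i j / p ^ (a - d)) A E hA hE κ hκ H1 H2
  rw [hω] at hfin
  exact hfin.symm

end RobinsonC

end Cfsg.Agent.Lib.helper84
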