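import Mathlib
import Cfsg.Agent.Lib.helper24.SfuDefs

/-!
# S5982 piece UFIX, core (helper84): the fixed space of a similarity of prime order `r ∤ q - 1`
The count of norm-one vectors (piece COUNT) and additivity in the second argument (piece SESQ)
are taken as hypotheses here.
-/

set_option autoImplicit false

namespace Cfsg.Agent.Lib.helper24

open Module Matrix Cfsg.Geo

/-- A self-map of prime order `r` without fixed points lives on a set of size divisible by `r`. -/
theorem helper84_dvd_card_of_no_fixed {α : Type*} [Fintype α] [DecidableEq α] (r : ℕ)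
    [Fact r.Prime] (τ : Function.End α) (hτ : τ ^ r = 1) (hfix : ∀ a : α, τ a ≠ a) :
    r ∣ Fintype.card α := by
  classical
  have h1 : τ ^ r ^ 1 = 1 := by rw [pow_one]; exact hτ
  have h2 := Equiv.Perm.card_fixedPoints_modEq (p := r) (n := 1) (f := τ) h1
  have h3 : ∀ inst : Fintype (Function.fixedPoints τ),
      @Fintype.card (Function.fixedPoints τ) inst = 0 := by
    intro inst
    rw [Fintype.card_eq_zero_iff]
    exact ⟨fun ⟨a, ha⟩ => hfix a ha⟩
  rw [h3] at h2
  exact (Nat.modEq_zero_iff_dvd).mp h2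

/-- **[UFIX]** relative to COUNT and SESQ. -/
theorem helper84_sfu_fix_dvd_core {F : Type*} [Field F] [Fintype F] [DecidableEq F] {n : ℕ}
    (q₀ : ℕ) (f : (Fin n → F) → (Fin n → F) → F)
    (hf : IsUnitaryFormPow q₀ f)
    (hadd : ∀ v x y, f v (x + y) = f v x + f v y)
    (hcount : ∀ (m : ℕ) (f' : (Fin m → F) → (Fin m → F) → F), IsUnitaryFormPow q₀ f' →
      ((Finset.univ.filter (fun v : Fin m → F => f' v v = 1)).card : ℤ) =
        (q₀ : ℤ) ^ (m - 1) * ((q₀ : ℤ) ^ m - (-1) ^ m))
    (r : ℕ) [Fact r.Prime] (hrF : (r : F) ≠ 0) (hq₀ : (q₀ : ZMod r) ≠ 0)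
    (hnd : ¬ r ∣ Fintype.card F - 1) (g : GL (Fin n) F) (hg : g ∈ similarityGroup f)
    (hgr : (g : Matrix (Fin n) (Fin n) F) ^ r = 1) :
    (-(q₀ : ZMod r)) ^ (n - Module.finrank F
      (LinearMap.ker (Matrix.toLin' (g : Matrix (Fin n) (Fin n) F) - 1))) = 1 := by
  classical
  have hr : r.Prime := Fact.out
  obtain ⟨G, hG⟩ : ∃ G : (Fin n → F) →ₗ[F] (Fin n → F),
      G = Matrix.toLin' (g : Matrix (Fin n) (Fin n) F) := ⟨_, rfl⟩
  rw [← hG]
  have hGapp : ∀ v, G v = (g : Matrix (Fin n) (Fin n) F) *ᵥ v := by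
    intro v
    rw [hG, Matrix.toLin'_apply]
  have hGr : G ^ r = 1 := by
    have e : Matrix.toLin' (g : Matrix (Fin n) (Fin n) F) =
        Matrix.toLinAlgEquiv' (g : Matrix (Fin n) (Fin n) F) := rfl
    rw [hG, e, ← map_pow, hgr, map_one]
  -- the two subspaces
  obtain ⟨W, hW⟩ : ∃ W : Submodule F (Fin n → F), W = LinearMap.ker (G - 1) := ⟨_, rfl⟩
  obtain ⟨U, hU⟩ : ∃ U : Submodule F (Fin n → F), U = LinearMap.range (G - 1) := ⟨_, rfl⟩
  rw [← hW]
  have hrank : finrank F U + finrank F W = n := by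
    have := LinearMap.finrank_range_add_finrank_ker (G - 1)
    rw [Module.finrank_fin_fun] at this
    rw [hU, hW]
    exact this
  have hm : n - finrank F W = finrank F U := by omega
  rw [hm]
  have hWmem : ∀ w, w ∈ W ↔ G w = w := by
    intro w
    rw [hW, LinearMap.mem_ker, LinearMap.sub_apply, Module.End.one_apply, sub_eq_zero]
  have hUmem : ∀ u, u ∈ U ↔ ∃ v, G v - v = u := by
    intro u
    rw [hU, LinearMap.mem_range]
    constructor
    · rintro ⟨v, hv⟩
      exact ⟨v, by rw [← hv, LinearMap.sub_apply, Module.End.one_apply]⟩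
    · rintro ⟨v, hv⟩
      exact ⟨v, by rw [← hv, LinearMap.sub_apply, Module.End.one_apply]⟩
  -- `W ⊓ U = ⊥`
  have hWU : ∀ x, x ∈ W → x ∈ U → x = 0 := by
    intro x hxW hxU
    obtain ⟨v, hv⟩ := (hUmem x).mp hxU
    have hGx : G x = x := (hWmem x).mp hxW
    have h1 : ∀ i : ℕ, (G ^ i) x = x := by
      intro i
      induction i with
      | zero => rfl
      | succ i ih => rw [pow_succ, Module.End.mul_apply, hGx, ih]
    have h2 : (∑ i ∈ Finset.range r, G ^ i) x = (r : F) • x := by
      rw [LinearMap.sum_apply, Finset.sum_congr rfl (fun i _ => h1 i), Finset.sum_const,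
        Finset.card_range, Nat.cast_smul_eq_nsmul]
    have h3 : (∑ i ∈ Finset.range r, G ^ i) x = 0 := by
      have e : x = (G - 1) v := by
        rw [LinearMap.sub_apply, Module.End.one_apply, hv]
      rw [e, ← Module.End.mul_apply, geom_sum_mul, hGr, sub_self, LinearMap.zero_apply]
    rw [h2] at h3
    rcases smul_eq_zero.mp h3 with h | h
    · exact absurd h hrF
    · exact h
  -- trivial case
  by_cases hm0 : finrank F U = 0
  · rw [hm0, pow_zero]
  -- a nonzero vector, hence the multiplier is one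
  obtain ⟨c, hc⟩ := hg
  have hck : ∀ (k : ℕ) (u v : Fin n → F), f ((G ^ k) u) ((G ^ k) v) = (c : F) ^ k * f u v := by
    intro k
    induction k with
    | zero => intro u v; simp
    | succ k ih =>
      intro u v
      rw [pow_succ', Module.End.mul_apply, Module.End.mul_apply, hGapp, hGapp, hc, ih, pow_succ']
      ring
  have hc1 : c = 1 := by
    have hUne : U ≠ ⊥ := by
      intro h
      apply hm0
      rw [h, finrank_bot]
    obtain ⟨u, hu, hu0⟩ := (Submodule.ne_bot_iff U).mp hUne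
    obtain ⟨⟨x, hx⟩, -⟩ := hf.nondegenerate u hu0
    have h1 := hck r x u
    rw [hGr, Module.End.one_apply, Module.End.one_apply] at h1
    have h2 : (c : F) ^ r = 1 := by
      have : ((c : F) ^ r - 1) * f x u = 0 := by rw [sub_mul, one_mul, ← h1, sub_self]
      rcases mul_eq_zero.mp this with h | h
      · exact sub_eq_zero.mp h
      · exact absurd h hx
    have h3 : c ^ r = 1 := by
      apply Units.ext
      rw [Units.val_pow_eq_pow_val, h2, Units.val_one]
    have h4 : orderOf c ∣ r := orderOf_dvd_of_pow_eq_one h3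
    have h5 : orderOf c ∣ Fintype.card F - 1 := by
      rw [← Fintype.card_units]
      exact orderOf_dvd_card
    rcases (Nat.dvd_prime hr).mp h4 with h | h
    · exact orderOf_eq_one_iff.mp h
    · rw [h] at h5
      exact absurd h5 hnd
  have hiso : ∀ u v, f (G u) (G v) = f u v := by
    intro u v
    rw [hGapp, hGapp, hc, hc1, Units.val_one, one_mul]
  -- consequences of additivity
  have hzero_r : ∀ v, f v 0 = 0 := by
    intro v
    have := hadd v 0 0
    rw [add_zero] at this
    exact left_eq_add.mp this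
  have hsub_r : ∀ v x y, f v (x - y) = f v x - f v y := by
    intro v x y
    have := hadd v (x - y) y
    rw [sub_add_cancel] at this
    rw [this, add_sub_cancel_right]
  have hzero_l : ∀ v, f 0 v = 0 := by
    intro v
    have := hf.smul_left 0 0 v
    rw [zero_smul, zero_mul] at this
    exact this
  -- `W ⊥ U`
  have hperp : ∀ w u, w ∈ W → u ∈ U → f w u = 0 := by
    intro w u hw hu
    obtain ⟨v, hv⟩ := (hUmem u).mp hu
    have hGw : G w = w := (hWmem w).mp hw
    rw [← hv, hsub_r]
    nth_rewrite 1 [← hGw]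
    rw [hiso, sub_self]
  -- `W ⊔ U = ⊤`
  have hsup : W ⊔ U = ⊤ := by
    apply Submodule.eq_top_of_finrank_eq
    have h1 := Submodule.finrank_sup_add_finrank_inf_eq W U
    have h2 : W ⊓ U = ⊥ := by
      rw [Submodule.eq_bot_iff]
      intro x hx
      exact hWU x hx.1 hx.2
    rw [h2, finrank_bot, add_zero] at h1
    rw [h1, Module.finrank_fin_fun]
    omega
  -- nondegeneracy on `U`
  have hnd_U : ∀ u, u ∈ U → u ≠ 0 → ∃ u', u' ∈ U ∧ f u' u ≠ 0 := by
    intro u hu hu0
    obtain ⟨⟨x, hx⟩, -⟩ := hf.nondegenerate u hu0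
    have hxmem : x ∈ W ⊔ U := by rw [hsup]; exact Submodule.mem_top
    obtain ⟨w, hw, u', hu', rfl⟩ := Submodule.mem_sup.mp hxmem
    refine ⟨u', hu', ?_⟩
    rw [hf.add_left, hperp w u hw hu, zero_add] at hx
    exact hx
  -- `G` preserves `U`
  have hGU : ∀ u, u ∈ U → G u ∈ U := by
    intro u hu
    obtain ⟨v, hv⟩ := (hUmem u).mp hu
    rw [hUmem]
    exact ⟨G v, by rw [← hv, map_sub]⟩
  -- coordinates on `U`
  obtain ⟨m, hmdef⟩ : ∃ m : ℕ, m = finrank F U := ⟨_, rfl⟩
  rw [← hmdef] at hm0 ⊢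
  have b : Basis (Fin m) F U := by
    rw [hmdef]
    exact Module.finBasis F U
  obtain ⟨φ, hφ⟩ : ∃ φ : (Fin m → F) →ₗ[F] (Fin n → F),
      φ = U.subtype ∘ₗ (b.equivFun.symm : (Fin m → F) →ₗ[F] U) := ⟨_, rfl⟩
  have hφU : ∀ x, φ x ∈ U := by
    intro x
    rw [hφ]
    exact (b.equivFun.symm x).2
  have hφinj : Function.Injective φ := by
    rw [hφ]
    intro x y hxy
    have h1 : (b.equivFun.symm x : U) = b.equivFun.symm y := Subtype.ext hxy
    exact b.equivFun.symm.injective h1
  have hφsurj : ∀ u, u ∈ U → ∃ x, φ x = u := by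
    intro u hu
    refine ⟨b.equivFun ⟨u, hu⟩, ?_⟩
    rw [hφ]
    simp
  obtain ⟨f', hf'⟩ : ∃ f' : (Fin m → F) → (Fin m → F) → F, f' = fun x y => f (φ x) (φ y) :=
    ⟨_, rfl⟩
  have hf'e : ∀ x y, f' x y = f (φ x) (φ y) := by
    intro x y
    rw [hf']
  have hf'u : IsUnitaryFormPow q₀ f' := by
    rw [hf']
    refine ⟨?_, ?_, ?_, ?_⟩
    · intro x y v
      show f (φ (x + y)) (φ v) = f (φ x) (φ v) + f (φ y) (φ v)
      rw [map_add, hf.add_left]
    · intro a x v
      show f (φ (a • x)) (φ v) = a * f (φ x) (φ v)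
      rw [map_smul, hf.smul_left]
    · intro v w
      exact hf.herm (φ v) (φ w)
    · intro v hv
      have hφv : φ v ≠ 0 := by
        intro h0
        apply hv
        apply hφinj
        rw [h0, map_zero]
      obtain ⟨u', hu', hne⟩ := hnd_U (φ v) (hφU v) hφv
      obtain ⟨x, rfl⟩ := hφsurj u' hu'
      refine ⟨⟨x, hne⟩, ⟨x, ?_⟩⟩
      show f (φ v) (φ x) ≠ 0
      rw [hf.herm]
      exact pow_ne_zero _ hne
  have hcnt := hcount m f' hf'u
  -- the action of `G` on the norm-one vectors of `U`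
  have hGk : ∀ (k : ℕ) (u : Fin n → F), u ∈ U → (G ^ k) u ∈ U := by
    intro k
    induction k with
    | zero => intro u hu; exact hu
    | succ k ih =>
      intro u hu
      rw [pow_succ', Module.End.mul_apply]
      exact hGU _ (ih u hu)
  obtain ⟨τ, hτ⟩ : ∃ τ : Function.End {u : Fin n → F // u ∈ U ∧ f u u = 1},
      τ = fun u => ⟨G u.1, hGU u.1 u.2.1, by rw [hiso]; exact u.2.2⟩ := ⟨_, rfl⟩
  have hτk : ∀ (k : ℕ) (u : {u : Fin n → F // u ∈ U ∧ f u u = 1}),
      ((τ ^ k) u).1 = (G ^ k) u.1 := by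
    intro k
    induction k with
    | zero => intro u; rfl
    | succ k ih =>
      intro u
      rw [pow_succ', pow_succ', Module.End.mul_apply]
      show (τ ((τ ^ k) u)).1 = G ((G ^ k) u.1)
      rw [← ih u, hτ]
  have hτr : τ ^ r = 1 := by
    funext u
    apply Subtype.ext
    rw [hτk, hGr]
    rfl
  have hτfix : ∀ u : {u : Fin n → F // u ∈ U ∧ f u u = 1}, τ u ≠ u := by
    intro u hu
    have h1 : G u.1 = u.1 := by
      have := congrArg Subtype.val hu
      rw [hτ] at this
      exact this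
    have h2 : u.1 = 0 := hWU u.1 ((hWmem u.1).mpr h1) u.2.1
    have h3 := u.2.2
    rw [h2, hzero_l] at h3
    exact zero_ne_one h3
  have hdvd := helper84_dvd_card_of_no_fixed r τ hτr hτfix
  -- transport to coordinates
  have hcard : Fintype.card {u : Fin n → F // u ∈ U ∧ f u u = 1} =
      (Finset.univ.filter (fun v : Fin m → F => f' v v = 1)).card := by
    rw [← Fintype.card_subtype]
    apply Fintype.card_congr
    symm
    refine Equiv.ofBijective (fun x => ⟨φ x.1, hφU x.1, by rw [← hf'e x.1 x.1]; exact x.2⟩)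
      ⟨?_, ?_⟩
    · intro x y hxy
      apply Subtype.ext
      apply hφinj
      exact congrArg Subtype.val hxy
    · intro u
      obtain ⟨x, hx⟩ := hφsurj u.1 u.2.1
      refine ⟨⟨x, ?_⟩, ?_⟩
      · rw [hf'e, hx]
        exact u.2.2
      · apply Subtype.ext
        exact hx
  rw [hcard] at hdvd
  -- arithmetic
  have h0 : (((Finset.univ.filter (fun v : Fin m → F => f' v v = 1)).card : ℤ) : ZMod r) = 0 := by
    rw [Int.cast_natCast, ZMod.natCast_eq_zero_iff]
    exact hdvd
  rw [hcnt] at h0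
  push_cast at h0
  rcases mul_eq_zero.mp h0 with h | h
  · exact absurd h (pow_ne_zero _ hq₀)
  · have h1 : (q₀ : ZMod r) ^ m = (-1) ^ m := sub_eq_zero.mp h
    rw [neg_pow, h1, ← mul_pow]
    norm_num

end Cfsg.Agent.Lib.helper24
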