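import Mathlib
import Cfsg.Agent.Lib.helper24.SfuDefs
import Cfsg.Agent.Lib.helper84.SfuUFIXcore
import Cfsg.Agent.Lib.helper9.SfuSESQ
import Cfsg.Agent.Lib.helper27.SfuCOUNT

/-!
# S5982 piece UFIX (helper84): `sfu_fix_dvd`
-/

set_option autoImplicit false

namespace Cfsg.Agent.Lib.helper24

open Module Matrix Cfsg.Geo

/-- UFIX -/
theorem sfu_fix_dvd {F : Type*} [Field F] [Fintype F] {n : ℕ} (q₀ : ℕ)
    (hcard : Fintype.card F = q₀ ^ 2) (f : (Fin n → F) → (Fin n → F) → F)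
    (hf : IsUnitaryFormPow q₀ f) (r : ℕ) [Fact r.Prime] (hrF : (r : F) ≠ 0)
    (hnd : ¬ r ∣ Fintype.card F - 1) (g : GL (Fin n) F) (hg : g ∈ similarityGroup f)
    (hgr : (g : Matrix (Fin n) (Fin n) F) ^ r = 1) :
    (-(q₀ : ZMod r)) ^ (n - Module.finrank F
      (LinearMap.ker (Matrix.toLin' (g : Matrix (Fin n) (Fin n) F) - 1))) = 1 := by
  classical
  have hr : r.Prime := Fact.out
  have hq₀ : (q₀ : ZMod r) ≠ 0 := by
    intro h0
    rw [ZMod.natCast_eq_zero_iff] at h0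
    have h1 : r ∣ Fintype.card F := by
      rw [hcard]
      exact Dvd.dvd.pow h0 (by norm_num)
    obtain ⟨x, hx⟩ := exists_prime_addOrderOf_dvd_card r h1
    have hx0 : x ≠ 0 := by
      intro hx0
      rw [hx0, addOrderOf_zero] at hx
      exact hr.ne_one hx.symm
    have h3 : (r : F) * x = 0 := by
      have := addOrderOf_nsmul_eq_zero x
      rw [hx, nsmul_eq_mul] at this
      exact this
    rcases mul_eq_zero.mp h3 with h | h
    · exact hrF h
    · exact hx0 h
  exact helper84_sfu_fix_dvd_core q₀ f hf (sfu_sesq q₀ hcard f hf).1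
    (fun m f' hf' => h27_sfu_count q₀ hcard f' hf') r hrF hq₀ hnd g hg hgr

end Cfsg.Agent.Lib.helper24
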