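import Mathlib
import Cfsg.Agent.Lib.helper24.SfuDefs
import Cfsg.Agent.Lib.helper84.SfuUN3core
import Cfsg.Agent.Lib.helper78.SfuUDIAG

/-!
# S5982 piece UN3 (helper84): `sfu_nec_sym`
-/

set_option autoImplicit false

namespace Cfsg.Agent.Lib.helper24

open Module Matrix Cfsg.Geo

/-- UN3 -/
theorem sfu_nec_sym {F : Type*} [Field F] [Fintype F] {n : ℕ} (hn0 : 0 < n) (q₀ : ℕ)
    (hcard : Fintype.card F = q₀ ^ 2) (f : (Fin n → F) → (Fin n → F) → F)
    (hf : IsUnitaryFormPow q₀ f) (r : ℕ) [Fact r.Prime] (hr2 : r ≠ 2) (hd : r ∣ q₀ - 1)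
    (hrn : r ∣ n) (hex : ¬ (r = n ∧ (n = 3 ∨ n = 5))) (hgap : ¬ (n = 6 ∧ r = 3)) :
    SfuDerang f r := by
  have hd' : r ∣ Fintype.card F - 1 := by
    rw [hcard]
    have hq1 : 1 ≤ q₀ := by
      by_contra h
      have h0 : q₀ = 0 := by omega
      rw [h0] at hcard
      have := Fintype.card_pos (α := F)
      simp at hcard
    have e : q₀ ^ 2 - 1 = (q₀ - 1) * (q₀ + 1) := by
      obtain ⟨k, rfl⟩ : ∃ k, q₀ = k + 1 := ⟨q₀ - 1, by omega⟩
      simp only [Nat.add_sub_cancel]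
      have : (k + 1) ^ 2 = k * (k + 1 + 1) + 1 := by ring
      rw [this, Nat.add_sub_cancel]
    rw [e]
    exact Dvd.dvd.mul_right hd _
  exact helper84_sfu_nec_sym_core f hn0 r hr2 hd' hrn hex hgap
    (fun ζ hζ a w hw h => sfu_diag_crit q₀ hcard f hf r hd ζ hζ a w hw h)

end Cfsg.Agent.Lib.helper24
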