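import Mathlib
import Cfsg.Agent.Lib.helper44.SL3Defs
import Cfsg.Agent.Lib.helper84.SL3C2

/-!
# S2287, piece C4a: over the field with four elements the commutators `[x a, y b]` are central
-/

set_option autoImplicit false

namespace Cfsg.Agent.Lib.helper44.SL3

/-- An involution `s` inverts the commutator `[s, t]`. -/
theorem helper84_cm_inv_left {G : Type*} [Group G] (s t : G) (hs : s * s = 1) :
    s * cm s t * s⁻¹ = (cm s t)⁻¹ := by
  have hs2 : s⁻¹ * s⁻¹ = 1 := by
    rw [← mul_inv_rev, hs, inv_one]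
  calc s * cm s t * s⁻¹ = (s * s) * t * s⁻¹ * t⁻¹ * s⁻¹ := by unfold cm; group
    _ = t * s⁻¹ * t⁻¹ * s⁻¹ := by rw [hs, one_mul]
    _ = t * (s⁻¹ * s⁻¹) * s * t⁻¹ * s⁻¹ := by group
    _ = t * s * t⁻¹ * s⁻¹ := by rw [hs2, mul_one]
    _ = (cm s t)⁻¹ := by unfold cm; group

/-- An involution `t` inverts the commutator `[s, t]`. -/
theorem helper84_cm_inv_right {G : Type*} [Group G] (s t : G) (ht : t * t = 1) :
    t * cm s t * t⁻¹ = (cm s t)⁻¹ := by
  have ht2 : t⁻¹ * t⁻¹ = 1 := by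
    rw [← mul_inv_rev, ht, inv_one]
  calc t * cm s t * t⁻¹ = t * s * t * s⁻¹ * (t⁻¹ * t⁻¹) := by unfold cm; group
    _ = t * s * (t⁻¹ * t⁻¹) * t * s⁻¹ := by rw [ht2, mul_one, mul_one]
    _ = (cm s t)⁻¹ := by unfold cm; group

theorem helper84_comm_of_inv {G : Type*} [Group G] (s z : G) (h1 : s * z * s⁻¹ = z⁻¹)
    (h2 : z * z = 1) : Commute s z := by
  have hz : z⁻¹ = z := inv_eq_of_mul_eq_one_left h2
  rw [hz] at h1
  exact mul_inv_eq_iff_eq_mul.mp h1

theorem helper84_commute_conj {G : Type*} [Group G] (h a b : G) (hab : Commute a b) :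
    Commute (h * a * h⁻¹) (h * b * h⁻¹) := by
  have e : a * b = b * a := hab.eq
  show h * a * h⁻¹ * (h * b * h⁻¹) = h * b * h⁻¹ * (h * a * h⁻¹)
  calc h * a * h⁻¹ * (h * b * h⁻¹) = h * (a * b) * h⁻¹ := by group
    _ = h * (b * a) * h⁻¹ := by rw [e]
    _ = h * b * h⁻¹ * (h * a * h⁻¹) := by group

/-- The elements of the field with four elements. -/
theorem helper84_f4_cases {F : Type*} [Field F] [Fintype F] [CharP F 2]
    (hcard : Fintype.card F = 4) (ω : F) (hω : ω ^ 2 = ω + 1) :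
    ∀ a : F, a = 0 ∨ a = 1 ∨ a = ω ∨ a = ω + 1 := by
  classical
  have h11 : (1 : F) + 1 = 0 := CharTwo.add_self_eq_zero 1
  have hω0 : ω ≠ 0 := by
    rintro rfl
    simp at hω
  have hω1 : ω ≠ 1 := by
    rintro rfl
    rw [one_pow, h11] at hω
    exact one_ne_zero hω
  have hω10 : ω + 1 ≠ 0 := by
    intro h
    apply hω1
    have h' := congrArg (· + 1) h
    simp only [add_assoc, h11, add_zero, zero_add] at h'
    exact h'
  have hω11 : ω + 1 ≠ 1 := by
    intro h
    exact hω0 (by simpa using h)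
  have hω1ω : ω + 1 ≠ ω := by
    intro h
    simp at h
  have hS : ({0, 1, ω, ω + 1} : Finset F).card = 4 := by
    rw [Finset.card_insert_of_notMem, Finset.card_insert_of_notMem,
      Finset.card_insert_of_notMem, Finset.card_singleton]
    · simp only [Finset.mem_singleton]
      exact fun h => hω1ω h.symm
    · simp only [Finset.mem_insert, Finset.mem_singleton, not_or]
      exact ⟨fun h => hω1 h.symm, fun h => hω11 h.symm⟩
    · simp only [Finset.mem_insert, Finset.mem_singleton, not_or]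
      exact ⟨zero_ne_one, fun h => hω0 h.symm, fun h => hω10 h.symm⟩
  have hSu : ({0, 1, ω, ω + 1} : Finset F) = Finset.univ :=
    Finset.eq_univ_of_card _ (by rw [hS, hcard])
  intro a
  have ha : a ∈ ({0, 1, ω, ω + 1} : Finset F) := by rw [hSu]; exact Finset.mem_univ a
  simpa using ha

/-- `w` commutes with all `x a'` and `y a'`. -/
def helper84_Cen {G : Type*} [Group G] {F : Type*} (x y : F → G) (w : G) : Prop :=
  ∀ a', Commute (x a') w ∧ Commute (y a') w

-- C4a
theorem core4_central {G : Type*} [Group G] {F : Type*} [Field F] [Fintype F] [CharP F 2]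
    (hcard : Fintype.card F = 4) (x y : F → G) (h : G) (ω : F) (hω : ω ^ 2 = ω + 1)
    (x_add : ∀ a b, x (a + b) = x a * x b) (y_add : ∀ a b, y (a + b) = y a * y b)
    (h_x : ∀ a, h * x a * h⁻¹ = x (ω * a)) (h_y : ∀ a, h * y a * h⁻¹ = y (ω * a))
    (qa : cm (x ω) (y 1) = cm (x 1) (y ω)) (qb : cm (x ω) (y 1) * cm (x ω) (y 1) = 1) :
    ∀ a b a', Commute (x a') (cm (x a) (y b)) ∧ Commute (y a') (cm (x a) (y b)) := by
  have x0 := helper84_map_zero x x_add
  have y0 := helper84_map_zero y y_add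
  have haa : ∀ a : F, a + a = 0 := fun a => CharTwo.add_self_eq_zero a
  have xx : ∀ a, x a * x a = 1 := fun a => by rw [← x_add, haa, x0]
  have yy : ∀ a, y a * y a = 1 := fun a => by rw [← y_add, haa, y0]
  have hcases := helper84_f4_cases hcard ω hω
  have hω0 : ω ≠ 0 := by
    rintro rfl
    simp at hω
  have hωω : ω * ω = ω + 1 := by rw [← sq]; exact hω
  have hωω1 : ω * (ω + 1) = 1 := by
    rw [mul_add, mul_one, hωω, add_comm (ω + 1) ω, ← add_assoc, haa, zero_add]
  have cen_one : helper84_Cen x y (1 : G) := fun a' => ⟨Commute.one_right _, Commute.one_right _⟩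
  have cen_of : ∀ w, Commute (x 1) w → Commute (x ω) w → Commute (y 1) w → Commute (y ω) w →
      helper84_Cen x y w := by
    intro w h1 h2 h3 h4 a'
    rcases hcases a' with ha | ha | ha | ha
    · rw [ha, x0, y0]; exact ⟨Commute.one_left w, Commute.one_left w⟩
    · rw [ha]; exact ⟨h1, h3⟩
    · rw [ha]; exact ⟨h2, h4⟩
    · rw [ha, x_add, y_add]; exact ⟨h2.mul_left h1, h4.mul_left h3⟩
  have cen_mul : ∀ w w', helper84_Cen x y w → helper84_Cen x y w' → helper84_Cen x y (w * w') :=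
    fun w w' hw hw' a' =>
      ⟨(hw a').1.mul_right (hw' a').1, (hw a').2.mul_right (hw' a').2⟩
  have cen_inv : ∀ w, helper84_Cen x y w → helper84_Cen x y w⁻¹ :=
    fun w hw a' => ⟨(hw a').1.inv_right, (hw a').2.inv_right⟩
  have cen_conj : ∀ w, helper84_Cen x y w → helper84_Cen x y (h * w * h⁻¹) := by
    intro w hw a'
    have hx : x a' = h * x (ω⁻¹ * a') * h⁻¹ := by
      rw [h_x, ← mul_assoc, mul_inv_cancel₀ hω0, one_mul]
    have hy : y a' = h * y (ω⁻¹ * a') * h⁻¹ := by
      rw [h_y, ← mul_assoc, mul_inv_cancel₀ hω0, one_mul]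
    constructor
    · rw [hx]; exact helper84_commute_conj h _ _ (hw _).1
    · rw [hy]; exact helper84_commute_conj h _ _ (hw _).2
  have hconj : ∀ a b, helper84_Cen x y (cm (x a) (y b)) →
      helper84_Cen x y (cm (x (ω * a)) (y (ω * b))) := by
    intro a b hw
    have h1 := cen_conj _ hw
    rw [helper84_cm_conj, h_x, h_y] at h1
    exact h1
  -- the six "mixed" commutators
  have c_ω_1 : helper84_Cen x y (cm (x ω) (y 1)) := by
    apply cen_of
    · rw [qa]
      exact helper84_comm_of_inv _ _ (helper84_cm_inv_left _ _ (xx 1)) (by rw [← qa]; exact qb)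
    · exact helper84_comm_of_inv _ _ (helper84_cm_inv_left _ _ (xx ω)) qb
    · exact helper84_comm_of_inv _ _ (helper84_cm_inv_right _ _ (yy 1)) qb
    · rw [qa]
      exact helper84_comm_of_inv _ _ (helper84_cm_inv_right _ _ (yy ω)) (by rw [← qa]; exact qb)
  have c_1_ω : helper84_Cen x y (cm (x 1) (y ω)) := by rw [← qa]; exact c_ω_1
  have c_ω2_ω : helper84_Cen x y (cm (x (ω + 1)) (y ω)) := by
    have h1 := hconj _ _ c_ω_1
    rw [hωω, mul_one] at h1
    exact h1
  have c_ω_ω2 : helper84_Cen x y (cm (x ω) (y (ω + 1))) := by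
    have h1 := hconj _ _ c_1_ω
    rw [hωω, mul_one] at h1
    exact h1
  have c_1_ω2 : helper84_Cen x y (cm (x 1) (y (ω + 1))) := by
    have h1 := hconj _ _ c_ω2_ω
    rw [hωω1, hωω] at h1
    exact h1
  have c_ω2_1 : helper84_Cen x y (cm (x (ω + 1)) (y 1)) := by
    have h1 := hconj _ _ c_ω_ω2
    rw [hωω1, hωω] at h1
    exact h1
  -- the diagonal ones
  have c_1_1 : helper84_Cen x y (cm (x 1) (y 1)) := by
    have e1 : cm (x (ω + 1)) (y 1) = x ω * cm (x 1) (y 1) * (x ω)⁻¹ * cm (x ω) (y 1) := by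
      rw [x_add, helper84_cm_mul_left]
    have hc : helper84_Cen x y (cm (x (ω + 1)) (y 1) * (cm (x ω) (y 1))⁻¹) :=
      cen_mul _ _ c_ω2_1 (cen_inv _ c_ω_1)
    have e2 : cm (x (ω + 1)) (y 1) * (cm (x ω) (y 1))⁻¹ = x ω * cm (x 1) (y 1) * (x ω)⁻¹ := by
      rw [e1]; group
    rw [e2] at hc
    have e3 : x ω * cm (x 1) (y 1) * (x ω)⁻¹ = cm (x 1) (y 1) := by
      have hcomm := (hc ω).1
      have h' : x ω * (x ω * cm (x 1) (y 1) * (x ω)⁻¹) = x ω * cm (x 1) (y 1) := by
        rw [hcomm.eq]; group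
      exact mul_left_cancel h'
    rw [e3] at hc
    exact hc
  have c_ω_ω : helper84_Cen x y (cm (x ω) (y ω)) := by
    have h1 := hconj _ _ c_1_1
    rw [mul_one] at h1
    exact h1
  have c_ω2_ω2 : helper84_Cen x y (cm (x (ω + 1)) (y (ω + 1))) := by
    have h1 := hconj _ _ c_ω_ω
    rw [hωω] at h1
    exact h1
  have c_0_b : ∀ b, helper84_Cen x y (cm (x 0) (y b)) := by
    intro b
    have e : cm (x 0) (y b) = 1 := by rw [x0]; unfold cm; group
    rw [e]; exact cen_one
  have c_a_0 : ∀ a, helper84_Cen x y (cm (x a) (y 0)) := by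
    intro a
    have e : cm (x a) (y 0) = 1 := by rw [y0]; unfold cm; group
    rw [e]; exact cen_one
  have key : ∀ a b, helper84_Cen x y (cm (x a) (y b)) := by
    intro a b
    rcases hcases a with ha | ha | ha | ha <;> rcases hcases b with hb | hb | hb | hb <;>
      rw [ha, hb] <;>
      first
        | exact c_0_b _ | exact c_a_0 _ | exact c_1_1 | exact c_1_ω | exact c_1_ω2
        | exact c_ω_1 | exact c_ω_ω | exact c_ω_ω2 | exact c_ω2_1 | exact c_ω2_ω
        | exact c_ω2_ω2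
  exact fun a b a' => key a b a'

end Cfsg.Agent.Lib.helper44.SL3
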