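import Mathlib
import Cfsg.Prelude.Def_GeometricClasses
import Cfsg.Agent.Lib.helper24.SfoDefs
import Cfsg.Agent.Lib.helper98.SfoOB
import Cfsg.Agent.Lib.helper53.SfoBINREP

/-!
# S5977U piece NFA: an orthogonal family with values `1, …, 1, c`
-/

set_option autoImplicit false

namespace Cfsg.Agent.Lib.helper2

open Cfsg.Geo Matrix Cfsg.Agent.Lib.helper24

/-- Normalisation of a pairwise orthogonal family of non-isotropic vectors, by induction on its
length. -/
theorem helper84_nfa_ind {E : Type*} [Field E] [Fintype E] {n : ℕ} (h2 : (2 : E) ≠ 0)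
    (Q : (Fin n → E) → E) (hQ : IsNondegenerateQuadraticForm Q) :
    ∀ (k : ℕ) (e : Fin (k + 1) → (Fin n → E)),
      (∀ i j, i ≠ j → QuadraticMap.polar Q (e i) (e j) = 0) → (∀ j, Q (e j) ≠ 0) →
      ∃ e' : Fin (k + 1) → (Fin n → E),
        (∀ i j, i ≠ j → QuadraticMap.polar Q (e' i) (e' j) = 0) ∧
        (∀ j, j ≠ Fin.last k → Q (e' j) = 1) ∧ Q (e' (Fin.last k)) ≠ 0 ∧
        (∀ w, (∀ j, QuadraticMap.polar Q w (e j) = 0) →
          ∀ j, QuadraticMap.polar Q w (e' j) = 0) := by
  have hb := hQ.polar_bilinear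
  have hpl : ∀ (a b : E) (x y v : Fin n → E), QuadraticMap.polar Q (a • x + b • y) v =
      a * QuadraticMap.polar Q x v + b * QuadraticMap.polar Q y v := by
    intro a b x y v
    rw [hb.add_left, hb.smul_left, hb.smul_left]
  have hpr : ∀ (a b : E) (v x y : Fin n → E), QuadraticMap.polar Q v (a • x + b • y) =
      a * QuadraticMap.polar Q v x + b * QuadraticMap.polar Q v y := by
    intro a b v x y
    rw [hb.add_right, hb.smul_right, hb.smul_right]
  have hQl : ∀ (a b : E) (x y : Fin n → E), Q (a • x + b • y) =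
      a ^ 2 * Q x + b ^ 2 * Q y + a * b * QuadraticMap.polar Q x y := by
    intro a b x y
    have h1 : Q (a • x + b • y) =
        Q (a • x) + Q (b • y) + QuadraticMap.polar Q (a • x) (b • y) := by
      unfold QuadraticMap.polar; ring
    rw [h1, hQ.smul, hQ.smul, hb.smul_left, hb.smul_right]; ring
  have hself : ∀ v : Fin n → E, QuadraticMap.polar Q v v = 2 * Q v := by
    intro v
    have h1 : QuadraticMap.polar Q v v = Q (v + v) - Q v - Q v := rfl
    rw [h1, ← two_smul E v, hQ.smul]; ring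
  have hcomm : ∀ u v : Fin n → E, QuadraticMap.polar Q u v = QuadraticMap.polar Q v u :=
    fun u v => QuadraticMap.polar_comm Q u v
  intro k
  induction k with
  | zero =>
    intro e horth hne
    refine ⟨e, horth, ?_, hne _, fun w hw => hw⟩
    intro j hj
    exact absurd (Fin.ext (by rw [Fin.val_last]; omega)) hj
  | succ k ih =>
    intro e horth hne
    obtain ⟨x, y, hxy⟩ := sfo_bin_rep h2 (Q (e 0)) (Q (e 1)) 1 (hne 0) (hne 1)
    have hne0 : ∀ j : Fin k, (0 : Fin (k + 2)) ≠ j.succ.succ := fun j => (Fin.succ_ne_zero _).symm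
    have hne1 : ∀ j : Fin k, (1 : Fin (k + 2)) ≠ j.succ.succ := by
      intro j h
      have h' := congrArg Fin.val h
      simp at h'
    have h01 : QuadraticMap.polar Q (e 0) (e 1) = 0 := horth 0 1 (by
      intro h
      have h' := congrArg Fin.val h
      simp at h')
    have h10 : QuadraticMap.polar Q (e 1) (e 0) = 0 := by rw [hcomm]; exact h01
    obtain ⟨u, hu⟩ : ∃ u : Fin n → E, u = x • e 0 + y • e 1 := ⟨_, rfl⟩
    obtain ⟨u', hu'⟩ : ∃ u' : Fin n → E, u' = (Q (e 1) * y) • e 0 + (-(Q (e 0) * x)) • e 1 :=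
      ⟨_, rfl⟩
    have hQu : Q u = 1 := by
      rw [hu, hQl, h01]; linear_combination hxy
    have hQu' : Q u' = Q (e 0) * Q (e 1) := by
      rw [hu', hQl, h01]; linear_combination (Q (e 0) * Q (e 1)) * hxy
    have huu' : QuadraticMap.polar Q u u' = 0 := by
      rw [hu, hu', hpl, hpr, hpr, hself, hself, h01, h10]; ring
    obtain ⟨f, hf⟩ : ∃ f : Fin (k + 1) → (Fin n → E),
        f = Fin.cons u' (fun j : Fin k => e j.succ.succ) := ⟨_, rfl⟩
    have hf0 : f 0 = u' := by rw [hf, Fin.cons_zero]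
    have hfs : ∀ j : Fin k, f j.succ = e j.succ.succ := fun j => by rw [hf, Fin.cons_succ]
    have hu'e : ∀ j : Fin k, QuadraticMap.polar Q u' (e j.succ.succ) = 0 := by
      intro j
      rw [hu', hpl, horth 0 _ (hne0 j), horth 1 _ (hne1 j)]; ring
    have hf_orth : ∀ i j, i ≠ j → QuadraticMap.polar Q (f i) (f j) = 0 := by
      intro i j
      refine Fin.cases ?_ (fun i' => ?_) i
      · refine Fin.cases ?_ (fun j' => ?_) j
        · intro h; exact absurd rfl h
        · intro _; rw [hf0, hfs]; exact hu'e j'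
      · refine Fin.cases ?_ (fun j' => ?_) j
        · intro _; rw [hf0, hfs, hcomm]; exact hu'e i'
        · intro h; rw [hfs, hfs]
          exact horth _ _ (fun h' => h (by rw [Fin.succ_inj.mp (Fin.succ_inj.mp h')]))
    have hf_ne : ∀ j, Q (f j) ≠ 0 := by
      intro j
      refine Fin.cases ?_ (fun j' => ?_) j
      · rw [hf0, hQu']; exact mul_ne_zero (hne 0) (hne 1)
      · rw [hfs]; exact hne _
    obtain ⟨e'', ho, h1, hl, hw⟩ := ih f hf_orth hf_ne
    have hu_f : ∀ j, QuadraticMap.polar Q u (f j) = 0 := by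
      intro j
      refine Fin.cases ?_ (fun j' => ?_) j
      · rw [hf0]; exact huu'
      · rw [hfs, hu, hpl, horth 0 _ (hne0 j'), horth 1 _ (hne1 j')]; ring
    have hu_e'' := hw u hu_f
    refine ⟨Fin.cons u e'', ?_, ?_, ?_, ?_⟩
    · intro i j
      refine Fin.cases ?_ (fun i' => ?_) i
      · refine Fin.cases ?_ (fun j' => ?_) j
        · intro h; exact absurd rfl h
        · intro _; rw [Fin.cons_zero, Fin.cons_succ]; exact hu_e'' j'
      · refine Fin.cases ?_ (fun j' => ?_) j
        · intro _; rw [Fin.cons_zero, Fin.cons_succ, hcomm]; exact hu_e'' i'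
        · intro h; rw [Fin.cons_succ, Fin.cons_succ]
          exact ho _ _ (fun h' => h (by rw [h']))
    · intro j
      refine Fin.cases ?_ (fun j' => ?_) j
      · intro _; rw [Fin.cons_zero]; exact hQu
      · intro hj; rw [Fin.cons_succ]
        exact h1 j' (fun h' => hj (by rw [h', Fin.succ_last]))
    · rw [← Fin.succ_last, Fin.cons_succ]; exact hl
    · intro w hwe j
      have hwf : ∀ j, QuadraticMap.polar Q w (f j) = 0 := by
        intro j
        refine Fin.cases ?_ (fun j' => ?_) j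
        · rw [hf0, hu', hpr, hwe 0, hwe 1]; ring
        · rw [hfs]; exact hwe _
      refine Fin.cases ?_ (fun j' => ?_) j
      · rw [Fin.cons_zero, hu, hpr, hwe 0, hwe 1]; ring
      · rw [Fin.cons_succ]; exact hw w hwf j'

/-- NFA -/
theorem qfu_normal_family {E : Type*} [Field E] [Fintype E] {m : ℕ} (h2 : (2 : E) ≠ 0)
    (Q : (Fin (m + 1) → E) → E) (hQ : IsNondegenerateQuadraticForm Q) :
    ∃ e : Fin (m + 1) → (Fin (m + 1) → E),
      (∀ i j, i ≠ j → QuadraticMap.polar Q (e i) (e j) = 0) ∧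
      (∀ j, j ≠ Fin.last m → Q (e j) = 1) ∧ Q (e (Fin.last m)) ≠ 0 := by
  obtain ⟨e, -, horth, hne⟩ := sfo_orth_basis h2 Q hQ
  obtain ⟨e', ho, h1, hl, -⟩ := helper84_nfa_ind h2 Q hQ m e horth hne
  exact ⟨e', ho, h1, hl⟩

end Cfsg.Agent.Lib.helper2
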