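import Mathlib
import Cfsg.Agent.Lib.helper84.CentralDefect
import Cfsg.Agent.Lib.helper84.MinMax
import Cfsg.Agent.Lib.helper4.DefectZero
import Cfsg.Agent.Lib.helper78.KLCount
import Cfsg.Agent.Lib.helper1.Coprime

/-!
# Characters of central defect (helper84)

Let `D` be a central `p`-subgroup of `G` and `χ` an irreducible character whose degree has the
same `p`-part as the index of `D`.  Then `χ` vanishes at every element whose `p`-part is outside
`D` (`irr_eq_zero_of_pPart_not_mem_central`), and `D` is a defect group of the block of `χ`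
(`isDefectGroup_of_central`).
-/

set_option autoImplicit false
set_option linter.style.haveILetI false

namespace Cfsg.Agent.Lib.helper84

open Cfsg Cfsg.Agent.Lib.helper20 Cfsg.Agent.Lib.helper80 Cfsg.Agent.Lib.helper81
open scoped ComplexConjugate

universe u

section CentralVanish

variable {G : Type u} [Group G]

/-- The `p`-part of `g` lies in `D`. -/
def PPartMem (p : ℕ) (D : Subgroup G) (g : G) : Prop := ∃ x ∈ D, IsPPart p g x

theorem pPartMem_one (p : ℕ) [Fact p.Prime] (D : Subgroup G) : PPartMem p D (1 : G) := by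
  have hp := (Fact.out : p.Prime)
  refine ⟨1, D.one_mem, 1, one_mul 1, Commute.one_left 1, ⟨0, by simp⟩, ?_⟩
  rw [orderOf_one]
  exact fun h => hp.one_lt.ne' (Nat.dvd_one.mp h)

theorem pPartMem_conj {p : ℕ} {D : Subgroup G} (hDZ : D ≤ Subgroup.center G) (g h : G)
    (hg : PPartMem p D g) : PPartMem p D (h * g * h⁻¹) := by
  obtain ⟨x, hxD, y, hxy, hc, hox, hoy⟩ := hg
  have hxc := Subgroup.mem_center_iff.mp (hDZ hxD)
  refine ⟨x, hxD, h * y * h⁻¹, ?_, ?_, hox, ?_⟩
  · rw [← hxy]
    have h1 := hxc h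
    have h2 : x * (h * y * h⁻¹) = (h * x) * y * h⁻¹ := by rw [h1]; group
    rw [h2]; group
  · exact (hxc (h * y * h⁻¹)).symm
  · have h1 : orderOf (h * y * h⁻¹) = orderOf y := by
      have := orderOf_injective (MulAut.conj h).toMonoidHom (MulAut.conj h).injective y
      simpa using this
    rw [h1]; exact hoy

theorem pPartMem_conj_iff {p : ℕ} {D : Subgroup G} (hDZ : D ≤ Subgroup.center G) (g h : G) :
    PPartMem p D (h * g * h⁻¹) ↔ PPartMem p D g := by
  constructor
  · intro hg
    have h1 := pPartMem_conj hDZ (h * g * h⁻¹) h⁻¹ hg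
    have h2 : h⁻¹ * (h * g * h⁻¹) * h⁻¹⁻¹ = g := by group
    rwa [h2] at h1
  · exact pPartMem_conj hDZ g h

theorem pPartMem_mul {p : ℕ} [Fact p.Prime] {D : Subgroup G} (hD : IsPGroup p D) (hDZ : D ≤ Subgroup.center G)
    {u y : G} (hu : u ∈ D) (hy : ¬ p ∣ orderOf y) : PPartMem p D (u * y) := by
  have huc := Subgroup.mem_center_iff.mp (hDZ hu)
  exact ⟨u, hu, isPPart_mul (huc y).symm (exists_orderOf_eq_pow_of_mem hD hu) hy⟩

theorem not_pPartMem {p : ℕ} (hp : p.Prime) {D : Subgroup G} {g x : G} (hx : IsPPart p g x)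
    (hxD : x ∉ D) : ¬ PPartMem p D g := by
  rintro ⟨x', hx'D, hx'⟩
  exact hxD (isPPart_unique hp hx' hx ▸ hx'D)

/-- The linear character of a central subgroup under an irreducible character. -/
theorem irr_center_mul [Fintype G] (χ : IrrCharacter G) {z : G} (hz : z ∈ Subgroup.center G)
    (g : G) : (χ : G → ℂ) (z * g) = (χ : G → ℂ) z / (χ : G → ℂ) 1 * (χ : G → ℂ) g :=
  Cfsg.Agent.Lib.helper78.irr_central_mul χ z (fun h => Subgroup.mem_center_iff.mp hz h) g

theorem irr_center_conj_mul [Fintype G] (χ : IrrCharacter G) {z : G}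
    (hz : z ∈ Subgroup.center G) :
    conj ((χ : G → ℂ) z / (χ : G → ℂ) 1) * ((χ : G → ℂ) z / (χ : G → ℂ) 1) = 1 := by
  have h1 := irr_one_ne_zero χ
  have hc1 : conj ((χ : G → ℂ) 1) = (χ : G → ℂ) 1 := by rw [irr_one_eq_charDegree]; simp
  rw [map_div₀, hc1, ← irr_inv]
  have h2 := irr_center_mul χ (Subgroup.inv_mem _ hz) z
  rw [inv_mul_cancel] at h2
  field_simp
  field_simp at h2
  linear_combination -h2

/-- Orthogonality of the central linear characters under two irreducible characters. -/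
theorem sum_center_lin_mul [Fintype G] (D : Subgroup G) [Fintype D]
    (hDZ : D ≤ Subgroup.center G) (χ χ' : IrrCharacter G) :
    (∑ u : D, conj ((χ : G → ℂ) u / (χ : G → ℂ) 1) * ((χ' : G → ℂ) u / (χ' : G → ℂ) 1) = 0) ∨
    (∑ u : D, conj ((χ : G → ℂ) u / (χ : G → ℂ) 1) * ((χ' : G → ℂ) u / (χ' : G → ℂ) 1)
      = (Nat.card D : ℂ)) := by
  classical
  have hmul : ∀ (ψ : IrrCharacter G) (u v : D), (ψ : G → ℂ) ((u : G) * v) / (ψ : G → ℂ) 1
      = ((ψ : G → ℂ) u / (ψ : G → ℂ) 1) * ((ψ : G → ℂ) v / (ψ : G → ℂ) 1) := by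
    intro ψ u v
    rw [irr_center_mul ψ (hDZ u.2)]
    ring
  by_cases hall : ∀ u : D, (χ : G → ℂ) u / (χ : G → ℂ) 1 = (χ' : G → ℂ) u / (χ' : G → ℂ) 1
  · right
    rw [Finset.sum_congr rfl (fun u _ => by rw [← hall u, irr_center_conj_mul χ (hDZ u.2)])]
    simp [Nat.card_eq_fintype_card]
  · left
    obtain ⟨w, hw⟩ := not_forall.mp hall
    obtain ⟨S, hS⟩ : ∃ S : ℂ, S = ∑ u : D, conj ((χ : G → ℂ) u / (χ : G → ℂ) 1)
        * ((χ' : G → ℂ) u / (χ' : G → ℂ) 1) := ⟨_, rfl⟩
    obtain ⟨c, hc⟩ : ∃ c : ℂ, c = conj ((χ : G → ℂ) w / (χ : G → ℂ) 1)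
        * ((χ' : G → ℂ) w / (χ' : G → ℂ) 1) := ⟨_, rfl⟩
    have h1 : c * S = S := by
      rw [hS, Finset.mul_sum]
      refine Fintype.sum_equiv (Equiv.mulLeft w) _ _ (fun u => ?_)
      simp only [Equiv.coe_mulLeft, Subgroup.coe_mul]
      rw [hmul χ w u, hmul χ' w u, map_mul, hc]
      ring
    have hc1 : c ≠ 1 := by
      intro h
      apply hw
      have h2 := irr_center_conj_mul χ (hDZ w.2)
      rw [hc] at h
      linear_combination ((χ' : G → ℂ) w / (χ' : G → ℂ) 1) * h2
        - ((χ : G → ℂ) w / (χ : G → ℂ) 1) * h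
    rw [← hS]
    have h3 : (c - 1) * S = 0 := by linear_combination h1
    rcases mul_eq_zero.mp h3 with h | h
    · exact absurd (sub_eq_zero.mp h) hc1
    · exact h

/-- The isotypic part of a character for the central linear character under `χ` has
algebraic-integer values. -/
theorem isIntegral_center_proj_list [Fintype G] (D : Subgroup G) [Fintype D]
    (hDZ : D ≤ Subgroup.center G) (χ : IrrCharacter G) (y : G) (l : List (IrrCharacter G)) :
    IsIntegral ℤ ((Nat.card D : ℂ)⁻¹ * ∑ u : D, conj ((χ : G → ℂ) u / (χ : G → ℂ) 1)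
      * (l.map Subtype.val).sum ((u : G) * y)) := by
  have hD0 : (Nat.card D : ℂ) ≠ 0 := by exact_mod_cast Nat.card_pos.ne'
  induction l with
  | nil => simp; exact isIntegral_zero
  | cons ψ l ih =>
    simp only [List.map_cons, List.sum_cons, Pi.add_apply, mul_add, Finset.sum_add_distrib]
    refine IsIntegral.add ?_ ih
    have h1 : ∑ u : D, conj ((χ : G → ℂ) u / (χ : G → ℂ) 1) * (ψ : G → ℂ) ((u : G) * y)
        = (∑ u : D, conj ((χ : G → ℂ) u / (χ : G → ℂ) 1)
            * ((ψ : G → ℂ) u / (ψ : G → ℂ) 1)) * (ψ : G → ℂ) y := by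
      rw [Finset.sum_mul]
      refine Finset.sum_congr rfl (fun u _ => ?_)
      rw [irr_center_mul ψ (hDZ u.2)]
      ring
    rw [h1]
    rcases sum_center_lin_mul D hDZ χ ψ with h | h
    · rw [h]; simp; exact isIntegral_zero
    · rw [h, ← mul_assoc, inv_mul_cancel₀ hD0, one_mul]
      exact irr_isIntegral ψ y

theorem isIntegral_center_proj [Fintype G] (D : Subgroup G) [Fintype D]
    (hDZ : D ≤ Subgroup.center G) (χ : IrrCharacter G) {Φ : G → ℂ} (hΦ : IsCharacter G Φ)
    (y : G) :
    IsIntegral ℤ ((Nat.card D : ℂ)⁻¹ * ∑ u : D, conj ((χ : G → ℂ) u / (χ : G → ℂ) 1)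
      * Φ ((u : G) * y)) := by
  obtain ⟨l, rfl⟩ := Cfsg.Agent.Lib.helper4.exists_irr_list_of_isCharacter hΦ
  exact isIntegral_center_proj_list D hDZ χ y l

open Classical in
/-- The sum over the `D`-section against a function, via the `p`-regular elements. -/
theorem sum_section_mul_conj [Fintype G] {p : ℕ} [Fact p.Prime] (D : Subgroup G) [Fintype D]
    (hD : IsPGroup p D) (hDZ : D ≤ Subgroup.center G) (χ : IrrCharacter G) (Φ : G → ℂ) :
    ∑ g : G, (if PPartMem p D g then (χ : G → ℂ) g else 0) * conj (Φ g)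
      = (Nat.card D : ℂ) * ∑ y : G, (if ¬ p ∣ orderOf y then
          conj ((Nat.card D : ℂ)⁻¹ * ∑ u : D, conj ((χ : G → ℂ) u / (χ : G → ℂ) 1)
            * Φ ((u : G) * y))
          else 0) * (χ : G → ℂ) y := by
  classical
  have hp := (Fact.out : p.Prime)
  have hD0 : (Nat.card D : ℂ) ≠ 0 := by exact_mod_cast Nat.card_pos.ne'
  have hG : D ⊔ Subgroup.centralizer (D : Set G) = ⊤ := by
    rw [eq_top_iff]
    refine le_trans ?_ le_sup_right
    intro g _
    rw [Subgroup.mem_centralizer_iff]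
    intro h hh
    exact (Subgroup.mem_center_iff.mp (hDZ hh) g).symm
  have h1 := sum_eq_sum_prod_pRegular hD hG
    (fun g => (if PPartMem p D g then (χ : G → ℂ) g else 0) * conj (Φ g))
    (fun g x hx hxD => by
      show (if PPartMem p D g then (χ : G → ℂ) g else 0) * conj (Φ g) = 0
      rw [if_neg (not_pPartMem hp hx hxD), zero_mul])
  beta_reduce at h1
  rw [h1, Finset.sum_comm, Finset.mul_sum]
  refine Finset.sum_congr rfl (fun y _ => ?_)
  by_cases hy : p ∣ orderOf y
  · simp [hy]
  · simp only [hy, not_false_eq_true, if_true]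
    rw [map_mul, map_inv₀, Complex.conj_natCast, map_sum, ← mul_assoc, ← mul_assoc,
      mul_inv_cancel₀ hD0, one_mul, Finset.sum_mul]
    refine Finset.sum_congr rfl (fun u _ => ?_)
    rw [if_pos (pPartMem_mul hD hDZ u.2 hy), irr_center_mul χ (hDZ u.2), map_mul,
      Complex.conj_conj]
    ring

/-- **Vanishing for central defect.**  If `D` is a central `p`-subgroup and the degree of `χ`
has the same `p`-part as the index of `D`, then `χ` vanishes at every element whose `p`-part is
not in `D`. -/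
theorem irr_eq_zero_of_pPart_not_mem_central [Finite G] (p : ℕ) [Fact p.Prime]
    (D : Subgroup G) (hD : IsPGroup p D) (hDZ : D ≤ Subgroup.center G) (χ : IrrCharacter G)
    (hdeg : (charDegree (χ : G → ℂ)).factorization p = D.index.factorization p)
    (g x : G) (hx : IsPPart p g x) (hxD : x ∉ D) : (χ : G → ℂ) g = 0 := by
  classical
  have := Fintype.ofFinite G
  have hp := (Fact.out : p.Prime)
  obtain ⟨n, ρ, hρ, hχ⟩ := χ.2
  haveI := hρ
  obtain ⟨d, hd⟩ : ∃ d : ℕ, d = charDegree (χ : G → ℂ) := ⟨_, rfl⟩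
  have hdpos : 0 < d := hd ▸ irr_charDegree_pos χ
  have hχ1 : (χ : G → ℂ) 1 = d := by rw [hd]; exact irr_one_eq_charDegree χ
  have hfin : Module.finrank ℂ (Fin n → ℂ) = d := by
    have h1 : ((Module.finrank ℂ (Fin n → ℂ) : ℕ) : ℂ) = (d : ℂ) := by
      rw [← hχ1, ← hχ, Representation.char_one]
    exact_mod_cast h1
  obtain ⟨m, hm⟩ : d ∣ Nat.card G := hd ▸ irr_degree_dvd_card χ
  obtain ⟨δ, hδ⟩ := hD.exists_card_eq
  have hm0' : m ≠ 0 := by
    rintro rfl
    rw [mul_zero] at hm
    exact Nat.card_pos.ne' hm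
  have hmfac : m.factorization p = δ := by
    have h1 : (Nat.card G).factorization p = d.factorization p + m.factorization p := by
      rw [hm, Nat.factorization_mul hdpos.ne' hm0']
      rfl
    have h2 : (Nat.card G).factorization p = D.index.factorization p + δ := by
      rw [← D.index_mul_card, Nat.factorization_mul D.index_ne_zero_of_finite
        Nat.card_pos.ne', hδ, Nat.factorization_pow, hp.factorization]
      simp
    rw [← hd] at hdeg
    omega
  obtain ⟨m', hm'⟩ : ∃ m' : ℕ, m' = m / p ^ δ := ⟨_, rfl⟩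
  have hmm' : m = p ^ δ * m' := by
    rw [hm', ← hmfac]
    exact (Nat.ordProj_mul_ordCompl_eq_self m p).symm
  have hpm' : ¬ p ∣ m' := by
    rw [hm', ← hmfac]
    exact Nat.not_dvd_ordCompl hp hm0'
  have hd0 : (d : ℂ) ≠ 0 := by exact_mod_cast hdpos.ne'
  have hm'0 : (m' : ℂ) ≠ 0 := by
    intro h0
    have h1 : m' = 0 := by exact_mod_cast h0
    rw [h1] at hpm'
    exact hpm' (dvd_zero p)
  have hD0 : (Nat.card D : ℂ) ≠ 0 := by exact_mod_cast Nat.card_pos.ne'
  have hG' : (Nat.card G : ℂ) = (d : ℂ) * ((Nat.card D : ℂ) * (m' : ℂ)) := by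
    rw [hm, hmm', hδ]
    push_cast
    ring
  have hχirr : IsIrrCharacter G (χ : G → ℂ) := χ.2
  have hχcf := irr_classFun χ
  have hord : ∀ g h : G, orderOf (h * g * h⁻¹) = orderOf g := by
    intro g h
    have h1 := MulEquiv.orderOf_eq (MulAut.conj h) g
    rwa [MulAut.conj_apply] at h1
  obtain ⟨θ, hθ⟩ : ∃ θ : G → ℂ,
      θ = fun g => if PPartMem p D g then (χ : G → ℂ) g else 0 := ⟨_, rfl⟩
  have hθapp : ∀ g, θ g = if PPartMem p D g then (χ : G → ℂ) g else 0 := fun g => by rw [hθ]
  have hθcf : IsClassFunction G θ := by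
    intro g h
    rw [hθapp, hθapp, hχcf g h]
    by_cases hg : PPartMem p D g
    · rw [if_pos hg, if_pos ((pPartMem_conj_iff hDZ g h).mpr hg)]
    · rw [if_neg hg, if_neg (fun h' => hg ((pPartMem_conj_iff hDZ g h).mp h'))]
  have hθgen : IsGeneralizedCharacter G θ := by
    apply Cfsg.Agent.Lib.helper4.brauer_characterization θ hθcf
    intro E q hq hE
    have : Fact q.Prime := ⟨hq⟩
    have := Fintype.ofFinite E
    have := Fintype.ofFinite (IrrCharacter E)
    obtain ⟨Q, hQn, hQcop, j, hQj⟩ :=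
      Cfsg.Agent.Lib.helper4.exists_normal_pcomplement_of_isElementary (p := p) hE
    have hDEn : (D.subgroupOf E).Normal := ⟨by
      intro z hz e
      have hzc := Subgroup.mem_center_iff.mp (hDZ (Subgroup.mem_subgroupOf.mp hz))
      have h1 : e * z * e⁻¹ = z := by
        apply Subtype.ext
        simp only [Subgroup.coe_mul, InvMemClass.coe_inv]
        rw [hzc (e : G), mul_inv_cancel_right]
      rw [h1]
      exact hz⟩
    obtain ⟨Q', hQ'⟩ : ∃ Q' : Subgroup E, Q' = Q ⊔ D.subgroupOf E := ⟨_, rfl⟩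
    have hQ'n : Q'.Normal := by
      rw [hQ']
      infer_instance
    obtain ⟨j', hj'⟩ : ∃ j' : ℕ, Q'.index = p ^ j' := by
      have h1 : Q'.index ∣ Q.index := Subgroup.index_dvd_of_le (by rw [hQ']; exact le_sup_left)
      rw [hQj] at h1
      obtain ⟨j', -, h2⟩ := (Nat.dvd_prime_pow hp).mp h1
      exact ⟨j', h2⟩
    have hiff := fun y : E =>
      Cfsg.Agent.Lib.helper4.mem_iff_not_dvd_orderOf_of_normal_pcomplement Q hQcop j hQj y
    have hmemQ' : ∀ e : E, e ∈ Q' ↔ PPartMem p D (e : G) := by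
      intro e
      constructor
      · intro he
        rw [hQ'] at he
        have h1 : (e : E) ∈ ((Q ⊔ D.subgroupOf E : Subgroup E) : Set E) := he
        rw [Subgroup.mul_normal] at h1
        obtain ⟨q', hq', z, hz, rfl⟩ := Set.mem_mul.mp h1
        have hzD : (z : G) ∈ D := Subgroup.mem_subgroupOf.mp hz
        have hzc := Subgroup.mem_center_iff.mp (hDZ hzD)
        have h2 : ((q' * z : E) : G) = (z : G) * (q' : G) := by
          rw [Subgroup.coe_mul]
          exact hzc _
        rw [h2]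
        apply pPartMem_mul hD hDZ hzD
        rw [Subgroup.orderOf_coe]
        exact (hiff q').mp hq'
      · rintro ⟨x, hxD, hx⟩
        obtain ⟨a, ha⟩ := exists_isPPart_zpow hp (e : G)
        have hxe : x = (e : G) ^ a := isPPart_unique hp hx ha
        have hxE : x ∈ E := by
          rw [hxe]
          exact E.zpow_mem e.2 a
        obtain ⟨y, hxy, hc, hox, hoy⟩ := hx
        have hyE : y ∈ E := by
          have h3 : y = x⁻¹ * (e : G) := by rw [← hxy]; group
          rw [h3]
          exact E.mul_mem (E.inv_mem hxE) e.2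
        have he : e = (⟨x, hxE⟩ : E) * ⟨y, hyE⟩ := Subtype.ext hxy.symm
        rw [he, hQ']
        refine Subgroup.mul_mem _ (Subgroup.mem_sup_right ?_) (Subgroup.mem_sup_left ?_)
        · exact Subgroup.mem_subgroupOf.mpr hxD
        · rw [hiff, ← Subgroup.orderOf_coe]
          exact hoy
    apply Cfsg.Agent.Lib.helper4.isGeneralizedCharacter_of_int_classInner
      (Cfsg.Agent.Lib.helper4.isClassFunction_restrict E hθcf)
    intro ψ
    have hii : ((p ^ j' : ℕ) : ℂ) • (fun e : E => θ e) =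
        (fun e : E => (χ : G → ℂ) e) * Cfsg.indFun Q' (fun _ => 1) := by
      funext e
      rw [Pi.smul_apply, Pi.mul_apply, Cfsg.Agent.Lib.helper4.indFun_one_of_normal,
        smul_eq_mul, hθapp]
      by_cases he : e ∈ Q'
      · rw [if_pos he, if_pos ((hmemQ' e).mp he), hj', mul_comm]
      · rw [if_neg he, if_neg (fun h => he ((hmemQ' e).mpr h)), mul_zero, mul_zero]
    obtain ⟨N, hN⟩ := Cfsg.Agent.Lib.helper4.exists_nat_classInner_irr
      (Cfsg.Agent.Lib.helper4.isCharacter_mul
        (Cfsg.Agent.Lib.helper4.isCharacter_restrict E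
          (Cfsg.Agent.Lib.helper4.isCharacter_of_isIrrCharacter hχirr))
        (Cfsg.Agent.Lib.helper4.isCharacter_indFun Q' Cfsg.Agent.Lib.helper4.isCharacter_one))
      ψ.2
    rw [← hii, Cfsg.Agent.Lib.helper4.classInner_smul_left] at hN
    have hi : IsIntegral ℤ ((m' : ℂ) * classInner (fun e : E => θ e) (ψ : E → ℂ)) := by
      have hΦ : IsCharacter G (indFun E (ψ : E → ℂ)) :=
        Cfsg.Agent.Lib.helper4.isCharacter_indFun E
          (Cfsg.Agent.Lib.helper4.isCharacter_of_isIrrCharacter ψ.2)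
      have hΦcf := Cfsg.Agent.Lib.helper4.isClassFunction_of_isCharacter hΦ
      have h1 : classInner (fun e : E => θ e) (ψ : E → ℂ) =
          classInner θ (indFun E (ψ : E → ℂ)) := by
        rw [← Cfsg.Agent.Lib.helper4.classInner_conj_symm,
          ← Cfsg.Agent.Lib.helper4.frobenius_reciprocity E _ hθcf,
          Cfsg.Agent.Lib.helper4.classInner_conj_symm]
      rw [h1]
      obtain ⟨f, hf⟩ : ∃ f : G → ℂ, f = fun y => if ¬ p ∣ orderOf y then
          conj ((Nat.card D : ℂ)⁻¹ * ∑ u : D, conj ((χ : G → ℂ) u / (χ : G → ℂ) 1)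
            * indFun E (ψ : E → ℂ) ((u : G) * y)) else 0 := ⟨_, rfl⟩
      have h3 : ∑ g : G, θ g * conj (indFun E (ψ : E → ℂ) g)
          = (Nat.card D : ℂ) * ∑ y : G, f y * (χ : G → ℂ) y := by
        rw [hθ, hf]
        exact sum_section_mul_conj D hD hDZ χ (indFun E (ψ : E → ℂ))
      have h2 : (m' : ℂ) * classInner θ (indFun E (ψ : E → ℂ)) =
          (∑ g, f g * ρ.character g) / (Module.finrank ℂ (Fin n → ℂ) : ℂ) := by
        unfold classInner
        rw [h3, hG', hfin, hχ]
        field_simp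
      rw [h2]
      apply Cfsg.Agent.Lib.helper4.isIntegral_sum_mul_char_div ρ
      · intro g h
        rw [hf]
        simp only
        rw [hord]
        have h4 : ∀ u : D, indFun E (ψ : E → ℂ) ((u : G) * (h * g * h⁻¹))
            = indFun E (ψ : E → ℂ) ((u : G) * g) := by
          intro u
          have huc := Subgroup.mem_center_iff.mp (hDZ u.2)
          have h5 : (u : G) * (h * g * h⁻¹) = h * ((u : G) * g) * h⁻¹ := by
            rw [← mul_assoc h, huc h]
            group
          rw [h5, hΦcf]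
        rw [Finset.sum_congr rfl (fun u _ => by rw [h4 u])]
      · intro g
        rw [hf]
        simp only
        by_cases hg : p ∣ orderOf g
        · rw [if_neg (not_not.mpr hg)]
          exact isIntegral_zero
        · rw [if_pos hg]
          exact map_isIntegral_int (starRingEnd ℂ) (isIntegral_center_proj D hDZ χ hΦ g)
    have hcop : Nat.Coprime (p ^ j') m' :=
      Nat.Coprime.pow_left j' ((Nat.Prime.coprime_iff_not_dvd hp).mpr hpm')
    obtain ⟨u, v, huv⟩ : ∃ u v : ℤ, ((p ^ j' : ℕ) : ℤ) * u + (m' : ℤ) * v = 1 := by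
      have h3 := Int.gcd_eq_gcd_ab ((p ^ j' : ℕ) : ℤ) (m' : ℤ)
      rw [Int.gcd_natCast_natCast, hcop.gcd_eq_one] at h3
      exact ⟨_, _, by exact_mod_cast h3.symm⟩
    obtain ⟨a, ha⟩ : ∃ a : ℂ, a = classInner (fun e : E => θ e) (ψ : E → ℂ) := ⟨_, rfl⟩
    rw [← ha] at hN hi ⊢
    have hNint : IsIntegral ℤ (N : ℂ) := by
      have h5 := isIntegral_algebraMap (R := ℤ) (A := ℂ) (x := (N : ℤ))
      simpa using h5
    have hint : IsIntegral ℤ a := by
      have h4 : a = (u : ℂ) * (((p ^ j' : ℕ) : ℂ) * a) + (v : ℂ) * ((m' : ℂ) * a) := by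
        have huv' : (((p ^ j' : ℕ) : ℂ)) * (u : ℂ) + (m' : ℂ) * (v : ℂ) = 1 := by
          exact_mod_cast huv
        linear_combination (-a) * huv'
      rw [h4, hN]
      exact (isIntegral_algebraMap.mul hNint).add (isIntegral_algebraMap.mul hi)
    have hpj0 : ((p ^ j' : ℕ) : ℂ) ≠ 0 := by exact_mod_cast (pow_pos hp.pos j').ne'
    have ha' : a = (N : ℂ) / ((p ^ j' : ℕ) : ℂ) := by
      rw [eq_div_iff hpj0, mul_comm]
      exact hN
    rw [ha'] at hint
    obtain ⟨t, ht⟩ := dvd_of_isIntegral_div (pow_pos hp.pos j').ne' hint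
    refine ⟨(t : ℤ), ?_⟩
    have hp0 : (p : ℂ) ≠ 0 := by exact_mod_cast hp.ne_zero
    rw [ha', ht]
    push_cast
    rw [mul_div_cancel_left₀ _ (pow_ne_zero j' hp0)]
  obtain ⟨b, hb⟩ := Cfsg.Agent.Lib.helper4.exists_int_classInner_irr hθgen hχirr
  have hcard0 : (Nat.card G : ℂ) ≠ 0 := by exact_mod_cast Nat.card_pos.ne'
  have hcardpos : (0 : ℝ) < Nat.card G := by exact_mod_cast Nat.card_pos
  obtain ⟨A, hA⟩ : ∃ A : ℝ,
      A = ∑ g : G, (if PPartMem p D g then Complex.normSq ((χ : G → ℂ) g) else 0) := ⟨_, rfl⟩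
  obtain ⟨B, hB⟩ : ∃ B : ℝ, B = ∑ g : G, Complex.normSq ((χ : G → ℂ) g) := ⟨_, rfl⟩
  have hAc : (A : ℂ) = ∑ g : G, θ g * conj ((χ : G → ℂ) g) := by
    rw [hA]
    push_cast
    apply Finset.sum_congr rfl
    intro g _
    rw [hθapp]
    split_ifs
    · rw [Complex.mul_conj]
    · simp
  have hBc : (B : ℂ) = ∑ g : G, (χ : G → ℂ) g * conj ((χ : G → ℂ) g) := by
    rw [hB]
    push_cast
    apply Finset.sum_congr rfl
    intro g _
    rw [Complex.mul_conj]
  have hAb : A = (b : ℝ) * (Nat.card G : ℝ) := by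
    have h1 : (A : ℂ) = (b : ℂ) * (Nat.card G : ℂ) := by
      rw [hAc, ← hb]
      unfold classInner
      field_simp
    exact_mod_cast h1
  have hBcard : B = (Nat.card G : ℝ) := by
    have h1 : (B : ℂ) = (Nat.card G : ℂ) := by
      rw [hBc, Cfsg.Agent.Lib.helper80.irr_sum_mul_conj χ χ, if_pos rfl]
    exact_mod_cast h1
  have hle : A ≤ B := by
    rw [hA, hB]
    apply Finset.sum_le_sum
    intro g _
    split_ifs
    · exact le_refl _
    · exact Complex.normSq_nonneg _
  have hApos : 0 < A := by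
    have h1 : (if PPartMem p D (1 : G) then Complex.normSq ((χ : G → ℂ) 1) else 0) ≤ A := by
      rw [hA]
      exact Finset.single_le_sum (f := fun g : G => if PPartMem p D g
        then Complex.normSq ((χ : G → ℂ) g) else 0) (fun g _ => by
          split_ifs
          · exact Complex.normSq_nonneg _
          · exact le_refl _) (Finset.mem_univ 1)
    rw [if_pos (pPartMem_one p D), hχ1] at h1
    have h3 : 0 < Complex.normSq (d : ℂ) := by
      rw [Complex.normSq_pos]
      exact hd0
    linarith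
  have hb1 : b = 1 := by
    have h1 : (0 : ℝ) < b := by
      by_contra hcon
      have hcon' : (b : ℝ) ≤ 0 := not_lt.mp hcon
      have h2 : (b : ℝ) * (Nat.card G : ℝ) ≤ 0 :=
        mul_nonpos_of_nonpos_of_nonneg hcon' hcardpos.le
      linarith
    have h2 : (b : ℝ) ≤ 1 := by
      by_contra hcon
      have hcon' : (1 : ℝ) < b := not_le.mp hcon
      have h3 : (Nat.card G : ℝ) < (b : ℝ) * (Nat.card G : ℝ) := by
        nlinarith
      linarith
    have h3 : 0 < b := by exact_mod_cast h1
    have h4 : b ≤ 1 := by exact_mod_cast h2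
    omega
  have hAB : A = B := by
    rw [hAb, hBcard, hb1]
    simp
  have hzero : ∑ g : G, (Complex.normSq ((χ : G → ℂ) g) -
      (if PPartMem p D g then Complex.normSq ((χ : G → ℂ) g) else 0)) = 0 := by
    rw [Finset.sum_sub_distrib, ← hA, ← hB, hAB, sub_self]
  have hterm := (Finset.sum_eq_zero_iff_of_nonneg (fun g _ => by
    split_ifs
    · simp
    · simp only [sub_zero]; exact Complex.normSq_nonneg _)).mp hzero g (Finset.mem_univ g)
  rw [if_neg (not_pPartMem hp hx hxD), sub_zero, Complex.normSq_eq_zero] at hterm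
  exact hterm

end CentralVanish

section CentralDefectGroup

variable {G : Type u} [Group G] [Fintype G] {p : ℕ} [Fact p.Prime] {M : Ideal AlgInt}

omit [Fintype G] [Fact p.Prime] in
theorem centralizer_singleton_inv_eq (g : G) :
    Subgroup.centralizer ({g⁻¹} : Set G) = Subgroup.centralizer ({g} : Set G) := by
  ext z
  simp only [Subgroup.mem_centralizer_iff, Set.mem_singleton_iff, forall_eq]
  constructor
  · intro h
    have h1 := congrArg (fun t => g * t * g) h
    simpa [mul_assoc] using h1.symm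
  · intro h
    have h1 := congrArg (fun t => g⁻¹ * t * g⁻¹) h
    simpa [mul_assoc] using h1.symm

/-- `χ(g)` lies in the local ideal when the degree has a larger `p`-part than the class size. -/
theorem memLocalIdeal_irr_of_lt (hM : IsPModular p M) (χ : IrrCharacter G) (g : G)
    (h : (Nat.card G).factorization p < (charDegree (χ : G → ℂ)).factorization p
      + (Nat.card (Subgroup.centralizer ({g} : Set G))).factorization p) :
    MemLocalIdeal M ((χ : G → ℂ) g) := by
  have hp := (Fact.out : p.Prime)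
  obtain ⟨C, hCdef⟩ : ∃ C : Subgroup G, C = Subgroup.centralizer ({g} : Set G) := ⟨_, rfl⟩
  rw [← hCdef] at h
  have hcard : C.index * Nat.card C = Nat.card G := Subgroup.index_mul_card C
  have hidx0 : C.index ≠ 0 := Subgroup.index_ne_zero_of_finite
  have hC0 : Nat.card C ≠ 0 := Nat.card_pos.ne'
  have hfac : (Nat.card G).factorization p =
      C.index.factorization p + (Nat.card C).factorization p := by
    rw [← hcard, Nat.factorization_mul hidx0 hC0]
    rfl
  obtain ⟨n, hndef⟩ : ∃ n : ℕ, n = charDegree (χ : G → ℂ) := ⟨_, rfl⟩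
  rw [← hndef] at h
  obtain ⟨h', hh'⟩ : ∃ h' : ℕ, h' = C.index.factorization p := ⟨_, rfl⟩
  have hlt : h' + 1 ≤ n.factorization p := by omega
  have hn0 : n ≠ 0 := hndef ▸ (irr_charDegree_pos χ).ne'
  have hdvd : p ^ (h' + 1) ∣ n := (hp.pow_dvd_iff_le_factorization hn0).mpr hlt
  obtain ⟨w, hw⟩ := hdvd
  have hk : p ^ h' * (C.index / p ^ h') = C.index := by
    rw [hh']
    exact Nat.ordProj_mul_ordCompl_eq_self C.index p
  have hu : ¬ p ∣ C.index / p ^ h' := by
    rw [hh']
    exact Nat.not_dvd_ordCompl hp hidx0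
  have hω := irr_centralChar_isIntegral χ g
  have hwint : IsIntegral ℤ (w : ℂ) := by
    have h5 := isIntegral_algebraMap (R := ℤ) (A := ℂ) (x := (w : ℤ))
    simpa using h5
  apply Cfsg.Agent.Lib.helper79.memLocalIdeal_of_mul_eq hM (C.index / p ^ h') hu
    (centralChar (χ : G → ℂ) g * (w : ℂ)) (hω.mul hwint)
  unfold centralChar
  rw [irr_one_eq_charDegree, ← hndef, ← hCdef]
  have e1 : (n : ℂ) = (p : ℂ) ^ (h' + 1) * (w : ℂ) := by
    exact_mod_cast congrArg (Nat.cast : ℕ → ℂ) hw
  have e2 : (C.index : ℂ) = (p : ℂ) ^ h' * ((C.index / p ^ h' : ℕ) : ℂ) := by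
    exact_mod_cast congrArg (Nat.cast : ℕ → ℂ) hk.symm
  have hpc : (p : ℂ) ≠ 0 := by exact_mod_cast hp.ne_zero
  have hw0 : (w : ℂ) ≠ 0 := by
    intro h0
    have h1 : w = 0 := by exact_mod_cast h0
    rw [h1, mul_zero] at hw
    exact hn0 hw
  rw [e1]
  conv_rhs => rw [e2]
  field_simp
  ring

/-- The order of `G` in terms of the degree and the central subgroup. -/
theorem exists_card_eq_central (D : Subgroup G) (hD : IsPGroup p D) (χ : IrrCharacter G)
    (hdeg : (charDegree (χ : G → ℂ)).factorization p = D.index.factorization p) :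
    ∃ m' : ℕ, ¬ p ∣ m' ∧ Nat.card G = charDegree (χ : G → ℂ) * (Nat.card D * m') ∧
      (Nat.card G).factorization p = (charDegree (χ : G → ℂ)).factorization p
        + (Nat.card D).factorization p := by
  have hp := (Fact.out : p.Prime)
  obtain ⟨d, hd⟩ : ∃ d : ℕ, d = charDegree (χ : G → ℂ) := ⟨_, rfl⟩
  have hdpos : 0 < d := hd ▸ irr_charDegree_pos χ
  obtain ⟨m, hm⟩ : d ∣ Nat.card G := hd ▸ irr_degree_dvd_card χ
  obtain ⟨δ, hδ⟩ := hD.exists_card_eq
  have hm0' : m ≠ 0 := by
    rintro rfl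
    rw [mul_zero] at hm
    exact Nat.card_pos.ne' hm
  have h2 : (Nat.card G).factorization p = D.index.factorization p + δ := by
    rw [← D.index_mul_card, Nat.factorization_mul D.index_ne_zero_of_finite
      Nat.card_pos.ne', hδ, Nat.factorization_pow, hp.factorization]
    simp
  have hmfac : m.factorization p = δ := by
    have h1 : (Nat.card G).factorization p = d.factorization p + m.factorization p := by
      rw [hm, Nat.factorization_mul hdpos.ne' hm0']
      rfl
    rw [← hd] at hdeg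
    omega
  have hDfac : (Nat.card D).factorization p = δ := by
    rw [hδ, Nat.factorization_pow, hp.factorization]
    simp
  refine ⟨m / p ^ δ, ?_, ?_, ?_⟩
  · rw [← hmfac]
    exact Nat.not_dvd_ordCompl hp hm0'
  · rw [← hd, hm, hδ]
    congr 1
    rw [← hmfac]
    exact (Nat.ordProj_mul_ordCompl_eq_self m p).symm
  · rw [h2, hDfac, hdeg]

open Classical in
/-- Under the central-defect hypothesis there is a `p`-regular class of small defect on which
the central character of `χ` is a unit. -/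
theorem exists_pRegular_centralChar_central (hM : IsPModular p M) (D : Subgroup G)
    (hD : IsPGroup p D) (hDZ : D ≤ Subgroup.center G) (χ : IrrCharacter G)
    (hdeg : (charDegree (χ : G → ℂ)).factorization p = D.index.factorization p) :
    ∃ y : G, ¬ p ∣ orderOf y ∧ ¬ MemLocalIdeal M (centralChar (χ : G → ℂ) y) ∧
      (Nat.card (Subgroup.centralizer ({y} : Set G))).factorization p
        ≤ (Nat.card D).factorization p := by
  classical
  have hp := (Fact.out : p.Prime)
  have hMp := isPrime_of_isPModular hM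
  have := Fintype.ofFinite D
  by_contra hcon
  have hall : ∀ y : G, ¬ p ∣ orderOf y → ¬ MemLocalIdeal M (centralChar (χ : G → ℂ) y) →
      (Nat.card D).factorization p
        < (Nat.card (Subgroup.centralizer ({y} : Set G))).factorization p := by
    intro y hy hω
    by_contra h
    exact hcon ⟨y, hy, hω, not_lt.mp h⟩
  obtain ⟨m', hpm', hcard, hfac⟩ := exists_card_eq_central D hD χ hdeg
  have hm'0 : (m' : ℂ) ≠ 0 := by
    intro h0
    have h1 : m' = 0 := by exact_mod_cast h0
    rw [h1] at hpm'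
    exact hpm' (dvd_zero p)
  have hD0 : (Nat.card D : ℂ) ≠ 0 := by exact_mod_cast Nat.card_pos.ne'
  have hd0 : (χ : G → ℂ) 1 ≠ 0 := irr_one_ne_zero χ
  have hG' : (Nat.card G : ℂ) = (χ : G → ℂ) 1 * ((Nat.card D : ℂ) * (m' : ℂ)) := by
    rw [irr_one_eq_charDegree, hcard]
    push_cast
    ring
  have hG : D ⊔ Subgroup.centralizer (D : Set G) = ⊤ := by
    rw [eq_top_iff]
    refine le_trans ?_ le_sup_right
    intro g _
    rw [Subgroup.mem_centralizer_iff]
    intro h hh
    exact (Subgroup.mem_center_iff.mp (hDZ hh) g).symm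
  -- the `p`-regular norm
  have hsum : (Nat.card D : ℂ) * ∑ y : G, (if ¬ p ∣ orderOf y then
      (χ : G → ℂ) y * conj ((χ : G → ℂ) y) else 0) = (Nat.card G : ℂ) := by
    have h1 := sum_eq_sum_prod_pRegular hD hG
      (fun g => (χ : G → ℂ) g * conj ((χ : G → ℂ) g))
      (fun g x hx hxD => by
        show (χ : G → ℂ) g * conj ((χ : G → ℂ) g) = 0
        rw [irr_eq_zero_of_pPart_not_mem_central p D hD hDZ χ hdeg g x hx hxD, zero_mul])
    rw [Cfsg.Agent.Lib.helper80.irr_sum_mul_conj χ χ, if_pos rfl] at h1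
    rw [h1]
    have h2 : ∀ u : D, ∑ y : G, (if ¬ p ∣ orderOf y then
        (χ : G → ℂ) ((u : G) * y) * conj ((χ : G → ℂ) ((u : G) * y)) else 0)
        = ∑ y : G, (if ¬ p ∣ orderOf y then (χ : G → ℂ) y * conj ((χ : G → ℂ) y) else 0) := by
      intro u
      refine Finset.sum_congr rfl (fun y _ => ?_)
      by_cases hy : p ∣ orderOf y
      · rw [if_neg (not_not.mpr hy), if_neg (not_not.mpr hy)]
      · rw [if_pos hy, if_pos hy, irr_center_mul χ (hDZ u.2), map_mul]
        have h3 := irr_center_conj_mul χ (hDZ u.2)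
        linear_combination ((χ : G → ℂ) y * conj ((χ : G → ℂ) y)) * h3
    rw [Finset.sum_congr rfl (fun u _ => h2 u), Finset.sum_const, Finset.card_univ,
      nsmul_eq_mul, Nat.card_eq_fintype_card]
  obtain ⟨f, hf⟩ : ∃ f : G → ℂ, f = fun y =>
      if ¬ p ∣ orderOf y then (χ : G → ℂ) y⁻¹ / (m' : ℂ) else 0 := ⟨_, rfl⟩
  have hfcf : IsClassFunction G f := by
    intro g h
    rw [hf]
    simp only
    have ho : orderOf (h * g * h⁻¹) = orderOf g := by
      have h1 := MulEquiv.orderOf_eq (MulAut.conj h) g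
      rwa [MulAut.conj_apply] at h1
    have h2 : (h * g * h⁻¹)⁻¹ = h * g⁻¹ * h⁻¹ := by group
    rw [ho, h2, irr_classFun χ]
  have hom1 : om (χ : G → ℂ) f = 1 := by
    unfold om
    have h1 : ∑ g : G, f g * (χ : G → ℂ) g = (∑ y : G, (if ¬ p ∣ orderOf y then
        (χ : G → ℂ) y * conj ((χ : G → ℂ) y) else 0)) / (m' : ℂ) := by
      rw [Finset.sum_div]
      refine Finset.sum_congr rfl (fun g _ => ?_)
      rw [hf]
      simp only
      by_cases hg : p ∣ orderOf g
      · rw [if_neg (not_not.mpr hg), if_neg (not_not.mpr hg), zero_mul, zero_div]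
      · rw [if_pos hg, if_pos hg, irr_inv]
        ring
    rw [h1]
    have h4 : (∑ y : G, (if ¬ p ∣ orderOf y then
        (χ : G → ℂ) y * conj ((χ : G → ℂ) y) else 0))
        = (χ : G → ℂ) 1 * (m' : ℂ) := by
      have h5 := hsum
      rw [hG'] at h5
      have h6 : (Nat.card D : ℂ) * (∑ y : G, (if ¬ p ∣ orderOf y then
        (χ : G → ℂ) y * conj ((χ : G → ℂ) y) else 0) - (χ : G → ℂ) 1 * (m' : ℂ)) = 0 := by
        linear_combination h5
      rcases mul_eq_zero.mp h6 with h | h
      · exact absurd h hD0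
      · exact sub_eq_zero.mp h
    rw [h4]
    field_simp
  have homJ : MemLocalIdeal M (om (χ : G → ℂ) f) := by
    rw [om_eq_sum_classes (χ : G → ℂ) (irr_classFun χ) f hfcf]
    apply memLocalIdeal_sum hMp
    intro c _
    obtain ⟨y, hy⟩ : ∃ y : G, y = Quotient.out c := ⟨_, rfl⟩
    rw [← hy]
    by_cases hyp : p ∣ orderOf y
    · have h1 : f y = 0 := by
        rw [hf]
        simp only
        rw [if_neg (not_not.mpr hyp)]
      rw [h1, zero_mul]
      exact memLocalIdeal_zero hMp
    · have h1 : f y = (χ : G → ℂ) y⁻¹ / (m' : ℂ) := by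
        rw [hf]
        simp only
        rw [if_pos hyp]
      rw [h1]
      by_cases hω : MemLocalIdeal M (centralChar (χ : G → ℂ) y)
      · exact memLocalIdeal_mul_left hMp
          (memLocalRing_div_natCast hM ⟨(χ : G → ℂ) y⁻¹, irr_isIntegral χ y⁻¹⟩ hpm') hω
      · have h2 := hall y hyp hω
        have h3 : MemLocalIdeal M ((χ : G → ℂ) y⁻¹) := by
          apply memLocalIdeal_irr_of_lt hM χ y⁻¹
          rw [centralizer_singleton_inv_eq, hfac]
          omega
        have h4 : (⟨(χ : G → ℂ) y⁻¹, irr_isIntegral χ y⁻¹⟩ : AlgInt) ∈ M :=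
          mem_of_memLocalIdeal_coe hMp h3
        exact memLocalIdeal_mul_right hMp (memLocalIdeal_div_natCast hM h4 hpm')
          (memLocalRing_centralChar hMp χ y)
  rw [hom1] at homJ
  exact not_memLocalIdeal_one homJ

/-- **Central defect.**  If `D` is a central `p`-subgroup and the degree of `χ` has the same
`p`-part as the index of `D`, then `D` is a defect group of the block of `χ`. -/
theorem isDefectGroup_of_central (hM : IsPModular p M) (D : Subgroup G)
    (hD : IsPGroup p D) (hDZ : D ≤ Subgroup.center G) (χ : IrrCharacter G)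
    (hdeg : (charDegree (χ : G → ℂ)).factorization p = D.index.factorization p) :
    IsDefectGroup p M (blockOf M (χ : G → ℂ)) D := by
  have hp := (Fact.out : p.Prime)
  have hMp := isPrime_of_isPModular hM
  have hB := isPBlock_blockOf M χ
  have hχB := Cfsg.Agent.Lib.helper80.mem_blockOf_self hMp χ
  obtain ⟨y, hy, hω, hle⟩ := exists_pRegular_centralChar_central hM D hD hDZ χ hdeg
  have h1 := Cfsg.Agent.Lib.helper79.blockDefect_le_of_centralChar hM hB hχB y hω
  obtain ⟨P, hP⟩ := exists_isDefectGroup p hMp hB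
  have hPcard := Cfsg.Agent.Lib.helper79.card_eq_of_isDefectGroup hM hB hP
  have hDP : D ≤ P := by
    obtain ⟨g, -, S, rfl⟩ := hP
    intro z hz
    have hzc : z ∈ Subgroup.centralizer ({g} : Set G) := by
      rw [Subgroup.mem_centralizer_iff]
      intro h _
      exact Subgroup.mem_center_iff.mp (hDZ hz) h
    haveI hN : (D.subgroupOf (Subgroup.centralizer ({g} : Set G))).Normal := ⟨by
      intro z' hz' e
      have hzc' := Subgroup.mem_center_iff.mp (hDZ (Subgroup.mem_subgroupOf.mp hz'))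
      have h1 : e * z' * e⁻¹ = z' := by
        apply Subtype.ext
        simp only [Subgroup.coe_mul, InvMemClass.coe_inv]
        rw [hzc' (e : G), mul_inv_cancel_right]
      rw [h1]
      exact hz'⟩
    have hle' := Cfsg.Agent.Lib.helper1.normal_pgroup_le_sylow
      (D.subgroupOf (Subgroup.centralizer ({g} : Set G))) hD.comap_subtype S
    exact Subgroup.mem_map.mpr ⟨⟨z, hzc⟩, hle' (Subgroup.mem_subgroupOf.mpr hz), rfl⟩
  obtain ⟨δ, hδ⟩ := hD.exists_card_eq
  have hDP' : D = P := by
    apply Subgroup.eq_of_le_of_card_ge hDP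
    rw [hPcard, hδ]
    apply Nat.pow_le_pow_right hp.pos
    rw [hδ, Nat.factorization_pow, hp.factorization] at hle
    simp at hle
    omega
  rw [hDP']
  exact hP

end CentralDefectGroup

end Cfsg.Agent.Lib.helper84
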