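import Cfsg.Agent.Lib.helper84.APINTVcore
import Cfsg.Agent.Lib.helper7.APGPC

set_option autoImplicit false

namespace Cfsg.Agent.Lib.helper95.AP

open Equiv

/-- [INTV] interval model (spare racer copy by helper84): a permutation of `Fin (p^e)` with cycle
type `L` forming a good pair with the rotation. -/
theorem helper84_intv (p : ℕ) (hp : p.Prime) (hp3 : 3 ≤ p) (e : ℕ) (L : List ℕ) (hL0 : L ≠ [])
    (hsort : L.Pairwise (· ≥ ·)) (hpow : ∀ l ∈ L, ∃ j : ℕ, 1 ≤ j ∧ l = p ^ j ∧ l < p ^ e)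
    (hsum : L.sum ≤ p ^ e) :
    ∃ b : Perm (Fin (p ^ e)), b.cycleType = (L : Multiset ℕ) ∧ GoodBoth p (finRotate (p ^ e)) b :=
  helper84_intv_core gpc p hp hp3 e L hL0 hsort hpow hsum

end Cfsg.Agent.Lib.helper95.AP
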