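import Cfsg.Agent.Lib.helper95.APDefs

set_option autoImplicit false

namespace Cfsg.Agent.Lib.helper95.AP

open Equiv

/-- the residue of `a` as an element of `Fin (n + 1)` -/
def h84fz (n a : ℕ) : Fin (n + 1) := ⟨a % (n + 1), Nat.mod_lt _ (Nat.succ_pos n)⟩

theorem h84fz_val (n a : ℕ) : (h84fz n a).val = a % (n + 1) := rfl

theorem h84fz_val_of_le (n a : ℕ) (h : a ≤ n) : (h84fz n a).val = a := by
  rw [h84fz_val, Nat.mod_eq_of_lt (by omega)]

theorem h84fz_self (n : ℕ) (z : Fin (n + 1)) : h84fz n z.val = z := by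
  apply Fin.ext
  rw [h84fz_val, Nat.mod_eq_of_lt z.isLt]

/-- the interval `[s, s + l)` as a list -/
def h84ivl (n s l : ℕ) : List (Fin (n + 1)) := (List.range l).map (fun i => h84fz n (s + i))

theorem h84ivl_length (n s l : ℕ) : (h84ivl n s l).length = l := by
  simp [h84ivl]

theorem h84ivl_getElem (n s l i : ℕ) (h : i < (h84ivl n s l).length) :
    (h84ivl n s l)[i] = h84fz n (s + i) := by
  simp [h84ivl]

theorem h84ivl_nodup (n s l : ℕ) (h : s + l ≤ n + 1) : (h84ivl n s l).Nodup := by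
  unfold h84ivl
  refine List.Nodup.map_on ?_ List.nodup_range
  intro x hx y hy hxy
  rw [List.mem_range] at hx hy
  have h1 := congrArg Fin.val hxy
  rw [h84fz_val, h84fz_val, Nat.mod_eq_of_lt (by omega), Nat.mod_eq_of_lt (by omega)] at h1
  omega

theorem h84mem_ivl (n s l : ℕ) (h : s + l ≤ n + 1) (z : Fin (n + 1)) :
    z ∈ h84ivl n s l ↔ s ≤ z.val ∧ z.val < s + l := by
  unfold h84ivl
  rw [List.mem_map]
  constructor
  · rintro ⟨i, hi, rfl⟩
    rw [List.mem_range] at hi
    rw [h84fz_val, Nat.mod_eq_of_lt (by omega)]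
    omega
  · rintro ⟨h1, h2⟩
    refine ⟨z.val - s, List.mem_range.mpr (by omega), ?_⟩
    apply Fin.ext
    rw [h84fz_val, Nat.mod_eq_of_lt (by omega)]
    omega

/-- the forward (`d = true`) or backward cycle on the interval `[s, s + l)` -/
def h84cyc (n s l : ℕ) (d : Bool) : Perm (Fin (n + 1)) :=
  if d then (h84ivl n s l).formPerm else ((h84ivl n s l).formPerm)⁻¹

theorem h84cyc_fix (n s l : ℕ) (d : Bool) (h : s + l ≤ n + 1) (z : Fin (n + 1))
    (hz : ¬ (s ≤ z.val ∧ z.val < s + l)) : h84cyc n s l d z = z := by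
  have hz' : z ∉ h84ivl n s l := fun hm => hz ((h84mem_ivl n s l h z).mp hm)
  have h1 : (h84ivl n s l).formPerm z = z := List.formPerm_apply_of_notMem hz'
  unfold h84cyc
  cases d
  · simp only [Bool.false_eq_true, if_false]
    rw [Perm.inv_eq_iff_eq]
    exact h1.symm
  · simp only [if_true]
    exact h1

theorem h84cyc_fwd (n s l : ℕ) (h : s + l ≤ n + 1) (i : ℕ) (hi : i < l) :
    h84cyc n s l true (h84fz n (s + i)) = h84fz n (s + (i + 1) % l) := by
  have h1 := List.formPerm_apply_getElem (h84ivl n s l) (h84ivl_nodup n s l h) i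
    (by rw [h84ivl_length]; exact hi)
  simp only [h84ivl_getElem, h84ivl_length] at h1
  unfold h84cyc
  simp only [if_true]
  exact h1

theorem h84cyc_bwd (n s l : ℕ) (h : s + l ≤ n + 1) (i : ℕ) (hi : i < l) :
    h84cyc n s l false (h84fz n (s + (i + 1) % l)) = h84fz n (s + i) := by
  have h1 := h84cyc_fwd n s l h i hi
  unfold h84cyc at h1 ⊢
  simp only [if_true] at h1
  simp only [Bool.false_eq_true, if_false]
  rw [← h1]
  simp

theorem h84cyc_mem (n s l : ℕ) (d : Bool) (h : s + l ≤ n + 1) (z : Fin (n + 1))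
    (hz : s ≤ z.val ∧ z.val < s + l) :
    s ≤ (h84cyc n s l d z).val ∧ (h84cyc n s l d z).val < s + l := by
  rw [← h84mem_ivl n s l h] at hz ⊢
  unfold h84cyc
  cases d
  · simp only [Bool.false_eq_true, if_false]
    rw [← List.formPerm_mem_iff_mem (l := h84ivl n s l)]
    simpa using hz
  · simp only [if_true]
    exact List.formPerm_apply_mem_of_mem hz

theorem h84cyc_cycleType (n s l : ℕ) (d : Bool) (h : s + l ≤ n + 1) (hl : 2 ≤ l) :
    (h84cyc n s l d).cycleType = {l} := by
  have h1 : ((h84ivl n s l).formPerm).cycleType = {l} := by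
    have hnd := h84ivl_nodup n s l h
    have hcyc : Perm.IsCycle ((h84ivl n s l).formPerm) :=
      List.isCycle_formPerm hnd (by rw [h84ivl_length]; exact hl)
    have hne : ∀ x : Fin (n + 1), h84ivl n s l ≠ [x] := by
      intro x hx
      have := congrArg List.length hx
      rw [h84ivl_length] at this
      simp at this
      omega
    rw [hcyc.cycleType, List.support_formPerm_of_nodup _ hnd hne, List.toFinset_card_of_nodup hnd,
      h84ivl_length]
  unfold h84cyc
  cases d
  · simp only [Bool.false_eq_true, if_false]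
    rw [Perm.cycleType_inv, h1]
  · simp only [if_true]
    exact h1

/-- the sum of the lengths -/
def h84sum (L : List (ℕ × Bool)) : ℕ := (L.map Prod.fst).sum

theorem h84sum_cons (l : ℕ) (d : Bool) (L : List (ℕ × Bool)) :
    h84sum ((l, d) :: L) = l + h84sum L := by
  simp [h84sum]

theorem h84sum_nil : h84sum [] = 0 := rfl

theorem h84sum_append (L₁ L₂ : List (ℕ × Bool)) :
    h84sum (L₁ ++ L₂) = h84sum L₁ + h84sum L₂ := by
  simp [h84sum]

/-- the product of the cycles on consecutive intervals starting at `s` -/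
def h84B (n : ℕ) : List (ℕ × Bool) → ℕ → Perm (Fin (n + 1))
  | [], _ => 1
  | (l, d) :: L, s => h84cyc n s l d * h84B n L (s + l)

theorem h84B_nil (n s : ℕ) : h84B n [] s = 1 := rfl

theorem h84B_cons (n : ℕ) (l : ℕ) (d : Bool) (L : List (ℕ × Bool)) (s : ℕ) :
    h84B n ((l, d) :: L) s = h84cyc n s l d * h84B n L (s + l) := rfl

theorem h84B_fix_mem (n : ℕ) (L : List (ℕ × Bool)) :
    ∀ s : ℕ, s + h84sum L ≤ n + 1 →
      (∀ z : Fin (n + 1), ¬ (s ≤ z.val ∧ z.val < s + h84sum L) → h84B n L s z = z) ∧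
      (∀ z : Fin (n + 1), (s ≤ z.val ∧ z.val < s + h84sum L) →
        (s ≤ (h84B n L s z).val ∧ (h84B n L s z).val < s + h84sum L)) := by
  induction L with
  | nil =>
    intro s _
    refine ⟨fun z _ => rfl, fun z hz => ?_⟩
    rw [h84sum_nil] at hz
    omega
  | cons a L ih =>
    obtain ⟨l, d⟩ := a
    intro s hs
    rw [h84sum_cons] at hs
    obtain ⟨ih1, ih2⟩ := ih (s + l) (by omega)
    refine ⟨fun z hz => ?_, fun z hz => ?_⟩
    · rw [h84sum_cons] at hz
      rw [h84B_cons, Perm.mul_apply, ih1 z (by omega), h84cyc_fix n s l d (by omega) z (by omega)]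
    · rw [h84sum_cons] at hz ⊢
      rw [h84B_cons, Perm.mul_apply]
      by_cases hz1 : z.val < s + l
      · rw [ih1 z (by omega)]
        have := h84cyc_mem n s l d (by omega) z ⟨hz.1, hz1⟩
        omega
      · have h3 := ih2 z (by omega)
        rw [h84cyc_fix n s l d (by omega) _ (by omega)]
        omega

theorem h84B_fix (n : ℕ) (L : List (ℕ × Bool)) (s : ℕ) (hs : s + h84sum L ≤ n + 1)
    (z : Fin (n + 1)) (hz : ¬ (s ≤ z.val ∧ z.val < s + h84sum L)) : h84B n L s z = z :=
  (h84B_fix_mem n L s hs).1 z hz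

theorem h84B_mem (n : ℕ) (L : List (ℕ × Bool)) (s : ℕ) (hs : s + h84sum L ≤ n + 1)
    (z : Fin (n + 1)) (hz : s ≤ z.val ∧ z.val < s + h84sum L) :
    s ≤ (h84B n L s z).val ∧ (h84B n L s z).val < s + h84sum L :=
  (h84B_fix_mem n L s hs).2 z hz

theorem h84B_cons_in (n : ℕ) (l : ℕ) (d : Bool) (L : List (ℕ × Bool)) (s : ℕ)
    (hs : s + (l + h84sum L) ≤ n + 1) (z : Fin (n + 1)) (hz : s ≤ z.val ∧ z.val < s + l) :
    h84B n ((l, d) :: L) s z = h84cyc n s l d z := by
  rw [h84B_cons, Perm.mul_apply, h84B_fix n L (s + l) (by omega) z (by omega)]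

theorem h84B_cons_out (n : ℕ) (l : ℕ) (d : Bool) (L : List (ℕ × Bool)) (s : ℕ)
    (hs : s + (l + h84sum L) ≤ n + 1) (z : Fin (n + 1)) (hz : ¬ (s ≤ z.val ∧ z.val < s + l)) :
    h84B n ((l, d) :: L) s z = h84B n L (s + l) z := by
  rw [h84B_cons, Perm.mul_apply]
  by_cases hz1 : s + l ≤ z.val ∧ z.val < s + l + h84sum L
  · have h3 := h84B_mem n L (s + l) (by omega) z hz1
    rw [h84cyc_fix n s l d (by omega) _ (by omega)]
  · rw [h84B_fix n L (s + l) (by omega) z hz1, h84cyc_fix n s l d (by omega) z hz]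

theorem h84B_cycleType (n : ℕ) (L : List (ℕ × Bool)) :
    ∀ s : ℕ, s + h84sum L ≤ n + 1 → (∀ a ∈ L, 2 ≤ a.1) →
      (h84B n L s).cycleType = ((L.map Prod.fst : List ℕ) : Multiset ℕ) := by
  induction L with
  | nil =>
    intro s _ _
    simp [h84B_nil]
  | cons a L ih =>
    obtain ⟨l, d⟩ := a
    intro s hs h2
    rw [h84sum_cons] at hs
    have hdisj : Perm.Disjoint (h84cyc n s l d) (h84B n L (s + l)) := by
      intro z
      by_cases hz : s ≤ z.val ∧ z.val < s + l
      · right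
        exact h84B_fix n L (s + l) (by omega) z (by omega)
      · left
        exact h84cyc_fix n s l d (by omega) z hz
    rw [h84B_cons, hdisj.cycleType_mul, ih (s + l) (by omega) (fun a ha => h2 a (List.mem_cons_of_mem _ ha)),
      h84cyc_cycleType n s l d (by omega) (h2 (l, d) List.mem_cons_self)]
    simp

theorem h84B_append (n : ℕ) (L₁ L₂ : List (ℕ × Bool)) :
    ∀ s : ℕ, h84B n (L₁ ++ L₂) s = h84B n L₁ s * h84B n L₂ (s + h84sum L₁) := by
  induction L₁ with
  | nil =>
    intro s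
    simp [h84B_nil, h84sum_nil]
  | cons a L ih =>
    obtain ⟨l, d⟩ := a
    intro s
    rw [List.cons_append, h84B_cons, h84B_cons, ih (s + l), h84sum_cons, mul_assoc, add_assoc]

end Cfsg.Agent.Lib.helper95.AP
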