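import Cfsg.Agent.Lib.helper84.APINTVa

set_option autoImplicit false

namespace Cfsg.Agent.Lib.helper95.AP

open Equiv

theorem h84rot (n : ℕ) (u z : Fin (n + 1)) :
    finRotate (n + 1) u = z ↔ (u.val = n ∧ z.val = 0) ∨ (u.val < n ∧ z.val = u.val + 1) := by
  rw [Fin.ext_iff, coe_finRotate]
  by_cases hu : u = Fin.last n
  · rw [if_pos hu]
    have : u.val = n := by rw [hu]; rfl
    omega
  · rw [if_neg hu]
    have : u.val ≠ n := fun h => hu (Fin.ext h)
    have := u.isLt
    omega

theorem h84cyc_fwd_val (n s l : ℕ) (h : s + l ≤ n + 1) (z : Fin (n + 1))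
    (hz : s ≤ z.val ∧ z.val < s + l) :
    (h84cyc n s l true z).val = s + (z.val - s + 1) % l := by
  have h1 := h84cyc_fwd n s l h (z.val - s) (by omega)
  rw [show s + (z.val - s) = z.val by omega, h84fz_self] at h1
  have h2 : (z.val - s + 1) % l < l := Nat.mod_lt _ (by omega)
  rw [h1, h84fz_val, Nat.mod_eq_of_lt (by omega)]

theorem h84cyc_bwd_val (n s l : ℕ) (h : s + l ≤ n + 1) (z : Fin (n + 1))
    (hz : s ≤ z.val ∧ z.val < s + l) :
    (h84cyc n s l false z).val = if z.val = s then s + l - 1 else z.val - 1 := by
  by_cases hzs : z.val = s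
  · rw [if_pos hzs]
    have h1 := h84cyc_bwd n s l h (l - 1) (by omega)
    have hz' : h84fz n s = z := by rw [← hzs, h84fz_self]
    rw [show l - 1 + 1 = l by omega, Nat.mod_self, add_zero, hz'] at h1
    rw [h1, h84fz_val, Nat.mod_eq_of_lt (by omega)]
    omega
  · rw [if_neg hzs]
    have h1 := h84cyc_bwd n s l h (z.val - s - 1) (by omega)
    rw [show z.val - s - 1 + 1 = z.val - s by omega, Nat.mod_eq_of_lt (by omega),
      show s + (z.val - s) = z.val by omega, h84fz_self] at h1
    rw [h1, h84fz_val, Nat.mod_eq_of_lt (by omega)]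
    omega

theorem h84card_Ico (n a b : ℕ) (hb : b ≤ n + 1) :
    (Finset.univ.filter (fun z : Fin (n + 1) => a ≤ z.val ∧ z.val < b)).card = b - a := by
  have : (Finset.univ.filter (fun z : Fin (n + 1) => a ≤ z.val ∧ z.val < b)).map Fin.valEmbedding
      = Finset.Ico a b := by
    ext i
    simp only [Finset.mem_map, Finset.mem_filter, Finset.mem_univ, true_and, Finset.mem_Ico,
      Fin.valEmbedding_apply]
    constructor
    · rintro ⟨z, hz, rfl⟩
      exact hz
    · intro hi
      exact ⟨⟨i, by omega⟩, hi, rfl⟩
  rw [← Finset.card_map Fin.valEmbedding, this, Nat.card_Ico]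

/-- the weight of an interval in the fixed point count -/
def h84w (a : ℕ × Bool) : ℕ := if a.2 then 0 else a.1 - 1

/-- the number of fixed points of `finRotate * b` -/
theorem h84count (n : ℕ) (hn : 2 ≤ n) (L : List (ℕ × Bool)) :
    ∀ s : ℕ, s + h84sum L ≤ n + 1 → (∀ a ∈ L, 3 ≤ a.1 ∧ a.1 < n + 1) →
      (Finset.univ.filter (fun z : Fin (n + 1) => (finRotate (n + 1) * h84B n L s) z = z)).card =
        (L.map h84w).sum := by
  induction L with
  | nil =>
    intro s _ _
    rw [List.map_nil, List.sum_nil, Finset.card_eq_zero, Finset.filter_eq_empty_iff]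
    intro z _
    rw [h84B_nil, mul_one, h84rot]
    omega
  | cons a L ih =>
    obtain ⟨l, d⟩ := a
    intro s hs h3
    rw [h84sum_cons] at hs
    have hl := h3 (l, d) List.mem_cons_self
    simp only at hl
    have ih' := ih (s + l) (by omega) (fun a ha => h3 a (List.mem_cons_of_mem _ ha))
    rw [List.map_cons, List.sum_cons, ← ih']
    rw [← Finset.card_filter_add_card_filter_not (fun z : Fin (n + 1) => s ≤ z.val ∧ z.val < s + l)]
    congr 1
    · -- inside the first interval
      rw [Finset.filter_filter]
      cases d
      · -- backward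
        have hset : Finset.univ.filter (fun z : Fin (n + 1) =>
            (finRotate (n + 1) * h84B n ((l, false) :: L) s) z = z ∧ (s ≤ z.val ∧ z.val < s + l)) =
            Finset.univ.filter (fun z : Fin (n + 1) => s + 1 ≤ z.val ∧ z.val < s + l) := by
          ext z
          simp only [Finset.mem_filter, Finset.mem_univ, true_and]
          constructor
          · rintro ⟨h1, h2⟩
            rw [Perm.mul_apply, h84B_cons_in n l false L s hs z h2, h84rot,
              h84cyc_bwd_val n s l (by omega) z h2] at h1
            by_cases hzs : z.val = s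
            · rw [if_pos hzs] at h1
              omega
            · omega
          · intro h2
            have h2' : s ≤ z.val ∧ z.val < s + l := by omega
            refine ⟨?_, h2'⟩
            rw [Perm.mul_apply, h84B_cons_in n l false L s hs z h2', h84rot,
              h84cyc_bwd_val n s l (by omega) z h2', if_neg (by omega)]
            omega
        rw [hset, h84card_Ico n (s + 1) (s + l) (by omega)]
        simp only [h84w, Bool.false_eq_true, if_false]
        omega
      · -- forward
        simp only [h84w, if_true]
        rw [Finset.card_eq_zero, Finset.filter_eq_empty_iff]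
        rintro z - ⟨h1, h2⟩
        rw [Perm.mul_apply, h84B_cons_in n l true L s hs z h2, h84rot,
          h84cyc_fwd_val n s l (by omega) z h2] at h1
        by_cases hlast : z.val + 1 = s + l
        · rw [show z.val - s + 1 = l by omega, Nat.mod_self] at h1
          omega
        · rw [Nat.mod_eq_of_lt (by omega)] at h1
          omega
    · -- outside the first interval
      rw [Finset.filter_filter]
      congr 1
      ext z
      simp only [Finset.mem_filter, Finset.mem_univ, true_and]
      constructor
      · rintro ⟨h1, h2⟩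
        rw [Perm.mul_apply, h84B_cons_out n l d L s hs z h2] at h1
        rw [Perm.mul_apply]
        exact h1
      · intro h1
        have h2 : ¬ (s ≤ z.val ∧ z.val < s + l) := by
          intro h2
          rw [Perm.mul_apply, h84B_fix n L (s + l) (by omega) z (by omega), h84rot] at h1
          omega
        refine ⟨?_, h2⟩
        rw [Perm.mul_apply, h84B_cons_out n l d L s hs z h2]
        rw [Perm.mul_apply] at h1
        exact h1

/-- on reversed intervals of lengths divisible by `p`, `b z ≡ z` or `z - 1` modulo `p` -/
theorem h84rev (n p : ℕ) (L : List (ℕ × Bool)) :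
    ∀ s : ℕ, s + h84sum L ≤ n + 1 → (∀ a ∈ L, a.2 = false ∧ 1 ≤ a.1 ∧ p ∣ a.1) →
      ∀ z : Fin (n + 1), ∃ c : ℕ, (h84B n L s z).val = z.val + p * c ∨
        (h84B n L s z).val + 1 = z.val + p * c := by
  induction L with
  | nil =>
    intro s _ _ z
    exact ⟨0, Or.inl (by rw [h84B_nil]; simp)⟩
  | cons a L ih =>
    obtain ⟨l, d⟩ := a
    intro s hs h3 z
    rw [h84sum_cons] at hs
    obtain ⟨hd, hl1, c, hc⟩ := h3 (l, d) List.mem_cons_self
    simp only at hd hl1 hc
    subst hd
    by_cases hz : s ≤ z.val ∧ z.val < s + l
    · rw [h84B_cons_in n l false L s hs z hz, h84cyc_bwd_val n s l (by omega) z hz]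
      by_cases hzs : z.val = s
      · rw [if_pos hzs]
        refine ⟨c, Or.inr ?_⟩
        rw [← hc]
        omega
      · rw [if_neg hzs]
        refine ⟨0, Or.inr ?_⟩
        omega
    · rw [h84B_cons_out n l false L s hs z hz]
      exact ih (s + l) (by omega) (fun a ha => h3 a (List.mem_cons_of_mem _ ha)) z

end Cfsg.Agent.Lib.helper95.AP
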