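import Cfsg.Agent.Lib.helper84.APINTVb

set_option autoImplicit false

namespace Cfsg.Agent.Lib.helper95.AP

open Equiv

theorem h84sum_pred (R : List ℕ) (h : ∀ l ∈ R, 1 ≤ l) :
    (R.map (fun l => l - 1)).sum + R.length = R.sum := by
  induction R with
  | nil => simp
  | cons r R ih =>
    have h1 := h r List.mem_cons_self
    have h2 := ih (fun l hl => h l (List.mem_cons_of_mem _ hl))
    simp only [List.map_cons, List.sum_cons, List.length_cons]
    omega

theorem h84sum_ge (R : List ℕ) (c : ℕ) (h : ∀ l ∈ R, c ≤ l) : c * R.length ≤ R.sum := by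
  induction R with
  | nil => simp
  | cons r R ih =>
    have h1 := h r List.mem_cons_self
    have h2 := ih (fun l hl => h l (List.mem_cons_of_mem _ hl))
    simp only [List.sum_cons, List.length_cons]
    rw [Nat.mul_succ]
    omega

theorem h84sum_le (R : List ℕ) (c : ℕ) (h : ∀ l ∈ R, l ≤ c) : R.sum ≤ R.length * c := by
  induction R with
  | nil => simp
  | cons r R ih =>
    have h1 := h r List.mem_cons_self
    have h2 := ih (fun l hl => h l (List.mem_cons_of_mem _ hl))
    simp only [List.sum_cons, List.length_cons]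
    rw [Nat.succ_mul]
    omega

theorem h84nd (p : ℕ) (hp3 : 3 ≤ p) (c : ℤ) (hc : c = 1 ∨ c = 2 ∨ c = -1) (q : ℤ) :
    ¬ (p : ℤ) ∣ c - p * q := by
  rintro ⟨d, hd⟩
  have h3 : (3 : ℤ) ≤ p := by exact_mod_cast hp3
  have h1 : (p : ℤ) * (d + q) = c := by linarith
  rcases hc with rfl | rfl | rfl
  · rcases le_or_gt (d + q) 0 with h | h
    · nlinarith
    · nlinarith
  · rcases le_or_gt (d + q) 0 with h | h
    · nlinarith
    · nlinarith
  · rcases le_or_gt 0 (d + q) with h | h
    · nlinarith
    · nlinarith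

theorem h84TL (p : ℕ) (hp : p.Prime) (e : ℕ) (X : List ℕ) (l : ℕ)
    (hX : ∀ x ∈ X, l ≤ x ∧ ∃ i, x = p ^ i) (hl : ∃ j, l = p ^ j ∧ l < p ^ e)
    (hsum : X.sum + l = p ^ e) : l ∈ X := by
  by_contra hmem
  obtain ⟨j, rfl, hlt⟩ := hl
  have hje : j < e := (Nat.pow_lt_pow_iff_right hp.one_lt).mp hlt
  have hdiv : ∀ x ∈ X, p ^ (j + 1) ∣ x := by
    intro x hx
    obtain ⟨hle, i, rfl⟩ := hX x hx
    have hne : p ^ i ≠ p ^ j := fun h => hmem (h ▸ hx)
    have hlt' : p ^ j < p ^ i := lt_of_le_of_ne hle (Ne.symm hne)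
    have := (Nat.pow_lt_pow_iff_right hp.one_lt).mp hlt'
    exact pow_dvd_pow p (by omega)
  have h1 : p ^ (j + 1) ∣ X.sum := List.dvd_sum hdiv
  have h2 : p ^ (j + 1) ∣ X.sum + p ^ j := by
    rw [hsum]
    exact pow_dvd_pow p (by omega)
  have h3 : p ^ (j + 1) ∣ p ^ j := (Nat.dvd_add_right h1).mp h2
  have h4 := Nat.le_of_dvd (pow_pos hp.pos j) h3
  have h5 : p ^ j < p ^ (j + 1) := Nat.pow_lt_pow_right hp.one_lt (by omega)
  omega

/-- the swap of the intervals `[u, u + l)` and `[u + l, u + 2 l)` by translation -/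
def h84tau (n u l : ℕ) : Perm (Fin (n + 1)) := ((h84ivl n u (2 * l)).formPerm) ^ l

theorem h84tau_val (n u l : ℕ) (h : u + 2 * l ≤ n + 1) (hl : 1 ≤ l) (z : Fin (n + 1)) :
    (h84tau n u l z).val = if z.val < u then z.val else if z.val < u + l then z.val + l
      else if z.val < u + 2 * l then z.val - l else z.val := by
  unfold h84tau
  by_cases hz : u ≤ z.val ∧ z.val < u + 2 * l
  · have h1 := List.formPerm_pow_apply_getElem (h84ivl n u (2 * l)) (h84ivl_nodup n u (2 * l) h) l
      (z.val - u) (by rw [h84ivl_length]; omega)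
    simp only [h84ivl_getElem, h84ivl_length] at h1
    rw [show u + (z.val - u) = z.val by omega, h84fz_self] at h1
    rw [h1, h84fz_val]
    by_cases hz1 : z.val < u + l
    · rw [if_neg (by omega), if_pos hz1, Nat.mod_eq_of_lt (a := z.val - u + l) (by omega),
        Nat.mod_eq_of_lt (by omega)]
      omega
    · rw [if_neg (by omega), if_neg hz1, if_pos hz.2]
      have : (z.val - u + l) % (2 * l) = z.val - u - l := by
        rw [show z.val - u + l = (z.val - u - l) + 2 * l by omega, Nat.add_mod_right,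
          Nat.mod_eq_of_lt (by omega)]
      rw [this, Nat.mod_eq_of_lt (by omega)]
      omega
  · have hz' : z ∉ h84ivl n u (2 * l) := fun hm => hz ((h84mem_ivl n u (2 * l) h z).mp hm)
    rw [Perm.pow_apply_eq_self_of_apply_eq_self (List.formPerm_apply_of_notMem hz') l]
    by_cases hz1 : z.val < u
    · rw [if_pos hz1]
    · rw [if_neg hz1, if_neg (by omega), if_neg (by omega)]

theorem h84tau_sign (n u l : ℕ) (h : u + 2 * l ≤ n + 1) (hl : Odd l) :
    Perm.sign (h84tau n u l) = -1 := by
  unfold h84tau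
  have hl1 : 1 ≤ l := hl.pos
  have hnd := h84ivl_nodup n u (2 * l) h
  have hcyc : Perm.IsCycle ((h84ivl n u (2 * l)).formPerm) :=
    List.isCycle_formPerm hnd (by rw [h84ivl_length]; omega)
  have hne : ∀ x : Fin (n + 1), h84ivl n u (2 * l) ≠ [x] := by
    intro x hx
    have := congrArg List.length hx
    rw [h84ivl_length, List.length_singleton] at this
    omega
  rw [map_pow, hcyc.sign, List.support_formPerm_of_nodup _ hnd hne,
    List.toFinset_card_of_nodup hnd, h84ivl_length, pow_mul, neg_one_sq, one_pow, hl.neg_one_pow]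

/-- the commutation of `h84tau` with a product ending in two equal reversed intervals -/
theorem h84tau_comm (n : ℕ) (LD₀ : List (ℕ × Bool)) (l : ℕ) (hl : 1 ≤ l)
    (hfit : h84sum LD₀ + 2 * l = n + 1) :
    h84tau n (h84sum LD₀) l * h84B n (LD₀ ++ [(l, false), (l, false)]) 0 *
      (h84tau n (h84sum LD₀) l)⁻¹ = h84B n (LD₀ ++ [(l, false), (l, false)]) 0 := by
  rw [mul_inv_eq_iff_eq_mul]
  have h1l : h84sum [(l, false)] = l := by
    simp [h84sum]
  have hu : h84sum [(l, false), (l, false)] = 2 * l := by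
    rw [h84sum_cons, h1l, two_mul]
  have hb : h84B n (LD₀ ++ [(l, false), (l, false)]) 0 =
      h84B n LD₀ 0 * h84B n [(l, false), (l, false)] (h84sum LD₀) := by
    rw [h84B_append, zero_add]
  have hfit0 : 0 + h84sum LD₀ ≤ n + 1 := by omega
  have hfit2 : h84sum LD₀ + h84sum [(l, false), (l, false)] ≤ n + 1 := by omega
  -- values of b
  have hbhi : ∀ z : Fin (n + 1), h84sum LD₀ ≤ z.val →
      (h84B n (LD₀ ++ [(l, false), (l, false)]) 0 z).val =
        if z.val < h84sum LD₀ + l then (if z.val = h84sum LD₀ then h84sum LD₀ + l - 1 else z.val - 1)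
        else (if z.val = h84sum LD₀ + l then h84sum LD₀ + 2 * l - 1 else z.val - 1) := by
    intro z hz
    have hzlt := z.isLt
    have hmem := h84B_mem n [(l, false), (l, false)] (h84sum LD₀) hfit2 z (by omega)
    rw [hb, Perm.mul_apply, h84B_fix n LD₀ 0 hfit0 _ (by omega)]
    by_cases hz1 : z.val < h84sum LD₀ + l
    · rw [if_pos hz1, h84B_cons_in n l false [(l, false)] (h84sum LD₀)
        (by rw [h1l]; omega) z ⟨hz, hz1⟩,
        h84cyc_bwd_val n (h84sum LD₀) l (by omega) z ⟨hz, hz1⟩]
    · rw [if_neg hz1, h84B_cons_out n l false [(l, false)] (h84sum LD₀)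
        (by rw [h1l]; omega) z (by omega),
        h84B_cons_in n l false [] (h84sum LD₀ + l) (by rw [h84sum_nil]; omega) z (by omega),
        h84cyc_bwd_val n (h84sum LD₀ + l) l (by omega) z (by omega)]
      by_cases hz2 : z.val = h84sum LD₀ + l
      · rw [if_pos hz2, if_pos hz2]
        omega
      · rw [if_neg hz2, if_neg hz2]
  have hblo : ∀ z : Fin (n + 1), z.val < h84sum LD₀ →
      (h84B n (LD₀ ++ [(l, false), (l, false)]) 0 z).val < h84sum LD₀ := by
    intro z hz
    rw [hb, Perm.mul_apply, h84B_fix n [(l, false), (l, false)] (h84sum LD₀) hfit2 z (by omega)]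
    have := h84B_mem n LD₀ 0 hfit0 z (by omega)
    omega
  ext z
  rw [Perm.mul_apply, Perm.mul_apply]
  have hτ := h84tau_val n (h84sum LD₀) l (by omega) hl
  have hzlt := z.isLt
  by_cases hz0 : z.val < h84sum LD₀
  · have h1 := hblo z hz0
    have h2 := hτ z
    rw [if_pos hz0] at h2
    have h3 : h84tau n (h84sum LD₀) l z = z := Fin.ext h2
    rw [h3, hτ, if_pos h1]
  · have hz0' : h84sum LD₀ ≤ z.val := by omega
    have h1 := hbhi z hz0'
    have h2 := hτ z
    rw [if_neg hz0] at h2
    rw [hτ, h1]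
    by_cases hz1 : z.val < h84sum LD₀ + l
    · rw [if_pos hz1] at h2 ⊢
      have h4 : h84sum LD₀ ≤ (h84tau n (h84sum LD₀) l z).val := by omega
      rw [hbhi _ h4, h2]
      by_cases hz2 : z.val = h84sum LD₀
      · rw [if_pos hz2, if_neg (by omega), if_pos (by omega), if_neg (by omega), if_pos (by omega)]
        omega
      · rw [if_neg hz2, if_neg (by omega), if_pos (by omega), if_neg (by omega), if_neg (by omega)]
        omega
    · rw [if_neg hz1] at h2 ⊢
      rw [if_pos (by omega)] at h2
      have h4 : h84sum LD₀ ≤ (h84tau n (h84sum LD₀) l z).val := by omega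
      rw [hbhi _ h4, h2]
      by_cases hz2 : z.val = h84sum LD₀ + l
      · rw [if_pos hz2, if_neg (by omega), if_neg (by omega), if_pos (by omega), if_pos (by omega),
          if_pos (by omega)]
        omega
      · rw [if_neg hz2, if_neg (by omega), if_neg (by omega), if_pos (by omega), if_pos (by omega),
          if_neg (by omega)]
        omega

end Cfsg.Agent.Lib.helper95.AP
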