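import Cfsg.Agent.Lib.helper84.APINTVd

set_option autoImplicit false

namespace Cfsg.Agent.Lib.helper95.AP

open Equiv

/-- [INTV] with the good pair criterion GPC as a hypothesis (racer copy by helper84). -/
theorem helper84_intv_core
    (hgpc : ∀ (p : ℕ) (_ : p.Prime) (_ : 3 ≤ p) (e : ℕ) (_ : 1 ≤ e) (b : Perm (Fin (p ^ e)))
      (x y : Fin (p ^ e)) (_ : ((p ^ (e - 1) : ℕ) : ℤ) ∣ ((x : ℕ) : ℤ) - ((y : ℕ) : ℤ))
      (_ : ¬ (p : ℤ) ∣ (((b x : Fin (p ^ e)) : ℕ) : ℤ) - (((b y : Fin (p ^ e)) : ℕ) : ℤ))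
      (f : ℕ)
      (_ : (Finset.univ.filter (fun z : Fin (p ^ e) => (finRotate (p ^ e) * b) z = z)).card = f)
      (_ : 2 ≤ f) (_ : ¬ p ∣ f), Good p (finRotate (p ^ e)) b)
    (p : ℕ) (hp : p.Prime) (hp3 : 3 ≤ p) (e : ℕ) (L : List ℕ) (hL0 : L ≠ [])
    (hsort : L.Pairwise (· ≥ ·)) (hpow : ∀ l ∈ L, ∃ j : ℕ, 1 ≤ j ∧ l = p ^ j ∧ l < p ^ e)
    (hsum : L.sum ≤ p ^ e) :
    ∃ b : Perm (Fin (p ^ e)), b.cycleType = (L : Multiset ℕ) ∧ GoodBoth p (finRotate (p ^ e)) b := by
  have ht1 : 1 ≤ L.length := List.length_pos_iff.mpr hL0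
  obtain ⟨k, hk_lt, hk_le2, hk_dvd, hk0, hk2⟩ : ∃ k, k < L.length ∧ k ≤ 2 ∧
      ¬ p ∣ (L.length - k) ∧ (k = 0 → L.length = 1) ∧ (k = 2 → 4 ≤ L.length) := by
    by_cases h1 : L.length = 1
    · refine ⟨0, by omega, by omega, ?_, fun _ => h1, by omega⟩
      rw [h1]
      intro h
      have := Nat.le_of_dvd (by omega) h
      omega
    · by_cases h2 : L.length % p = 1
      · have h4 : 4 ≤ L.length := by
          by_contra hcon
          rcases Nat.lt_or_ge L.length p with hlt | hge
          · rw [Nat.mod_eq_of_lt hlt] at h2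
            exact h1 h2
          · have hp3' : L.length = p := by omega
            rw [hp3', Nat.mod_self] at h2
            omega
        refine ⟨2, by omega, le_refl 2, ?_, by omega, fun _ => h4⟩
        intro hd
        have hd1 : p ∣ L.length - 1 :=
          (Nat.modEq_iff_dvd' (by omega : 1 ≤ L.length)).mp (by
            unfold Nat.ModEq
            rw [h2, Nat.mod_eq_of_lt (by omega)])
        have h3 : p ∣ (L.length - 1) - (L.length - 2) := Nat.dvd_sub hd1 hd
        rw [show L.length - 1 - (L.length - 2) = 1 by omega] at h3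
        have := Nat.le_of_dvd (by omega) h3
        omega
      · refine ⟨1, by omega, by omega, ?_, by omega, by omega⟩
        intro hd
        apply h2
        obtain ⟨c, hc⟩ := hd
        have h3 : L.length = 1 + p * c := by omega
        rw [h3, Nat.add_mul_mod_self_left, Nat.mod_eq_of_lt (by omega)]
  have hFR : L.take k ++ L.drop k = L := List.take_append_drop k L
  have hFlen : (L.take k).length = k := by
    rw [List.length_take]
    omega
  have hRlen : (L.drop k).length = L.length - k := List.length_drop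
  have key : ∀ M : ℕ, M = p ^ e → ∃ b : Perm (Fin M), b.cycleType = (L : Multiset ℕ) ∧
      (∃ x y : Fin M, ((p ^ (e - 1) : ℕ) : ℤ) ∣ ((x : ℕ) : ℤ) - ((y : ℕ) : ℤ) ∧
        ¬ (p : ℤ) ∣ (((b x : Fin M) : ℕ) : ℤ) - (((b y : Fin M) : ℕ) : ℤ)) ∧
      (∃ f : ℕ, (Finset.univ.filter (fun z : Fin M => (finRotate M * b) z = z)).card = f ∧
        2 ≤ f ∧ ¬ p ∣ f) ∧
      ∃ τ : Perm (Fin M), Perm.sign τ = -1 ∧ τ * b * τ⁻¹ = b := by
    intro M hM
    cases M with
    | zero =>
      exfalso
      have := pow_pos hp.pos e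
      omega
    | succ n =>
      have h := h84core2 p hp hp3 e n hM (L.take k) (L.drop k) (by rw [hFR]; exact hsort)
        (by rw [hFR]; exact hpow) (by rw [hFR]; exact hsum) (by omega)
        (by
          intro h0
          have := congrArg List.length h0
          rw [hRlen] at this
          simp at this
          omega)
        (by rw [hRlen]; exact hk_dvd)
        (by
          intro h0
          have := congrArg List.length h0
          rw [hFlen] at this
          simp at this
          rw [hRlen, hk0 this, this])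
        (by
          intro h2
          rw [hFlen] at h2
          have := hk2 h2
          rw [hRlen]
          omega)
      rw [hFR] at h
      exact h
  obtain ⟨b, hct, ⟨x, y, hxy, hbxy⟩, ⟨f, hf, hf2, hfp⟩, τ, hτ, hτb⟩ := key (p ^ e) rfl
  have he1 : 1 ≤ e := by
    obtain ⟨l0, hl0⟩ := List.exists_mem_of_ne_nil L hL0
    obtain ⟨j, hj1, hlj, hlt⟩ := hpow l0 hl0
    rw [hlj] at hlt
    have := (Nat.pow_lt_pow_iff_right hp.one_lt).mp hlt
    omega
  have hgood : Good p (finRotate (p ^ e)) b := hgpc p hp hp3 e he1 b x y hxy hbxy f hf hf2 hfp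
  exact ⟨b, hct, hgood, τ, hτ, by rw [hτb]; exact hgood⟩

end Cfsg.Agent.Lib.helper95.AP
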