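import Cfsg.Agent.Lib.helper84.APINTVc

set_option autoImplicit false

namespace Cfsg.Agent.Lib.helper95.AP

open Equiv

set_option maxHeartbeats 1000000 in
/-- the interval model for a prescribed splitting `F ++ R` into forward and reversed parts -/
theorem h84core2 (p : ℕ) (hp : p.Prime) (hp3 : 3 ≤ p) (e : ℕ) (n : ℕ) (hn : n + 1 = p ^ e)
    (F R : List ℕ) (hsort : (F ++ R).Pairwise (· ≥ ·))
    (hpow : ∀ l ∈ F ++ R, ∃ j : ℕ, 1 ≤ j ∧ l = p ^ j ∧ l < p ^ e)
    (hsum : (F ++ R).sum ≤ p ^ e)
    (hFlen : F.length ≤ 2) (hR : R ≠ []) (hk : ¬ p ∣ R.length) (hF0 : F = [] → R.length = 1)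
    (hF2 : F.length = 2 → 2 ≤ R.length) :
    ∃ b : Perm (Fin (n + 1)), b.cycleType = ((F ++ R : List ℕ) : Multiset ℕ) ∧
      (∃ x y : Fin (n + 1), ((p ^ (e - 1) : ℕ) : ℤ) ∣ ((x : ℕ) : ℤ) - ((y : ℕ) : ℤ) ∧
        ¬ (p : ℤ) ∣ (((b x : Fin (n + 1)) : ℕ) : ℤ) - (((b y : Fin (n + 1)) : ℕ) : ℤ)) ∧
      (∃ f : ℕ, (Finset.univ.filter
          (fun z : Fin (n + 1) => (finRotate (n + 1) * b) z = z)).card = f ∧ 2 ≤ f ∧ ¬ p ∣ f) ∧
      ∃ τ : Perm (Fin (n + 1)), Perm.sign τ = -1 ∧ τ * b * τ⁻¹ = b := by
  classical
  obtain ⟨r0, hr0⟩ : ∃ r0, r0 ∈ R := List.exists_mem_of_ne_nil R hR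
  have hpowR : ∀ l ∈ F ++ R, 3 ≤ l ∧ l < n + 1 ∧ p ∣ l := by
    intro l hl
    obtain ⟨j, hj1, hlj, hlt⟩ := hpow l hl
    refine ⟨?_, by omega, ?_⟩
    · rw [hlj]
      calc 3 ≤ p := hp3
        _ = p ^ 1 := (pow_one p).symm
        _ ≤ p ^ j := Nat.pow_le_pow_right hp.pos hj1
    · rw [hlj]
      exact dvd_pow_self p (by omega)
  have he2 : 2 ≤ e := by
    obtain ⟨j, hj1, hlj, hlt⟩ := hpow r0 (List.mem_append_right F hr0)
    rw [hlj] at hlt
    have := (Nat.pow_lt_pow_iff_right hp.one_lt).mp hlt
    omega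
  obtain ⟨q, hq⟩ : ∃ q, q = p ^ (e - 1) := ⟨_, rfl⟩
  have hnq : n + 1 = p * q := by
    rw [hn, hq, ← pow_succ']
    congr 1
    omega
  have hpq : p ∣ q := by
    rw [hq]
    exact dvd_pow_self p (by omega)
  have hq0 : 0 < q := by
    rw [hq]
    exact pow_pos hp.pos _
  have hqp : p ≤ q := Nat.le_of_dvd hq0 hpq
  have hle_q : ∀ l ∈ F ++ R, l ≤ q := by
    intro l hl
    obtain ⟨j, hj1, hlj, hlt⟩ := hpow l hl
    rw [hlj] at hlt ⊢
    have := (Nat.pow_lt_pow_iff_right hp.one_lt).mp hlt
    rw [hq]
    exact Nat.pow_le_pow_right hp.pos (by omega)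
  obtain ⟨m, hm⟩ : ∃ m, m = (p - 1) * q := ⟨_, rfl⟩
  have hmq : m + q = p * q := by
    rw [hm, ← Nat.succ_mul, Nat.succ_eq_add_one, Nat.sub_add_cancel hp.one_le]
  have h2qm : 2 * q ≤ m := by
    rw [hm]
    exact Nat.mul_le_mul_right q (by omega)
  have hpm : p ∣ m := by
    rw [hm]
    exact Dvd.dvd.mul_left hpq _
  have hqm : q ∣ m := by
    rw [hm]
    exact Dvd.intro_left _ rfl
  have hn2 : 2 ≤ n := by nlinarith
  -- the list of intervals
  obtain ⟨LD, hLD⟩ : ∃ LD : List (ℕ × Bool),
      LD = F.map (fun l => (l, true)) ++ R.map (fun l => (l, false)) := ⟨_, rfl⟩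
  have hsF : h84sum (F.map (fun l => (l, true))) = F.sum := by
    unfold h84sum
    rw [List.map_map]
    congr 1
    exact List.map_id' F
  have hsR : h84sum (R.map (fun l => (l, false))) = R.sum := by
    unfold h84sum
    rw [List.map_map]
    congr 1
    exact List.map_id' R
  have hfst : LD.map Prod.fst = F ++ R := by
    rw [hLD, List.map_append, List.map_map, List.map_map]
    congr 1
    · exact List.map_id' F
    · exact List.map_id' R
  have hsumLD : h84sum LD = (F ++ R).sum := by
    unfold h84sum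
    rw [hfst]
  have hsumFR : (F ++ R).sum = F.sum + R.sum := List.sum_append
  have hfit : 0 + h84sum LD ≤ n + 1 := by
    rw [hsumLD]
    omega
  have hLD3 : ∀ a ∈ LD, 3 ≤ a.1 ∧ a.1 < n + 1 := by
    intro a ha
    have h1 : a.1 ∈ LD.map Prod.fst := List.mem_map_of_mem ha
    rw [hfst] at h1
    have := hpowR a.1 h1
    omega
  have hFsum : F.sum ≤ m := by
    have h1 := h84sum_le F q (fun l hl => hle_q l (List.mem_append_left R hl))
    have h2 : F.length * q ≤ 2 * q := Nat.mul_le_mul_right q hFlen
    omega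
  refine ⟨h84B n LD 0, ?_, ?_, ?_, ?_⟩
  · -- cycle type
    rw [h84B_cycleType n LD 0 hfit (fun a ha => by have := hLD3 a ha; omega), hfst]
  · -- the witness
    have hx1 : 1 < n + 1 := by omega
    have hy1 : 1 + m < n + 1 := by omega
    refine ⟨⟨1, hx1⟩, ⟨1 + m, hy1⟩, ?_, ?_⟩
    · have h1 : (((⟨1, hx1⟩ : Fin (n + 1)) : ℕ) : ℤ) - (((⟨1 + m, hy1⟩ : Fin (n + 1)) : ℕ) : ℤ)
          = -(m : ℤ) := by
        push_cast
        ring
      rw [h1, ← hq]
      exact (Int.natCast_dvd_natCast.mpr hqm).neg_right
    · -- value at y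
      obtain ⟨c₀, hc₀⟩ := hpm
      have hby : ∃ c : ℕ, (h84B n LD 0 ⟨1 + m, hy1⟩).val = 1 + m + p * c ∨
          (F ≠ [] ∧ (h84B n LD 0 ⟨1 + m, hy1⟩).val + 1 = 1 + m + p * c) := by
        rw [hLD, h84B_append, Perm.mul_apply, zero_add, hsF]
        have hfitR : F.sum + h84sum (R.map (fun l => (l, false))) ≤ n + 1 := by
          rw [hsR]
          omega
        have hw : F.sum ≤ (h84B n (R.map (fun l => (l, false))) F.sum ⟨1 + m, hy1⟩).val := by
          by_cases hin : (⟨1 + m, hy1⟩ : Fin (n + 1)).val < F.sum + h84sum (R.map (fun l => (l, false)))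
          · have := h84B_mem n (R.map (fun l => (l, false))) F.sum hfitR ⟨1 + m, hy1⟩
              ⟨by show F.sum ≤ 1 + m; omega, hin⟩
            exact this.1
          · rw [h84B_fix n (R.map (fun l => (l, false))) F.sum hfitR ⟨1 + m, hy1⟩ (fun h => hin h.2)]
            show F.sum ≤ 1 + m
            omega
        rw [h84B_fix n (F.map (fun l => (l, true))) 0 (by rw [hsF]; omega) _ (by rw [hsF]; omega)]
        by_cases hF : F = []
        · have hR1 := hF0 hF
          obtain ⟨r, hr⟩ := List.length_eq_one_iff.mp hR1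
          have hrq : r ≤ q := hle_q r (by rw [hr]; simp)
          refine ⟨0, Or.inl ?_⟩
          rw [h84B_fix n (R.map (fun l => (l, false))) F.sum hfitR ⟨1 + m, hy1⟩ (by
            rw [hsR, hF, hr]
            simp only [List.sum_nil, List.sum_cons, zero_add, add_zero]
            omega)]
          simp
        · obtain ⟨c, hc⟩ := h84rev n p (R.map (fun l => (l, false))) F.sum hfitR (by
            intro a ha
            rw [List.mem_map] at ha
            obtain ⟨l, hl, rfl⟩ := ha
            have := hpowR l (List.mem_append_right F hl)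
            exact ⟨rfl, by omega, this.2.2⟩) ⟨1 + m, hy1⟩
          refine ⟨c, ?_⟩
          rcases hc with hc | hc
          · exact Or.inl hc
          · exact Or.inr ⟨hF, hc⟩
      -- value at x
      have hbx : (F = [] → (h84B n LD 0 ⟨1, hx1⟩).val = 0) ∧
          (F ≠ [] → (h84B n LD 0 ⟨1, hx1⟩).val = 2) := by
        constructor
        · intro hF
          have hR1 := hF0 hF
          obtain ⟨r, hr⟩ := List.length_eq_one_iff.mp hR1
          have hr3 := hpowR r (by rw [hr]; simp)
          have hLD' : LD = [(r, false)] := by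
            rw [hLD, hF, hr]
            rfl
          rw [hLD', h84B_cons_in n r false [] 0 (by rw [h84sum_nil]; omega) ⟨1, hx1⟩
            ⟨Nat.zero_le _, by show 1 < 0 + r; omega⟩,
            h84cyc_bwd_val n 0 r (by omega) ⟨1, hx1⟩ ⟨Nat.zero_le _, by show 1 < 0 + r; omega⟩]
          simp
        · intro hF
          obtain ⟨f₁, F', hF'⟩ := List.exists_cons_of_ne_nil hF
          have hf3 := hpowR f₁ (by rw [hF']; simp)
          have hLD' : LD = (f₁, true) :: (F'.map (fun l => (l, true)) ++ R.map (fun l => (l, false))) := by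
            rw [hLD, hF']
            rfl
          have hs' : 0 + (f₁ + h84sum (F'.map (fun l => (l, true)) ++ R.map (fun l => (l, false))))
              ≤ n + 1 := by
            have := hfit
            rw [hLD', h84sum_cons] at this
            exact this
          rw [hLD', h84B_cons_in n f₁ true _ 0 hs' ⟨1, hx1⟩
            ⟨Nat.zero_le _, by show 1 < 0 + f₁; omega⟩,
            h84cyc_fwd_val n 0 f₁ (by omega) ⟨1, hx1⟩ ⟨Nat.zero_le _, by show 1 < 0 + f₁; omega⟩]
          show 0 + (1 - 0 + 1) % f₁ = 2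
          rw [Nat.mod_eq_of_lt (by omega)]
      obtain ⟨c, hc⟩ := hby
      by_cases hF : F = []
      · rw [hbx.1 hF]
        rcases hc with hc | ⟨hF', _⟩
        · rw [hc, hc₀]
          have h1 : ((0 : ℕ) : ℤ) - ((1 + p * c₀ + p * c : ℕ) : ℤ) = -1 - (p : ℤ) * (c₀ + c) := by
            push_cast
            ring
          rw [h1]
          exact h84nd p hp3 (-1) (by simp) _
        · exact absurd hF hF'
      · rw [hbx.2 hF]
        rcases hc with hc | ⟨_, hc⟩
        · rw [hc, hc₀]
          have h1 : ((2 : ℕ) : ℤ) - ((1 + p * c₀ + p * c : ℕ) : ℤ) = 1 - (p : ℤ) * (c₀ + c) := by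
            push_cast
            ring
          rw [h1]
          exact h84nd p hp3 1 (by simp) _
        · have hc' : (h84B n LD 0 ⟨1 + m, hy1⟩).val = p * c₀ + p * c := by omega
          rw [hc']
          have h1 : ((2 : ℕ) : ℤ) - ((p * c₀ + p * c : ℕ) : ℤ) = 2 - (p : ℤ) * (c₀ + c) := by
            push_cast
            ring
          rw [h1]
          exact h84nd p hp3 2 (by simp) _
  · -- the fixed point count
    have hcount := h84count n hn2 LD 0 hfit hLD3
    have hw : (LD.map h84w).sum = (R.map (fun l => l - 1)).sum := by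
      rw [hLD, List.map_append, List.sum_append, List.map_map, List.map_map]
      have h1 : (F.map (h84w ∘ fun l => (l, true))).sum = 0 := by
        apply List.sum_eq_zero
        intro x hx
        rw [List.mem_map] at hx
        obtain ⟨l, _, rfl⟩ := hx
        rfl
      rw [h1, zero_add]
      rfl
    have hR1 : ∀ l ∈ R, 1 ≤ l := fun l hl => by
      have := hpowR l (List.mem_append_right F hl)
      omega
    have hR3 : ∀ l ∈ R, 3 ≤ l := fun l hl => (hpowR l (List.mem_append_right F hl)).1
    have hpred := h84sum_pred R hR1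
    have hge := h84sum_ge R 3 hR3
    have hRlen : 1 ≤ R.length := List.length_pos_iff.mpr hR
    have hpR : p ∣ R.sum := List.dvd_sum (fun l hl => (hpowR l (List.mem_append_right F hl)).2.2)
    refine ⟨(R.map (fun l => l - 1)).sum, by rw [hcount, hw], by omega, ?_⟩
    intro hdvd
    apply hk
    rw [← hpred] at hpR
    exact (Nat.dvd_add_right hdvd).mp hpR
  · -- the odd permutation commuting with b
    by_cases hlt : (F ++ R).sum < n + 1
    · -- two fixed points
      have hpsum : p ∣ (F ++ R).sum := List.dvd_sum (fun l hl => (hpowR l hl).2.2)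
      obtain ⟨c₁, hc₁⟩ := hpsum
      have hc12 : c₁ < q := by
        by_contra hcon
        have : p * q ≤ p * c₁ := Nat.mul_le_mul_left p (by omega)
        omega
      have hgap : (F ++ R).sum + p ≤ n + 1 := by
        have : p * (c₁ + 1) ≤ p * q := Nat.mul_le_mul_left p (by omega)
        rw [Nat.mul_succ] at this
        omega
      have hz1 : n < n + 1 := by omega
      have hz2 : n - 1 < n + 1 := by omega
      have hne : (⟨n, hz1⟩ : Fin (n + 1)) ≠ ⟨n - 1, hz2⟩ := by
        intro h
        have := congrArg Fin.val h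
        simp only at this
        omega
      refine ⟨Equiv.swap ⟨n, hz1⟩ ⟨n - 1, hz2⟩, Perm.sign_swap hne, ?_⟩
      rw [mul_inv_eq_iff_eq_mul]
      have hdisj : Perm.Disjoint (Equiv.swap (⟨n, hz1⟩ : Fin (n + 1)) ⟨n - 1, hz2⟩) (h84B n LD 0) := by
        intro z
        by_cases hz : z = ⟨n, hz1⟩ ∨ z = ⟨n - 1, hz2⟩
        · right
          apply h84B_fix n LD 0 hfit z
          rw [hsumLD]
          rcases hz with rfl | rfl
          · show ¬ (0 ≤ n ∧ n < 0 + (F ++ R).sum)
            omega
          · show ¬ (0 ≤ n - 1 ∧ n - 1 < 0 + (F ++ R).sum)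
            omega
        · left
          exact Equiv.swap_apply_of_ne_of_ne (fun h => hz (Or.inl h)) (fun h => hz (Or.inr h))
      exact hdisj.commute.eq
    · -- the sum is everything: the last two intervals are equal and reversed
      have hsumeq : (F ++ R).sum = p ^ e := by omega
      obtain ⟨R₁, l, hR₁⟩ : ∃ R₁ l, R = R₁ ++ [l] := by
        rcases List.eq_nil_or_concat R with h | ⟨R₁, l, h⟩
        · exact absurd h hR
        · exact ⟨R₁, l, h.trans (List.concat_eq_append)⟩
      have hlmem : l ∈ F ++ R := by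
        rw [hR₁]
        simp
      obtain ⟨j, hj1, hlj, hllt⟩ := hpow l hlmem
      have hassoc : F ++ R = (F ++ R₁) ++ [l] := by
        rw [hR₁, List.append_assoc]
      have hsort1 := hsort
      rw [hassoc, List.pairwise_append] at hsort1
      obtain ⟨hsortX, -, hXl⟩ := hsort1
      have hsumX : (F ++ R₁).sum + l = p ^ e := by
        have h1 : (F ++ R).sum = (F ++ R₁).sum + l := by
          rw [hassoc, List.sum_append, List.sum_singleton]
        omega
      have hlX : l ∈ F ++ R₁ := by
        apply h84TL p hp e (F ++ R₁) l ?_ ⟨j, hlj, hllt⟩ hsumX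
        intro x hx
        refine ⟨hXl x hx l (by simp), ?_⟩
        obtain ⟨i, _, hxi, _⟩ := hpow x (by rw [hassoc]; exact List.mem_append_left _ hx)
        exact ⟨i, hxi⟩
      have hR₁ne : R₁ ≠ [] := by
        intro hR₁nil
        rw [hR₁nil, List.append_nil] at hlX hsumX
        have hRlen : R.length = 1 := by
          rw [hR₁, hR₁nil]
          rfl
        have hF1 : F.length = 1 := by
          have h1 : F ≠ [] := fun h => by rw [h] at hlX; simp at hlX
          have h2 : F.length ≠ 2 := fun h => by have := hF2 h; omega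
          have h3 : 0 < F.length := List.length_pos_iff.mpr h1
          omega
        obtain ⟨a, ha⟩ := List.length_eq_one_iff.mp hF1
        rw [ha] at hlX hsumX
        have hal : l = a := by simpa using hlX
        rw [← hal] at hsumX
        simp only [List.sum_cons, List.sum_nil, add_zero] at hsumX
        -- 2 l = p ^ e is impossible
        have hje : j < e := by
          rw [hlj] at hllt
          exact (Nat.pow_lt_pow_iff_right hp.one_lt).mp hllt
        have hdvd : p ^ (j + 1) ∣ l + l := by
          rw [hsumX]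
          exact pow_dvd_pow p (by omega)
        have hle := Nat.le_of_dvd (by have := (hpowR l hlmem).1; omega) hdvd
        rw [hlj, pow_succ] at hle
        have : p ^ j * 3 ≤ p ^ j * p := Nat.mul_le_mul_left _ hp3
        have hpos : 0 < p ^ j := pow_pos hp.pos j
        omega
      obtain ⟨R₀, m', hR₀⟩ : ∃ R₀ m', R₁ = R₀ ++ [m'] := by
        rcases List.eq_nil_or_concat R₁ with h | ⟨R₀, m', h⟩
        · exact absurd h hR₁ne
        · exact ⟨R₀, m', h.trans (List.concat_eq_append)⟩
      have hm'l : m' = l := by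
        have h1 : m' ≥ l := hXl m' (by rw [hR₀]; simp) l (by simp)
        have hassoc2 : F ++ R₁ = (F ++ R₀) ++ [m'] := by
          rw [hR₀, List.append_assoc]
        rw [hassoc2, List.pairwise_append] at hsortX
        obtain ⟨-, -, hXm⟩ := hsortX
        rw [hassoc2, List.mem_append] at hlX
        rcases hlX with hlX | hlX
        · have := hXm l hlX m' (by simp)
          omega
        · exact (List.mem_singleton.mp hlX).symm
      subst hm'l
      have hRfinal : R = R₀ ++ [m', m'] := by
        rw [hR₁, hR₀, List.append_assoc]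
        rfl
      obtain ⟨LD₀, hLD₀⟩ : ∃ LD₀ : List (ℕ × Bool),
          LD₀ = F.map (fun l => (l, true)) ++ R₀.map (fun l => (l, false)) := ⟨_, rfl⟩
      have hLDsplit : LD = LD₀ ++ [(m', false), (m', false)] := by
        rw [hLD, hLD₀, hRfinal, List.map_append, List.append_assoc]
        rfl
      have hl3 := hpowR m' hlmem
      have hfit' : h84sum LD₀ + 2 * m' = n + 1 := by
        have h1 : h84sum LD = h84sum LD₀ + h84sum [(m', false), (m', false)] := by
          rw [hLDsplit, h84sum_append]
        have h2 : h84sum [(m', false), (m', false)] = 2 * m' := by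
          simp [h84sum]
          omega
        rw [hsumLD, hsumeq] at h1
        omega
      have hodd : Odd m' := by
        rw [hlj]
        apply Odd.pow
        rcases hp.eq_two_or_odd' with h | h
        · omega
        · exact h
      refine ⟨h84tau n (h84sum LD₀) m', h84tau_sign n (h84sum LD₀) m' (by omega) hodd, ?_⟩
      rw [hLDsplit]
      exact h84tau_comm n LD₀ m' (by omega) hfit'

end Cfsg.Agent.Lib.helper95.AP
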