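import Mathlib
import Cfsg.Agent.Lib.helper2.BGDefs
import Cfsg.Agent.Lib.helper2.BFMain
import Cfsg.Agent.Lib.helper92.BFC5
import Cfsg.Agent.Lib.helper4.CharDecomp

/-!
# S4504, piece R03: the restriction of `χ` to the normal closure of an element of order `p`
is irreducible
-/

set_option autoImplicit false

open Cfsg

namespace Cfsg.Agent.Lib.helper2.BG

open Cfsg.Agent.Lib.helper2.BF Cfsg.Agent.Lib.helper92.BF

universe u

/-- If a faithful character is a sum of `Good` irreducible characters, there is a normal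
subgroup of order `p`. -/
theorem helper84_normal_of_good_list {K : Type u} [Group K] [Finite K] (p : ℕ) (hp : p.Prime)
    (hdiv : p ∣ Nat.card K) (hsq : ¬ p ^ 2 ∣ Nat.card K) (l : List (IrrCharacter K))
    (hfaith : ∀ g : K, (l.map Subtype.val).sum g = (l.map Subtype.val).sum 1 → g = 1)
    (hgood : ∀ ψ ∈ l, Good p K (ψ : K → ℂ)) :
    ∃ D : Subgroup K, D.Normal ∧ Nat.card D = p := by
  have : Fact p.Prime := ⟨hp⟩
  obtain ⟨D, hD⟩ : ∃ D : Subgroup K, D = Subgroup.normalClosure {x : K | orderOf x = p} :=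
    ⟨_, rfl⟩
  have hDn : D.Normal := by
    rw [hD]
    exact Subgroup.normalClosure_normal
  have hreg : ∀ y ∈ D, ¬ p ∣ orderOf y → y = 1 := by
    intro y hy hyp
    apply hfaith
    apply helper92_list_sum_eval
    intro ψ hψ
    obtain ⟨M, hMn, ⟨x, hxM, hxo⟩, hM⟩ := hgood ψ hψ
    have := hMn
    have hDM : D ≤ M := by
      rw [hD]
      apply Subgroup.normalClosure_le_normal
      intro z hz
      exact helper92_mem_of_order p hp hsq M x hxM hxo z hz
    exact hM y (hDM hy) hyp
  have hDp : IsPGroup p D := by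
    intro g
    have ho : orderOf (g : K) ≠ 0 := (orderOf_pos (g : K)).ne'
    obtain ⟨e, m, hm, hem⟩ := Nat.exists_eq_pow_mul_and_not_dvd ho p hp.ne_one
    refine ⟨e, ?_⟩
    have h1 : ((g : K) ^ p ^ e) = 1 := by
      apply hreg _ (D.pow_mem g.2 _)
      have hpe : p ^ e ≠ 0 := pow_ne_zero _ hp.pos.ne'
      rw [orderOf_pow_of_dvd hpe (by rw [hem]; exact dvd_mul_right _ _), hem,
        Nat.mul_div_cancel_left _ (Nat.pos_of_ne_zero hpe)]
      exact hm
    exact Subtype.ext (by simpa using h1)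
  obtain ⟨n, hn⟩ := IsPGroup.iff_card.mp hDp
  obtain ⟨x, hxo⟩ := exists_prime_orderOf_dvd_card' p hdiv
  have hxD : x ∈ D := by
    rw [hD]
    exact Subgroup.subset_normalClosure hxo
  have hn1 : n = 1 := by
    have h1 : p ^ n ∣ Nat.card K := by
      rw [← hn]
      exact Subgroup.card_subgroup_dvd_card D
    have h2 : n ≤ 1 := by
      by_contra h
      push Not at h
      exact hsq ((pow_dvd_pow p h).trans h1)
    have h3 : n ≠ 0 := by
      rintro rfl
      rw [pow_zero] at hn
      have hbot : D = ⊥ := Subgroup.card_eq_one.mp hn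
      rw [hbot, Subgroup.mem_bot] at hxD
      rw [hxD, orderOf_one] at hxo
      exact hp.one_lt.ne hxo
    omega
  rw [hn1, pow_one] at hn
  exact ⟨D, hDn, hn⟩

/-- A normal subgroup of order `p` of a normal subgroup `N` with `p² ∤ |N|` gives a normal
subgroup of order `p` of `G`. -/
theorem helper84_normal_of_normal_sub {G : Type u} [Group G] [Finite G] (p : ℕ) (hp : p.Prime)
    (N : Subgroup G) [N.Normal] (hsq : ¬ p ^ 2 ∣ Nat.card N) (D : Subgroup N) [D.Normal]
    (hD : Nat.card D = p) :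
    ∃ E : Subgroup G, E.Normal ∧ Nat.card E = p := by
  refine ⟨D.map N.subtype, ⟨?_⟩, ?_⟩
  · rintro n ⟨d, hd, rfl⟩ g
    by_cases hd1 : d = 1
    · subst hd1
      simp
    · have hdo : orderOf d = p := by
        have h1 : orderOf (⟨d, hd⟩ : D) ∣ p := by
          rw [← hD]
          exact orderOf_dvd_natCard _
        have h2 : orderOf (⟨d, hd⟩ : D) = orderOf d := Subgroup.orderOf_mk d hd
        rw [h2] at h1
        rcases (Nat.dvd_prime hp).mp h1 with h | h
        · exact absurd (orderOf_eq_one_iff.mp h) hd1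
        · exact h
      have hgN : g * (d : G) * g⁻¹ ∈ N := ‹N.Normal›.conj_mem _ d.2 g
      have heo : orderOf (⟨g * (d : G) * g⁻¹, hgN⟩ : N) = p := by
        rw [Subgroup.orderOf_mk, ← hdo, ← Subgroup.orderOf_coe d]
        exact ((SemiconjBy.conj_mk g (d : G)).orderOf_eq g).symm
      have hmem := helper92_mem_of_order p hp hsq D d hd hdo _ heo
      exact ⟨_, hmem, rfl⟩
  · rw [← hD]
    exact Nat.card_congr (Subgroup.equivMapOfInjective D N.subtype N.subtype_injective).symm.toEquiv

/-- General form: `N` normal containing an element of order `p`. -/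
theorem helper84_res_irr_normal {G : Type u} [Group G] [Finite G] (p : ℕ) [Fact p.Prime]
    (hsq : ¬ p ^ 2 ∣ Nat.card G)
    (hnn : ∀ H : Subgroup G, H.Normal → Nat.card H ≠ p) (χ : G → ℂ)
    (hχ : Cfsg.IsCharacter G χ) (hfaith : ∀ g : G, χ g = χ 1 → g = 1)
    (hdeg : 2 * Cfsg.charDegree χ + 1 = p) (N : Subgroup G) [N.Normal] (x : G) (hxN : x ∈ N)
    (hx : orderOf x = p) :
    Cfsg.IsIrrCharacter ↥N (fun g => χ (g : G)) := by
  have hp : p.Prime := Fact.out
  have : Fintype N := Fintype.ofFinite N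
  have hsqN : ¬ p ^ 2 ∣ Nat.card N := fun h => hsq (h.trans (Subgroup.card_subgroup_dvd_card N))
  have hdivN : p ∣ Nat.card N := by
    have h : orderOf (⟨x, hxN⟩ : N) = p := by rw [Subgroup.orderOf_mk, hx]
    rw [← h]
    exact orderOf_dvd_natCard _
  have hχN : IsCharacter N (fun g => χ (g : G)) :=
    Cfsg.Agent.Lib.helper4.isCharacter_comp N.subtype hχ
  obtain ⟨l, hl⟩ := Cfsg.Agent.Lib.helper4.exists_irr_list_of_isCharacter hχN
  have hχ1 : χ 1 = (l.map Subtype.val).sum 1 := by
    have := congrFun hl 1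
    simpa using this
  -- the contradiction when all constituents have smaller degree
  have hcontra : (∀ ψ ∈ l, 2 * charDegree (ψ : N → ℂ) + 1 < p) → False := by
    intro hsmall
    have hgood : ∀ ψ ∈ l, Good p N (ψ : N → ℂ) := fun ψ hψ =>
      bf_irr (Nat.card N) N rfl p hp hdivN hsqN ψ.1 ψ.2 (hsmall ψ hψ)
    have hf : ∀ g : N, (l.map Subtype.val).sum g = (l.map Subtype.val).sum 1 → g = 1 := by
      intro g hg
      rw [← hl] at hg
      exact Subtype.ext (hfaith g hg)
    obtain ⟨D, hDn, hD⟩ := helper84_normal_of_good_list p hp hdivN hsqN l hf hgood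
    obtain ⟨E, hEn, hE⟩ := helper84_normal_of_normal_sub p hp N hsqN D hD
    exact hnn E hEn hE
  match l, hl, hχ1, hcontra with
  | [], _, hχ1, _ =>
    exfalso
    have h0 : charDegree χ = 0 := by
      unfold charDegree
      rw [hχ1]
      simp
    rw [h0] at hdeg
    exact hp.one_lt.ne (by omega)
  | [ψ], hl, _, _ =>
    have h : (fun g : N => χ (g : G)) = (ψ : N → ℂ) := by
      rw [hl]
      simp
    rw [h]
    exact ψ.2
  | ψ₁ :: ψ₂ :: l', _, hχ1, hcontra =>
    exfalso
    apply hcontra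
    obtain ⟨n₁, hn₁pos, hn₁⟩ := Cfsg.Agent.Lib.helper4.exists_pos_nat_degree ψ₁.2
    obtain ⟨n₂, hn₂pos, hn₂⟩ := Cfsg.Agent.Lib.helper4.exists_pos_nat_degree ψ₂.2
    obtain ⟨N', hN', hle⟩ := helper92_list_degree l'
    have hdegχ : charDegree χ = n₁ + n₂ + N' := by
      unfold charDegree
      rw [hχ1, List.map_cons, List.sum_cons, List.map_cons, List.sum_cons, Pi.add_apply,
        Pi.add_apply, hN', hn₁, hn₂]
      have : ((n₁ : ℂ) + ((n₂ : ℂ) + (N' : ℂ))) = ((n₁ + n₂ + N' : ℕ) : ℂ) := by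
        push_cast
        ring
      rw [this, Complex.natCast_re, Nat.floor_natCast]
    have hd₁ : charDegree (ψ₁ : N → ℂ) = n₁ := by
      unfold charDegree
      rw [hn₁, Complex.natCast_re, Nat.floor_natCast]
    have hd₂ : charDegree (ψ₂ : N → ℂ) = n₂ := by
      unfold charDegree
      rw [hn₂, Complex.natCast_re, Nat.floor_natCast]
    intro ψ hψ
    rcases List.mem_cons.mp hψ with rfl | hψ
    · omega
    · rcases List.mem_cons.mp hψ with rfl | hψ
      · omega
      · have := hle ψ hψ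
        omega

/-- R3 (V1): the restriction of `χ` to the normal closure of `x` is irreducible. -/
theorem R_res_irr {G : Type u} [Group G] [Finite G] (p : ℕ) [Fact p.Prime]
    (hdiv : p ∣ Nat.card G) (hsq : ¬ p ^ 2 ∣ Nat.card G)
    (hnn : ∀ H : Subgroup G, H.Normal → Nat.card H ≠ p) (χ : G → ℂ)
    (hχ : Cfsg.IsCharacter G χ) (hfaith : ∀ g : G, χ g = χ 1 → g = 1)
    (hdeg : 2 * Cfsg.charDegree χ + 1 = p) (x : G) (hx : orderOf x = p) :
    Cfsg.IsIrrCharacter ↥(Subgroup.normalClosure ({x} : Set G)) (fun g => χ (g : G)) :=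
  helper84_res_irr_normal p hsq hnn χ hχ hfaith hdeg (Subgroup.normalClosure ({x} : Set G)) x
    (Subgroup.subset_normalClosure (Set.mem_singleton x)) hx

end Cfsg.Agent.Lib.helper2.BG
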