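import Mathlib
import Cfsg.Agent.Lib.helper2.BGDefs
import Cfsg.Agent.Lib.helper46.D1EGH
import Cfsg.Agent.Lib.helper84.BrAlpha
import Cfsg.Agent.Lib.helper18.PSLCongr
import Cfsg.Agent.Lib.helper97.BGR1
import Cfsg.Agent.Lib.helper72.BGR2
import Cfsg.Agent.Lib.helper84.BGR03
import Cfsg.Agent.Lib.helper39.BGR04
import Cfsg.Agent.Lib.helper72.BGR5
import Cfsg.Agent.Lib.helper72.BGR6
import Cfsg.Agent.Lib.helper32.BGR7
import Cfsg.Agent.Lib.helper32.BGR8
import Cfsg.Agent.Lib.helper51.BGR9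
import Cfsg.Agent.Lib.helper90.BGR10
import Cfsg.Agent.Lib.helper51.BGR11
import Cfsg.Agent.Lib.helper26.BGR12
import Cfsg.Agent.Lib.helper26.BGR13
import Cfsg.Agent.Lib.helper39.BGR14

/-!
# S4504, piece R: the reduction `bg_reduce` (from the main character-theoretic stage to the
statement), assembled from the sub-pieces R01..R14
-/

set_option autoImplicit false

open Cfsg

namespace Cfsg.Agent.Lib.helper2.BG

universe u

/-- R (from the main stage to the statement of S4504). -/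
theorem bg_reduce {G : Type u} [Group G] [Finite G] (p : ℕ) [Fact p.Prime]
    (hdiv : p ∣ Nat.card G) (hsq : ¬ p ^ 2 ∣ Nat.card G)
    (hnn : ∀ H : Subgroup G, H.Normal → Nat.card H ≠ p) (χ : G → ℂ)
    (hχ : Cfsg.IsCharacter G χ) (hfaith : ∀ g : G, χ g = χ 1 → g = 1)
    (hdeg : 2 * Cfsg.charDegree χ + 1 = p)
    (hmain : ∀ (Γ : Type u) [Group Γ] [Fintype Γ] (P : Sylow p Γ) (hP : Nat.card P = p)
      (x : Γ) (hx : x ∈ (P : Subgroup Γ)) (hx1 : x ≠ 1) (H : Subgroup (ZMod p)ˣ)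
      (hH : ∀ r : (ZMod p)ˣ, r ∈ H ↔ ∃ n : Γ, n * x * n⁻¹ = x ^ ((r : ZMod p).val))
      (hHc : Nat.card H = (Subgroup.centralizer ((P : Subgroup Γ) : Set Γ)).relIndex
        (Subgroup.normalizer ((P : Subgroup Γ) : Set Γ)))
      (ψ : IrrCharacter Γ) (hdeg : 2 * charDegree (ψ : Γ → ℂ) + 1 = p)
      (hfaith : ∀ g : Γ, (ψ : Γ → ℂ) g = (ψ : Γ → ℂ) 1 → g = 1)
      (hgen : Subgroup.normalClosure ({x} : Set Γ) = ⊤)
      (hnn : ¬ (P : Subgroup Γ).Normal), MainConcl p x P H (ψ : Γ → ℂ)) :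
    Nonempty ((G ⧸ Subgroup.center G) ≃*
      Matrix.ProjectiveSpecialLinearGroup (Fin 2) (ZMod p)) := by
  classical
  have hp : p.Prime := Fact.out
  have hp5 := helper97_R_p_ge_five p hdiv hsq hnn χ hχ hfaith hdeg
  -- an element of order `p` and its Sylow subgroup
  obtain ⟨x, hxo⟩ := exists_prime_orderOf_dvd_card' p hdiv
  have hx1 : x ≠ 1 := by
    rintro rfl
    rw [orderOf_one] at hxo
    exact hp.one_lt.ne hxo
  obtain ⟨P, hPx⟩ := helper72_R_exists_sylow p hsq x hxo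
  have hP : Nat.card P = p := by
    have h : Nat.card (P : Subgroup G) = p := by rw [hPx, Nat.card_zpowers, hxo]
    exact h
  have hx : x ∈ (P : Subgroup G) := by
    rw [hPx]
    exact Subgroup.mem_zpowers x
  -- the normal closure
  obtain ⟨Γ, hΓ⟩ : ∃ Γ : Subgroup G, Γ = Subgroup.normalClosure ({x} : Set G) := ⟨_, rfl⟩
  subst hΓ
  have hxΓ : x ∈ Subgroup.normalClosure ({x} : Set G) :=
    Subgroup.subset_normalClosure (Set.mem_singleton x)
  have hxΓo : orderOf (⟨x, hxΓ⟩ : ↥(Subgroup.normalClosure ({x} : Set G))) = p := by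
    rw [← hxo]
    exact Subgroup.orderOf_mk x hxΓ
  have hsqΓ : ¬ p ^ 2 ∣ Nat.card ↥(Subgroup.normalClosure ({x} : Set G)) :=
    fun h => hsq (h.trans (Subgroup.card_subgroup_dvd_card _))
  obtain ⟨PΓ, hPΓx⟩ := helper72_R_exists_sylow p hsqΓ _ hxΓo
  have hPΓ : Nat.card PΓ = p := by
    have h : Nat.card (PΓ : Subgroup ↥(Subgroup.normalClosure ({x} : Set G))) = p := by
      rw [hPΓx, Nat.card_zpowers, hxΓo]
    exact h
  have hxPΓ : (⟨x, hxΓ⟩ : ↥(Subgroup.normalClosure ({x} : Set G))) ∈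
      (PΓ : Subgroup ↥(Subgroup.normalClosure ({x} : Set G))) := by
    rw [hPΓx]
    exact Subgroup.mem_zpowers _
  have hxΓ1 : (⟨x, hxΓ⟩ : ↥(Subgroup.normalClosure ({x} : Set G))) ≠ 1 :=
    fun h => hx1 (congrArg Subtype.val h)
  have hirr := R_res_irr p hdiv hsq hnn χ hχ hfaith hdeg x hxo
  obtain ⟨HΓ, hHΓ, hHΓc⟩ := @Cfsg.Agent.Lib.helper46.D1E.exists_H
    ↥(Subgroup.normalClosure ({x} : Set G)) _ (Fintype.ofFinite _) p _ PΓ hPΓ _ hxPΓ hxΓ1
  have hmc := @hmain ↥(Subgroup.normalClosure ({x} : Set G)) _ (Fintype.ofFinite _) PΓ hPΓ _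
    hxPΓ hxΓ1 HΓ hHΓ hHΓc ⟨fun g => χ (g : G), hirr⟩ hdeg
    (fun g hg => Subtype.ext (hfaith g hg)) (h39_R_nc_top p hsq x hxo)
    (helper72_R_not_normal p hnn _ PΓ hPΓ)
  obtain ⟨he, hne, -, hnΓ⟩ := hmc
  -- the number of Sylow subgroups
  have hpΓ : p ∣ Nat.card ↥(Subgroup.normalClosure ({x} : Set G)) := by
    rw [← hxΓo]
    exact orderOf_dvd_natCard _
  have hidx : ¬ p ∣ (Subgroup.normalClosure ({x} : Set G)).index := by
    intro hd
    apply hsq
    rw [← Subgroup.card_mul_index (Subgroup.normalClosure ({x} : Set G)), pow_two]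
    exact Nat.mul_dvd_mul hpΓ hd
  have hcs := helper72_R_card_sylow p (Subgroup.normalClosure ({x} : Set G)) hidx
  have hn : Nat.card (Sylow p G) = p + 1 := by
    have h1 : Nat.card (Sylow p G) ≡ 1 [MOD p] := card_sylow_modEq_one p G
    have h2 : Nat.card (Sylow p G) ≤ p + 1 := hcs ▸ hnΓ
    have h3 : Nat.card (Sylow p G) ≠ 1 := by
      intro h
      have hsub : Subsingleton (Sylow p G) := (Nat.card_eq_one_iff_unique.mp h).1
      have hPn : (P : Subgroup G).Normal := Sylow.normal_of_subsingleton P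
      exact hnn P hPn hP
    have h4 : 0 < Nat.card (Sylow p G) := Nat.card_pos
    have h5 : p ∣ Nat.card (Sylow p G) - 1 := (Nat.modEq_iff_dvd' h4).mp h1.symm
    obtain ⟨k, hk⟩ := h5
    rcases k with _ | _ | k
    · omega
    · omega
    · have : p * (k + 1 + 1) = p * k + 2 * p := by ring
      omega
  -- fusion
  have hHΓ' : ∀ r : (ZMod p)ˣ, r ∈ HΓ ↔ ∃ γ ∈ Subgroup.normalClosure ({x} : Set G),
      γ * x * γ⁻¹ = x ^ ((r : ZMod p).val) := by
    intro r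
    rw [hHΓ r]
    constructor
    · rintro ⟨n, hn⟩
      exact ⟨n, n.2, by simpa using congrArg Subtype.val hn⟩
    · rintro ⟨γ, hγ, h⟩
      exact ⟨⟨γ, hγ⟩, Subtype.ext (by simpa using h)⟩
  have hne' : ∀ c : (ZMod p)ˣ, c ∉ HΓ → χ (x ^ ((c : ZMod p).val)) ≠ χ x := by
    intro c hc
    simpa using hne c hc
  obtain ⟨hconj, hHeq⟩ := h39_R_conj_gamma p P hP x hx hx1 χ hχ HΓ hHΓ' hne'
  obtain ⟨HG, hHG, hHGc⟩ := @Cfsg.Agent.Lib.helper46.D1E.exists_H G _ (Fintype.ofFinite G) p _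
    P hP x hx hx1
  have hHGΓ : HG = HΓ := hHeq HG hHG
  obtain ⟨d, hd⟩ : ∃ d : ℕ, d = Nat.card HΓ := ⟨_, rfl⟩
  have hrel : (Subgroup.centralizer ((P : Subgroup G) : Set G)).relIndex
      (Subgroup.normalizer ((P : Subgroup G) : Set G)) = d := by
    rw [← hHGc, hHGΓ, hd]
  rw [← hd] at he
  have hd2 : 2 ≤ d := by omega
  -- centralizers
  have hcent := R_cent_le_center χ hχ hfaith (Subgroup.normalClosure ({x} : Set G)) hirr
  have hK := R_cent_central p hnn P hP hn x hx hx1 hcent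
  have hsup := R_sup_center p P hP x hx hx1 hconj hK
  -- `Γ` is perfect
  have hperfΓ : commutator ↥(Subgroup.normalClosure ({x} : Set G)) = ⊤ := by
    apply helper51_R_perfect_of_gen p _ hxΓo (h39_R_nc_top p hsq x hxo)
    obtain ⟨r, hr, hr1⟩ : ∃ r ∈ HΓ, r ≠ 1 := by
      by_contra hcon
      push Not at hcon
      have hbot : HΓ = ⊥ := (Subgroup.eq_bot_iff_forall _).mpr hcon
      rw [hbot, Subgroup.card_bot] at hd
      omega
    obtain ⟨n, hn⟩ := (hHΓ r).mp hr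
    refine ⟨n, ?_, ?_⟩
    · rw [hn]
      intro h
      apply hr1
      have h1 : (⟨x, hxΓ⟩ : ↥(Subgroup.normalClosure ({x} : Set G))) ^ (r : ZMod p).val =
          (⟨x, hxΓ⟩ : ↥(Subgroup.normalClosure ({x} : Set G))) ^ 1 := by rw [h, pow_one]
      have h2 := pow_eq_pow_iff_modEq.mp h1
      rw [hxΓo] at h2
      have h3 : (((r : ZMod p).val : ℕ) : ZMod p) = ((1 : ℕ) : ZMod p) :=
        (ZMod.natCast_eq_natCast_iff _ _ _).mpr h2
      rw [ZMod.natCast_zmod_val, Nat.cast_one] at h3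
      exact Units.ext h3
    · rw [hn]
      exact Subgroup.npow_mem_zpowers _ _
  have hperf := helper51_R_quot_perfect (Subgroup.normalClosure ({x} : Set G)) hperfΓ hsup
  obtain ⟨Q, hQm, hQc, hQC⟩ := R_quot_sylow p hnn P hP hK
  obtain ⟨hNQ, hnQ⟩ := R_quot_norm p hnn P hP hK d hrel hn Q hQm
  obtain ⟨F, _, _, hF, ⟨e⟩⟩ := Cfsg.Agent.Lib.helper84.Br.brauer_alpha hperf p Q hQc hQC d hNQ
    hd2 (by omega) (by omega)
  have hcard : Fintype.card F = Fintype.card (ZMod p) := by rw [hF, ZMod.card]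
  obtain ⟨e'⟩ := Cfsg.Agent.Lib.helper18.nonempty_pslCongr_of_card_eq (n := Fin 2) hcard
  exact ⟨e.trans e'⟩

end Cfsg.Agent.Lib.helper2.BG
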