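import Mathlib

set_option autoImplicit false

namespace Cfsg.Agent.Lib.helper84

theorem e_mul {M : Type*} [AddCommGroup M] (f g : AddMonoid.End M) (w : M) :
    (f * g) w = f (g w) := rfl
theorem e_sub {M : Type*} [AddCommGroup M] (f g : AddMonoid.End M) (w : M) :
    (f - g) w = f w - g w := rfl
theorem e_add {M : Type*} [AddCommGroup M] (f g : AddMonoid.End M) (w : M) :
    (f + g) w = f w + g w := rfl
theorem e_one {M : Type*} [AddCommGroup M] (w : M) : (1 : AddMonoid.End M) w = w := rfl
theorem e_zero {M : Type*} [AddCommGroup M] (w : M) : (0 : AddMonoid.End M) w = 0 := rfl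
theorem e_sum {M : Type*} [AddCommGroup M] {ι : Type*} (s : Finset ι)
    (f : ι → AddMonoid.End M) (w : M) : (∑ i ∈ s, f i) w = ∑ i ∈ s, f i w := by
  classical
  induction s using Finset.induction_on with
  | empty => simp
  | insert a s ha ih => rw [Finset.sum_insert ha, Finset.sum_insert ha, e_add, ih]

/-- Coprime "Fitting decomposition", additive form: if `α` is an endomorphism of a finite
abelian group `M` with `α ^ m = 1` and `m` coprime to `#M`, then every `v` is the sum of a
fixed point of `α` and an element `z - α z`. -/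
theorem add_fitting_exists {M : Type*} [AddCommGroup M] [Finite M] (α : AddMonoid.End M) (m : ℕ)
    (hm : α ^ m = 1) (hcop : (Nat.card M).Coprime m) (v : M) :
    ∃ c z : M, α c = c ∧ v = c + (z - α z) := by
  classical
  set N : AddMonoid.End M := ∑ i ∈ Finset.range m, α ^ i with hN
  set Q : AddMonoid.End M := ∑ i ∈ Finset.range m, ∑ j ∈ Finset.range i, α ^ j with hQ
  have h1 : (1 - α) * N = 0 := by
    rw [hN, mul_neg_geom_sum, hm, sub_self]
  have h2 : (m : AddMonoid.End M) - N = (1 - α) * Q := by
    rw [hN, hQ, Finset.mul_sum]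
    have : ∀ i ∈ Finset.range m, (1 - α) * ∑ j ∈ Finset.range i, α ^ j = 1 - α ^ i := by
      intro i _
      rw [mul_neg_geom_sum]
    rw [Finset.sum_congr rfl this, Finset.sum_sub_distrib]
    simp
  have h3 : (m : AddMonoid.End M) = N + (1 - α) * Q := by
    rw [← h2]; abel
  -- invert m modulo the order
  obtain ⟨b, hb⟩ : ∃ b : ℕ, ∀ w : M, (b * m) • w = w := by
    have hc : Nat.Coprime m (Nat.card M) := hcop.symm
    by_cases h1' : Nat.card M = 1
    · refine ⟨0, fun w => ?_⟩
      have : Subsingleton M := (Nat.card_eq_one_iff_unique.1 h1').1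
      exact Subsingleton.elim _ _
    · have hlt : 1 < Nat.card M := by
        have := Nat.card_pos (α := M)
        omega
      obtain ⟨b, -, hb⟩ := Nat.exists_mul_mod_eq_one_of_coprime hc hlt
      refine ⟨b, fun w => ?_⟩
      have hdiv : b * m = Nat.card M * (m * b / Nat.card M) + 1 := by
        have := Nat.div_add_mod (m * b) (Nat.card M)
        rw [hb] at this
        rw [mul_comm b m]; exact this.symm
      rw [hdiv, add_nsmul, mul_nsmul, one_nsmul, card_nsmul_eq_zero', smul_zero, zero_add]
  have h4 : ∀ w : M, m • w = N w + (Q w - α (Q w)) := by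
    intro w
    have := congrArg (fun f : AddMonoid.End M => f w) h3
    simp only [AddMonoid.End.natCast_apply] at this
    rw [this, e_add, e_mul, e_sub, e_one]
  have h5 : ∀ w : M, α (N w) = N w := by
    intro w
    have := congrArg (fun f : AddMonoid.End M => f w) h1
    beta_reduce at this
    rw [e_mul, e_sub, e_one, e_zero] at this
    exact (sub_eq_zero.1 this).symm
  refine ⟨b • N v, b • Q v, ?_, ?_⟩
  · rw [map_nsmul, h5]
  · have := hb v
    rw [mul_comm, mul_nsmul, h4] at this
    rw [map_nsmul, ← smul_sub, ← smul_add]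
    exact this.symm

/-- Coprime Fitting decomposition, uniqueness part (additive form). -/
theorem add_fitting_unique {M : Type*} [AddCommGroup M] [Finite M] (α : AddMonoid.End M) (m : ℕ)
    (hm : α ^ m = 1) (hcop : (Nat.card M).Coprime m) (y w : M) (hy : y = w - α w)
    (hfix : α y = y) : y = 0 := by
  classical
  set N : AddMonoid.End M := ∑ i ∈ Finset.range m, α ^ i with hN
  have h1 : N * (1 - α) = 0 := by
    rw [hN, geom_sum_mul_neg, hm, sub_self]
  have h2 : N y = 0 := by
    have := congrArg (fun f : AddMonoid.End M => f w) h1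
    beta_reduce at this
    rw [e_mul, e_sub, e_one, e_zero, ← hy] at this
    exact this
  have h3 : ∀ i : ℕ, (α ^ i) y = y := by
    intro i
    induction i with
    | zero => simp
    | succ k ih => rw [pow_succ, e_mul, hfix, ih]
  have h4 : N y = m • y := by
    rw [hN, e_sum]
    simp [h3]
  have h5 : m • y = 0 := by rw [← h4, h2]
  -- order of y divides m and card M
  have h6 : addOrderOf y ∣ m := addOrderOf_dvd_of_nsmul_eq_zero h5
  have h7 : addOrderOf y ∣ Nat.card M := addOrderOf_dvd_natCard y
  have h8 : addOrderOf y = 1 := Nat.eq_one_of_dvd_coprimes hcop h7 h6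
  exact AddMonoid.addOrderOf_eq_one_iff.1 h8

theorem end_pow_one_of_iterate {A : Type*} [CommGroup A] (β : A →* A) (m : ℕ)
    (hm : ∀ a, β^[m] a = a) (α : AddMonoid.End (Additive A))
    (hα' : ∀ a : Additive A, α a = Additive.ofMul (β (Additive.toMul a))) : α ^ m = 1 := by
  have hpow : ∀ k : ℕ, ∀ a : Additive A,
      (α ^ k) a = Additive.ofMul (β^[k] (Additive.toMul a)) := by
    intro k
    induction k with
    | zero => intro a; simp
    | succ k ih =>
      intro a
      rw [pow_succ, e_mul, ih, Function.iterate_succ_apply, hα']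
      rfl
  ext a
  rw [hpow, hm]
  rfl

theorem exists_additive_end {A : Type*} [CommGroup A] (β : A →* A) (m : ℕ)
    (hm : ∀ a, β^[m] a = a) :
    ∃ α : AddMonoid.End (Additive A), (∀ a : Additive A, α a = Additive.ofMul (β (Additive.toMul a))) ∧
      α ^ m = 1 :=
  ⟨MonoidHom.toAdditive β, fun _ => rfl, end_pow_one_of_iterate β m hm _ (fun _ => rfl)⟩

/-- Multiplicative form of `add_fitting_exists`. -/
theorem mul_fitting_exists {A : Type*} [CommGroup A] [Finite A] (β : A →* A) (m : ℕ)
    (hm : ∀ a, β^[m] a = a) (hcop : (Nat.card A).Coprime m) (v : A) :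
    ∃ c z : A, β c = c ∧ v = c * (z / β z) := by
  obtain ⟨α, hα, hm'⟩ := exists_additive_end β m hm
  have hcop' : (Nat.card (Additive A)).Coprime m := by
    rw [Nat.card_congr Additive.toMul]; exact hcop
  obtain ⟨c, z, hc, hv⟩ := add_fitting_exists α m hm' hcop' (Additive.ofMul v)
  refine ⟨Additive.toMul c, Additive.toMul z, ?_, ?_⟩
  · rw [hα] at hc
    exact congrArg Additive.toMul hc
  · rw [hα] at hv
    exact congrArg Additive.toMul hv

/-- Multiplicative form of `add_fitting_unique`. -/
theorem mul_fitting_unique {A : Type*} [CommGroup A] [Finite A] (β : A →* A) (m : ℕ)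
    (hm : ∀ a, β^[m] a = a) (hcop : (Nat.card A).Coprime m) (y w : A) (hy : y = w / β w)
    (hfix : β y = y) : y = 1 := by
  obtain ⟨α, hα, hm'⟩ := exists_additive_end β m hm
  have hcop' : (Nat.card (Additive A)).Coprime m := by
    rw [Nat.card_congr Additive.toMul]; exact hcop
  have := add_fitting_unique α m hm' hcop' (Additive.ofMul y) (Additive.ofMul w)
    (by rw [hα]; exact congrArg Additive.ofMul hy)
    (by rw [hα]; exact congrArg Additive.ofMul hfix)
  exact congrArg Additive.toMul this

theorem conjNormal_iterate {X : Type*} [Group X] (V : Subgroup X) [V.Normal] (g : X) (k : ℕ)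
    (a : ↥V) : ((MulAut.conjNormal g : MulAut ↥V) : ↥V → ↥V)^[k] a = MulAut.conjNormal (g ^ k) a := by
  induction k generalizing a with
  | zero => simp
  | succ k ih =>
    rw [Function.iterate_succ_apply, ih, pow_succ, map_mul]
    rfl

/-- Coprime Fitting decomposition for conjugation by `g` on an abelian normal subgroup `V`:
existence. -/
theorem conj_fitting_exists {X : Type*} [Group X] (V : Subgroup X) [V.Normal] [Finite ↥V]
    (hab : ∀ a ∈ V, ∀ b ∈ V, a * b = b * a) (g : X) (m : ℕ) (hg : g ^ m = 1)
    (hcop : (Nat.card ↥V).Coprime m) (v : X) (hv : v ∈ V) :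
    ∃ c ∈ V, ∃ z ∈ V, g * c * g⁻¹ = c ∧ v = c * (z * (g * z * g⁻¹)⁻¹) := by
  letI : CommGroup ↥V :=
    { (inferInstance : Group ↥V) with mul_comm := fun a b => Subtype.ext (hab a a.2 b b.2) }
  have hm : ∀ a : ↥V, ((MulAut.conjNormal g : MulAut ↥V).toMonoidHom : ↥V → ↥V)^[m] a = a := by
    intro a
    have := conjNormal_iterate V g m a
    rw [hg, map_one] at this
    exact this
  obtain ⟨c, z, hc, hvz⟩ := mul_fitting_exists (MulAut.conjNormal g : MulAut ↥V).toMonoidHom m hm hcop
    ⟨v, hv⟩
  refine ⟨c, c.2, z, z.2, ?_, ?_⟩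
  · have := congrArg Subtype.val hc
    simpa using this
  · have := congrArg Subtype.val hvz
    simpa [div_eq_mul_inv] using this

/-- Coprime Fitting decomposition for conjugation by `g` on an abelian normal subgroup `V`:
uniqueness. -/
theorem conj_fitting_unique {X : Type*} [Group X] (V : Subgroup X) [V.Normal] [Finite ↥V]
    (hab : ∀ a ∈ V, ∀ b ∈ V, a * b = b * a) (g : X) (m : ℕ) (hg : g ^ m = 1)
    (hcop : (Nat.card ↥V).Coprime m) (y w : X) (hyV : y ∈ V) (hwV : w ∈ V)
    (hy : y = w * (g * w * g⁻¹)⁻¹) (hfix : g * y * g⁻¹ = y) : y = 1 := by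
  letI : CommGroup ↥V :=
    { (inferInstance : Group ↥V) with mul_comm := fun a b => Subtype.ext (hab a a.2 b b.2) }
  have hm : ∀ a : ↥V, ((MulAut.conjNormal g : MulAut ↥V).toMonoidHom : ↥V → ↥V)^[m] a = a := by
    intro a
    have := conjNormal_iterate V g m a
    rw [hg, map_one] at this
    exact this
  have := mul_fitting_unique (MulAut.conjNormal g : MulAut ↥V).toMonoidHom m hm hcop
    ⟨y, hyV⟩ ⟨w, hwV⟩ (by
      apply Subtype.ext
      simp only [div_eq_mul_inv, MulEquiv.toMonoidHom_eq_coe, MonoidHom.coe_coe, Subgroup.coe_mul,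
        Subgroup.coe_inv, MulAut.conjNormal_apply]
      exact hy) (by
      apply Subtype.ext
      simpa using hfix)
  exact congrArg Subtype.val this

end Cfsg.Agent.Lib.helper84
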