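import Cfsg.Agent.Lib.helper84.Def1Defs
import Cfsg.Agent.Lib.helper20.CentralChar
import Cfsg.Agent.Lib.helper19.D1C1
import Cfsg.Agent.Lib.helper19.D1Y2
import Cfsg.Agent.Lib.helper19.D1Y3
import Cfsg.Agent.Lib.helper83.D1Y6
import Cfsg.Agent.Lib.helper88.D1Y4
import Cfsg.Agent.Lib.helper17.D1C3Core

/-!
# Piece Y7a: the central identity for the exceptional family
-/

set_option autoImplicit false

namespace Cfsg.Agent.Lib.helper84

open Cfsg

variable {G : Type*} [Group G] [Fintype G]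

theorem d1Iota_injective : Function.Injective (d1Iota : MonoidAlgebra ℤ G → MonoidAlgebra ℂ G) := by
  intro a b h
  ext m
  have := congrArg (fun t => t.coeff m) h
  simp only [d1Iota, MonoidAlgebra.coeff_mapRingHom, eq_intCast] at this
  exact_mod_cast this

theorem d1Iota_pow_formula (S : Finset (IrrCharacter G)) (δ : d1L S →ₗ[ℤ] d1L S)
    (u : MonoidAlgebra ℤ G)
    (hu : ∀ (k : ℕ) (a : d1L S),
      (Fintype.card G : ℤ) ^ k • (((δ ^ k) a : d1L S) : MonoidAlgebra ℤ G)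
        = (a : MonoidAlgebra ℤ G) * u ^ k) (k : ℕ) (b : d1L S) :
    d1Iota (((δ ^ k) b : d1L S) : MonoidAlgebra ℤ G)
      = d1Iota (b : MonoidAlgebra ℤ G)
        * ((((Fintype.card G : ℚ)⁻¹ : ℚ) : ℂ) • d1Iota u) ^ k := by
  have h := congrArg d1Iota (hu k b)
  rw [map_mul, map_pow, map_zsmul] at h
  have hG : ((Fintype.card G : ℤ) : ℂ) ≠ 0 := by
    have : 0 < Fintype.card G := Fintype.card_pos
    exact_mod_cast this.ne'
  rw [smul_pow, mul_smul_comm, ← h]
  rw [← Int.cast_smul_eq_zsmul ℂ, smul_smul]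
  have : ((((Fintype.card G : ℚ)⁻¹ : ℚ) : ℂ)) ^ k * (((Fintype.card G : ℤ) ^ k : ℤ) : ℂ) = 1 := by
    push_cast
    rw [← mul_pow, inv_mul_cancel₀ (by exact_mod_cast hG), one_pow]
  rw [this, one_smul]


/-- `d1Per` at a multiple of `p` is the order of `H`. -/
theorem d1Per_of_dvd (p : ℕ) [Fact p.Prime] (H : Subgroup (ZMod p)ˣ) (a : (ZMod p)ˣ) (u : ℕ)
    (hu : p ∣ u) : d1Per p H a u = (Nat.card H : ℂ) := by
  classical
  have h0 : d1Per p H a u = d1Per p H a 0 :=
    Cfsg.Agent.Lib.helper19.d1Per_mod p H a u 0 ((Nat.modEq_zero_iff_dvd).2 hu)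
  rw [h0]
  unfold d1Per
  have : ∀ h : (ZMod p)ˣ, Set.indicator (H : Set (ZMod p)ˣ)
      (fun h => Complex.exp (2 * Real.pi * Complex.I *
        (((((a * h : (ZMod p)ˣ) : ZMod p).val * 0 : ℕ) : ℂ)) / (p : ℂ))) h
      = Set.indicator (H : Set (ZMod p)ˣ) (fun _ => (1 : ℂ)) h := by
    intro h
    by_cases hh : h ∈ (H : Set (ZMod p)ˣ)
    · rw [Set.indicator_of_mem hh, Set.indicator_of_mem hh]
      simp
    · rw [Set.indicator_of_notMem hh, Set.indicator_of_notMem hh]
  rw [Finset.sum_congr rfl (fun h _ => this h), Finset.sum_indicator_eq_sum_filter,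
    Finset.sum_const, nsmul_eq_mul, mul_one, Nat.card_eq_fintype_card, Fintype.card_subtype]
  rfl

/-- The centralizer of a nontrivial power of `x` is the centralizer of `P`. -/
theorem d1_centralizer_pow (p : ℕ) [Fact p.Prime] (P : Sylow p G) (hP : Nat.card P = p)
    (x : G) (hx : x ∈ (P : Subgroup G)) (hx1 : x ≠ 1) (v : ℕ) (hv : ¬ p ∣ v) :
    Subgroup.centralizer ({x ^ v} : Set G) = Subgroup.centralizer ((P : Subgroup G) : Set G) := by
  have hp : p.Prime := Fact.out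
  have hxp : x ^ p = 1 := by
    have h : (⟨x, hx⟩ : (P : Subgroup G)) ^ Nat.card (P : Subgroup G) = 1 := pow_card_eq_one'
    rw [hP] at h
    exact congrArg Subtype.val h
  have hord : orderOf x = p := by
    have h1 : orderOf x ∣ p := orderOf_dvd_of_pow_eq_one hxp
    rcases (Nat.dvd_prime hp).1 h1 with h | h
    · exact absurd (orderOf_eq_one_iff.1 h) hx1
    · exact h
  have hxv1 : x ^ v ≠ 1 := by
    intro h
    have := orderOf_dvd_of_pow_eq_one h
    rw [hord] at this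
    exact hv this
  have hxvP : x ^ v ∈ (P : Subgroup G) := pow_mem hx v
  have hgen : ∀ y ∈ (P : Subgroup G), ∃ m : ℕ, (x ^ v) ^ m = y := by
    intro y hy
    have htop : Subgroup.zpowers (⟨x ^ v, hxvP⟩ : (P : Subgroup G)) = ⊤ :=
      zpowers_eq_top_of_prime_card hP (by
        intro h
        exact hxv1 (congrArg Subtype.val h))
    have hmem : (⟨y, hy⟩ : (P : Subgroup G)) ∈ Subgroup.zpowers (⟨x ^ v, hxvP⟩ : (P : Subgroup G)) := by
      rw [htop]
      exact Subgroup.mem_top _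
    rw [← mem_powers_iff_mem_zpowers] at hmem
    obtain ⟨m, hm⟩ := hmem
    exact ⟨m, congrArg Subtype.val hm⟩
  ext g
  rw [Subgroup.mem_centralizer_iff, Subgroup.mem_centralizer_iff]
  constructor
  · intro h y hy
    obtain ⟨m, rfl⟩ := hgen y hy
    have hc : Commute (x ^ v) g := h (x ^ v) rfl
    exact (hc.pow_left m).eq
  · intro h y hy
    rw [Set.mem_singleton_iff] at hy
    subst hy
    exact h _ hxvP


theorem d1_central_comm {a : MonoidAlgebra ℂ G}
    (ha : Cfsg.Agent.Lib.helper20.IsCentralElt a) (c : MonoidAlgebra ℂ G) : a * c = c * a := by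
  induction c using MonoidAlgebra.induction_on with
  | of g => exact (ha g).eq
  | add c d hc hd => rw [mul_add, add_mul, hc, hd]
  | smul r c hc => rw [mul_smul_comm, smul_mul_assoc, hc]

theorem d1Iota_classSum (g : G) :
    d1Iota (d1ClassSum g) = Cfsg.Agent.Lib.helper20.classSum g := by
  classical
  unfold d1ClassSum Cfsg.Agent.Lib.helper20.classSum
  rw [Finset.sum_indicator_eq_sum_filter, map_sum]
  refine Finset.sum_congr ?_ ?_
  · ext h
    simp
  · intro h _
    rw [MonoidAlgebra.of_apply, d1Iota, MonoidAlgebra.mapRingHom_single]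
    simp

set_option maxHeartbeats 1600000 in
/-- PIECE Y7a (core form: the conclusions of C4 and Y5 are explicit hypotheses). -/
theorem d1_exceptional_identity_core (p : ℕ) [Fact p.Prime]
    (M : Ideal Cfsg.AlgInt) (hM : Cfsg.IsPModular p M)
    (P : Sylow p G) (hP : Nat.card P = p)
    (x : G) (hx : x ∈ (P : Subgroup G)) (hx1 : x ≠ 1)
    (H : Subgroup (ZMod p)ˣ)
    (hH : ∀ r : (ZMod p)ˣ, r ∈ H ↔ ∃ n : G, n * x * n⁻¹ = x ^ ((r : ZMod p).val))
    (Y : Finset (Cfsg.IrrCharacter G)) (hY : d1GalStable Y)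
    (f : ℕ) (w₀ s : ℤ) (hs : s = 1 ∨ s = -1)
    (a : Cfsg.IrrCharacter G → (ZMod p)ˣ)
    (ha : ∀ b : (ZMod p)ˣ, ∃! θh : Cfsg.IrrCharacter G × (ZMod p)ˣ,
      θh.1 ∈ Y ∧ θh.2 ∈ H ∧ a θh.1 * θh.2 = b)
    (hdeg : ∀ θ ∈ Y, (θ : G → ℂ) 1 = (f : ℂ))
    (hval : ∀ θ ∈ Y, ∀ u : ℕ, ¬ p ∣ u → ∀ y : G,
      y ∈ Subgroup.centralizer ((P : Subgroup G) : Set G) → ¬ p ∣ orderOf y →
      (θ : G → ℂ) (x ^ u * y) = -(w₀ : ℂ) + (s : ℂ) * d1Per p H (a θ) u)
    (δ : d1L Y →ₗ[ℤ] d1L Y)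
    (hC4 : ∃ u : MonoidAlgebra ℤ G, ∀ (k : ℕ) (a : d1L Y),
      (Fintype.card G : ℤ) ^ k • (((δ ^ k) a : d1L Y) : MonoidAlgebra ℤ G)
        = (a : MonoidAlgebra ℤ G) * u ^ k)
    (hY5 : ∀ u : MonoidAlgebra ℤ G, (∀ (k : ℕ) (a : d1L Y),
      (Fintype.card G : ℤ) ^ k • (((δ ^ k) a : d1L Y) : MonoidAlgebra ℤ G)
        = (a : MonoidAlgebra ℤ G) * u ^ k) →
      ∀ (n : ℕ) (ρ : Representation ℂ G (Fin n → ℂ)), ρ.IsIrreducible →
        (∃ χ ∈ Y, ρ.character = (χ : G → ℂ)) → ∀ k : ℕ,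
        IsIntegral ℤ ((LinearMap.charpoly
          (ρ.asAlgebraHom ((((Fintype.card G : ℚ)⁻¹ : ℚ) : ℂ) • d1Iota u))).coeff k)) :
    ∃ y : ℕ → ℕ → ℤ,
      (∑ v ∈ Finset.Ico 1 p, y f v = -((p : ℤ) - 1)) ∧
      ∀ b : d1L Y, ∑ k ∈ Finset.range (f + 1),
        (∑ v ∈ Finset.Ico 1 p, y k v • ((s * (f : ℤ)) • d1ClassSum (x ^ v)
            + (s * w₀ * ((Subgroup.centralizer ((P : Subgroup G) : Set G)).index : ℤ))
              • (1 : MonoidAlgebra ℤ G)))
          * (((δ ^ k) b : d1L Y) : MonoidAlgebra ℤ G) = 0 := by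
  classical
  have hp : p.Prime := Fact.out
  obtain ⟨u, hu⟩ := hC4
  have hcard : Y.card * Nat.card H = p - 1 := by
    have hbij : (Y ×ˢ (Finset.univ.filter (fun h : (ZMod p)ˣ => h ∈ H))).card
        = (Finset.univ : Finset (ZMod p)ˣ).card := by
      refine Finset.card_bij (fun θh _ => a θh.1 * θh.2) (fun _ _ => Finset.mem_univ _) ?_ ?_
      · intro θh hθh θh' hθh' heq
        rw [Finset.mem_product, Finset.mem_filter] at hθh hθh'
        obtain ⟨w, -, hw⟩ := ha (a θh.1 * θh.2)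
        rw [hw θh ⟨hθh.1, hθh.2.2, rfl⟩, hw θh' ⟨hθh'.1, hθh'.2.2, heq.symm⟩]
      · intro b _
        obtain ⟨θh, hθh, -⟩ := ha b
        exact ⟨θh, by rw [Finset.mem_product, Finset.mem_filter]; exact ⟨hθh.1, Finset.mem_univ _, hθh.2.1⟩, hθh.2.2⟩
    rw [Finset.card_product, Finset.card_univ, ZMod.card_units] at hbij
    rw [← hbij, Nat.card_eq_fintype_card, Fintype.card_subtype]
  set z : MonoidAlgebra ℂ G := ((((Fintype.card G : ℚ)⁻¹ : ℚ) : ℂ)) • d1Iota u with hz
  have hex : ∀ θ : IrrCharacter G, ∃ (n : ℕ) (ρ : Representation ℂ G (Fin n → ℂ)),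
      ρ.IsIrreducible ∧ ρ.character = (θ : G → ℂ) := fun θ => θ.2
  choose n ρ hρirr hρchar using hex
  have hsC : (s : ℂ) * (s : ℂ) = 1 := by
    rcases hs with h | h <;> rw [h] <;> push_cast <;> ring
  have hs0 : (s : ℂ) ≠ 0 := fun h => by rw [h, zero_mul] at hsC; exact zero_ne_one hsC
  -- the dimension of each representation in Y is f
  have hn : ∀ θ ∈ Y, n θ = f := by
    intro θ hθ
    have h1 := hdeg θ hθ
    rw [← hρchar θ, Representation.char_one] at h1
    simp only [Module.finrank_fintype_fun_eq_card, Fintype.card_fin] at h1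
    exact_mod_cast h1
  have hf0 : f ≠ 0 := by
    obtain ⟨θh, hθh, -⟩ := ha 1
    intro h0
    have h := hdeg θh.1 hθh.1
    rw [h0, Nat.cast_zero] at h
    exact Cfsg.Agent.Lib.helper20.isIrrCharacter_one_ne_zero _ θh.1.2 h
  -- coefficients of the characteristic polynomials
  set α : ℕ → IrrCharacter G → ℂ :=
    fun k θ => (LinearMap.charpoly ((ρ θ).asAlgebraHom z)).coeff k with hα
  have hαint : ∀ k, ∀ θ ∈ Y, IsIntegral ℤ (α k θ) := fun k θ hθ =>
    hY5 u hu (n θ) (ρ θ) (hρirr θ) ⟨θ, hθ, hρchar θ⟩ k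
  have hαeq : ∀ k (σ : ℂ ≃+* ℂ) (θ θ' : IrrCharacter G), θ ∈ Y →
      (θ' : G → ℂ) = (fun g => σ ((θ : G → ℂ) g)) → α k θ' = σ (α k θ) := by
    intro k σ θ θ' hθ hθ'
    have h := Cfsg.Agent.Lib.helper88.d1_charpoly_galois σ (n θ) (n θ') (ρ θ) (hρirr θ) (ρ θ') (hρirr θ')
      (by rw [hρchar θ', hρchar θ, hθ']) u ((Fintype.card G : ℚ)⁻¹)
    show (LinearMap.charpoly ((ρ θ').asAlgebraHom z)).coeff k
      = σ ((LinearMap.charpoly ((ρ θ).asAlgebraHom z)).coeff k)
    rw [hz, h, Polynomial.coeff_map]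
    rfl
  have hper : ∀ (σ : ℂ ≃+* ℂ) (θ θ' : IrrCharacter G), θ ∈ Y →
      (θ' : G → ℂ) = (fun g => σ ((θ : G → ℂ) g)) →
      ∀ u : ℕ, d1Per p H (a θ') u = σ (d1Per p H (a θ) u) := by
    intro σ θ θ' hθ hθ' v
    have hθ'Y : θ' ∈ Y := hY σ θ θ' hθ hθ'
    by_cases hpv : p ∣ v
    · rw [d1Per_of_dvd p H _ v hpv, d1Per_of_dvd p H _ v hpv, map_natCast]
    · have e1 := hval θ hθ v hpv 1 (one_mem _) (by rw [orderOf_one]; exact hp.one_lt.ne' ∘ Nat.dvd_one.1)
      have e2 := hval θ' hθ'Y v hpv 1 (one_mem _) (by rw [orderOf_one]; exact hp.one_lt.ne' ∘ Nat.dvd_one.1)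
      rw [hθ'] at e2
      simp only at e2
      rw [e1, map_add, map_neg, map_mul, map_intCast, map_intCast] at e2
      have e3 : (s : ℂ) * d1Per p H (a θ') v = (s : ℂ) * σ (d1Per p H (a θ) v) := by
        linear_combination -e2
      exact mul_left_cancel₀ hs0 e3
  have hexp := fun k => Cfsg.Agent.Lib.helper19.d1_period_expansion p M hM H Y hY a ha hper (α k) (hαint k) (hαeq k)
  choose y hy1 hy2 using hexp
  -- the top coefficient
  have hαf : ∀ θ ∈ Y, α f θ = 1 := by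
    intro θ hθ
    have hmon := LinearMap.charpoly_monic ((ρ θ).asAlgebraHom z)
    have hdeg' : (LinearMap.charpoly ((ρ θ).asAlgebraHom z)).natDegree = f := by
      rw [LinearMap.charpoly_natDegree]
      simp only [Module.finrank_fintype_fun_eq_card, Fintype.card_fin]
      exact hn θ hθ
    show (LinearMap.charpoly ((ρ θ).asAlgebraHom z)).coeff f = 1
    rw [← hdeg']
    exact hmon
  refine ⟨y, ?_, ?_⟩
  · have h := hy2 f
    rw [Finset.sum_congr rfl hαf, Finset.sum_const, nsmul_eq_mul, mul_one] at h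
    have h' : ((∑ v ∈ Finset.Ico 1 p, y f v : ℤ) : ℂ) = ((-((p : ℤ) - 1) : ℤ) : ℂ) := by
      rw [h]
      have hc : ((Y.card * Nat.card H : ℕ) : ℂ) = ((p - 1 : ℕ) : ℂ) := by rw [hcard]
      rw [Nat.cast_sub hp.one_lt.le] at hc
      push_cast at hc ⊢
      linear_combination -hc
    exact_mod_cast h'
  · intro b
    apply d1Iota_injective
    rw [map_zero, map_sum]
    -- central coefficients
    set Cc : ℕ → MonoidAlgebra ℤ G := fun k => ∑ v ∈ Finset.Ico 1 p,
      y k v • ((s * (f : ℤ)) • d1ClassSum (x ^ v)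
        + (s * w₀ * ((Subgroup.centralizer ((P : Subgroup G) : Set G)).index : ℤ))
          • (1 : MonoidAlgebra ℤ G)) with hCc
    have hidx : ∀ v ∈ Finset.Ico 1 p, ¬ p ∣ v := by
      intro v hv
      rw [Finset.mem_Ico] at hv
      exact Nat.not_dvd_of_pos_of_lt hv.1 hv.2
    have hιC : ∀ k, d1Iota (Cc k) = ∑ v ∈ Finset.Ico 1 p,
        (y k v : ℂ) • (((s * (f : ℤ) : ℤ) : ℂ) • Cfsg.Agent.Lib.helper20.classSum (x ^ v)
          + ((s * w₀ * ((Subgroup.centralizer ((P : Subgroup G) : Set G)).index : ℤ) : ℤ) : ℂ)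
            • (1 : MonoidAlgebra ℂ G)) := by
      intro k
      rw [hCc]
      simp only [map_sum, map_zsmul, map_add, map_one, d1Iota_classSum,
        Int.cast_smul_eq_zsmul]
    have hcentral : ∀ k, Cfsg.Agent.Lib.helper20.IsCentralElt (d1Iota (Cc k)) := by
      intro k
      rw [hιC k]
      refine Finset.sum_induction _ Cfsg.Agent.Lib.helper20.IsCentralElt
        (fun a b ha hb => ha.add hb) Cfsg.Agent.Lib.helper20.isCentralElt_zero ?_
      intro v _
      exact (((Cfsg.Agent.Lib.helper20.isCentralElt_classSum (x ^ v)).smul _).add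
        (Cfsg.Agent.Lib.helper20.isCentralElt_one.smul _)).smul _
    have hrep : ∀ k, ∀ θ ∈ Y, (ρ θ).asAlgebraHom (d1Iota (Cc k))
        = (((Subgroup.centralizer ((P : Subgroup G) : Set G)).index : ℂ)
            * ((Nat.card H : ℂ) * α k θ)) • (1 : (Fin (n θ) → ℂ) →ₗ[ℂ] (Fin (n θ) → ℂ)) := by
      intro k θ hθ
      have hterm : ∀ v ∈ Finset.Ico 1 p,
          (ρ θ).asAlgebraHom ((y k v : ℂ) • (((s * (f : ℤ) : ℤ) : ℂ)
              • Cfsg.Agent.Lib.helper20.classSum (x ^ v)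
            + ((s * w₀ * ((Subgroup.centralizer ((P : Subgroup G) : Set G)).index : ℤ) : ℤ) : ℂ)
              • (1 : MonoidAlgebra ℂ G)))
          = (((Subgroup.centralizer ((P : Subgroup G) : Set G)).index : ℂ)
              * ((y k v : ℂ) * d1Per p H (a θ) v))
            • (1 : (Fin (n θ) → ℂ) →ₗ[ℂ] (Fin (n θ) → ℂ)) := by
        intro v hv
        have hpv := hidx v hv
        have hcs := Cfsg.Agent.Lib.helper83.d1_rep_classSum (n θ) (ρ θ) (hρirr θ) (x ^ v)
        rw [d1Iota_classSum, hρchar θ] at hcs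
        unfold Cfsg.centralChar at hcs
        rw [d1_centralizer_pow p P hP x hx hx1 v hpv, hdeg θ hθ] at hcs
        have e1 := hval θ hθ v hpv 1 (one_mem _)
          (by rw [orderOf_one]; exact hp.one_lt.ne' ∘ Nat.dvd_one.1)
        rw [mul_one] at e1
        rw [e1] at hcs
        rw [map_smul, map_add, map_smul, map_smul, map_one, hcs, smul_smul, ← add_smul, smul_smul]
        congr 1
        have hfC : (f : ℂ) ≠ 0 := by exact_mod_cast hf0
        have e2 : (((s * (f : ℤ) : ℤ)) : ℂ)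
            * (((Subgroup.centralizer ((P : Subgroup G) : Set G)).index : ℂ)
              * (-(w₀ : ℂ) + (s : ℂ) * d1Per p H (a θ) v) / (f : ℂ))
            = (s : ℂ) * ((Subgroup.centralizer ((P : Subgroup G) : Set G)).index : ℂ)
              * (-(w₀ : ℂ) + (s : ℂ) * d1Per p H (a θ) v) := by
          push_cast
          field_simp
        rw [e2]
        push_cast
        linear_combination
          ((y k v : ℂ) * ((Subgroup.centralizer ((P : Subgroup G) : Set G)).index : ℂ)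
            * d1Per p H (a θ) v) * hsC
      rw [hιC k, map_sum, Finset.sum_congr rfl hterm, ← Finset.sum_smul, ← Finset.mul_sum,
        ← hy1 k θ hθ]
    -- the element B
    have hsumB : ∀ k ∈ Finset.range (f + 1),
        d1Iota (Cc k * (((δ ^ k) b : d1L Y) : MonoidAlgebra ℤ G))
          = d1Iota (b : MonoidAlgebra ℤ G) * (d1Iota (Cc k) * z ^ k) := by
      intro k _
      rw [map_mul, d1Iota_pow_formula Y δ u hu k b, ← mul_assoc,
        d1_central_comm (hcentral k), mul_assoc]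
    rw [Finset.sum_congr rfl hsumB, ← Finset.mul_sum]
    apply Cfsg.Agent.Lib.helper17.d1_mul_eq_zero_of_rep_zero_of Y
      (Cfsg.Agent.Lib.helper19.d1Eps_cast Y hY) _ b.2
    intro θ hθ
    refine ⟨n θ, ρ θ, hρirr θ, hρchar θ, ?_⟩
    rw [map_sum]
    have hterm2 : ∀ k ∈ Finset.range (f + 1),
        (ρ θ).asAlgebraHom (d1Iota (Cc k) * z ^ k)
          = (((Subgroup.centralizer ((P : Subgroup G) : Set G)).index : ℂ) * (Nat.card H : ℂ))
            • ((LinearMap.charpoly ((ρ θ).asAlgebraHom z)).coeff k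
              • ((ρ θ).asAlgebraHom z) ^ k) := by
      intro k _
      rw [map_mul, map_pow, hrep k θ hθ, smul_mul_assoc, one_mul, smul_smul, mul_assoc]
    rw [Finset.sum_congr rfl hterm2, ← Finset.smul_sum]
    have hdeg' : (LinearMap.charpoly ((ρ θ).asAlgebraHom z)).natDegree < f + 1 := by
      rw [LinearMap.charpoly_natDegree]
      simp only [Module.finrank_fintype_fun_eq_card, Fintype.card_fin]
      rw [hn θ hθ]
      exact Nat.lt_succ_self f
    rw [← Polynomial.aeval_eq_sum_range' hdeg', LinearMap.aeval_self_charpoly, smul_zero]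

end Cfsg.Agent.Lib.helper84
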