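import Cfsg.Agent.Lib.helper4.D1C4
import Cfsg.Agent.Lib.helper4.D1Y1
import Cfsg.Agent.Lib.helper88.D1Y5
import Cfsg.Agent.Lib.helper18.D1Y7c
import Cfsg.Agent.Lib.helper17.D1C3
import Cfsg.Agent.Lib.helper46.D1Y7bCore
import Cfsg.Agent.Lib.helper80.D1C6Aux
import Cfsg.Agent.Lib.helper80.D1C7bAux
import Cfsg.Agent.Lib.helper84.Def1Y7a

/-!
# Defect one: wiring of the SP-C / SP-Y pieces into the four statements used by MX and MY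
-/

set_option autoImplicit false

namespace Cfsg.Agent.Lib.helper84

open Cfsg

variable {G : Type*} [Group G] [Fintype G]

/-- PIECE C6 (generic identity). -/
theorem d1_generic_PI (p : ℕ) [Fact p.Prime] (S : Finset (IrrCharacter G)) (hS : d1GalStable S)
    (δ : d1L S →ₗ[ℤ] d1L S) (hδ : ∀ g : G, δ ∘ₗ d1Rho S g = d1Rho S g ∘ₗ δ) :
    ∃ q : Polynomial ℤ, q.natDegree ≤ ∑ χ ∈ S, Cfsg.charDegree (χ : G → ℂ) ∧
      (∃ k, ¬ (p : ℤ) ∣ q.coeff k) ∧ Polynomial.aeval δ q = 0 :=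
  Cfsg.Agent.Lib.helper80.d1_generic_PI_aux p S δ
    (Cfsg.Agent.Lib.helper4.d1_end_is_right_mul S hS δ hδ)
    (Cfsg.Agent.Lib.helper17.d1_mul_eq_zero_of_rep_zero' S hS)

/-- PIECE C7b (rank of fixed points). -/
theorem d1_finrank_fix (S : Finset (IrrCharacter G)) (hS : d1GalStable S) (H : Subgroup G) :
    (Nat.card H : ℤ) * (Module.finrank ℤ (d1Fix (d1Rho S) H) : ℤ)
      = ∑ h : G, Set.indicator (H : Set G) (fun h => d1Eps S h) h :=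
  Cfsg.Agent.Lib.helper80.d1_finrank_fix_aux S (Cfsg.Agent.Lib.helper17.d1E_mem S hS) H

/-- PIECE Y7a (the central identity). -/
theorem d1_exceptional_identity (p : ℕ) [Fact p.Prime]
    (M : Ideal Cfsg.AlgInt) (hM : Cfsg.IsPModular p M)
    (P : Sylow p G) (hP : Nat.card P = p)
    (x : G) (hx : x ∈ (P : Subgroup G)) (hx1 : x ≠ 1)
    (H : Subgroup (ZMod p)ˣ)
    (hH : ∀ r : (ZMod p)ˣ, r ∈ H ↔ ∃ n : G, n * x * n⁻¹ = x ^ ((r : ZMod p).val))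
    (Y : Finset (Cfsg.IrrCharacter G)) (hY : d1GalStable Y)
    (f : ℕ) (w₀ s : ℤ) (hs : s = 1 ∨ s = -1)
    (a : Cfsg.IrrCharacter G → (ZMod p)ˣ)
    (ha : ∀ b : (ZMod p)ˣ, ∃! θh : Cfsg.IrrCharacter G × (ZMod p)ˣ,
      θh.1 ∈ Y ∧ θh.2 ∈ H ∧ a θh.1 * θh.2 = b)
    (hdeg : ∀ θ ∈ Y, (θ : G → ℂ) 1 = (f : ℂ))
    (hval : ∀ θ ∈ Y, ∀ u : ℕ, ¬ p ∣ u → ∀ y : G,
      y ∈ Subgroup.centralizer ((P : Subgroup G) : Set G) → ¬ p ∣ orderOf y →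
      (θ : G → ℂ) (x ^ u * y) = -(w₀ : ℂ) + (s : ℂ) * d1Per p H (a θ) u)
    (δ : d1L Y →ₗ[ℤ] d1L Y) (hδ : ∀ g : G, δ ∘ₗ d1Rho Y g = d1Rho Y g ∘ₗ δ) :
    ∃ y : ℕ → ℕ → ℤ,
      (∑ v ∈ Finset.Ico 1 p, y f v = -((p : ℤ) - 1)) ∧
      ∀ b : d1L Y, ∑ k ∈ Finset.range (f + 1),
        (∑ v ∈ Finset.Ico 1 p, y k v • ((s * (f : ℤ)) • d1ClassSum (x ^ v)
            + (s * w₀ * ((Subgroup.centralizer ((P : Subgroup G) : Set G)).index : ℤ))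
              • (1 : MonoidAlgebra ℤ G)))
          * (((δ ^ k) b : d1L Y) : MonoidAlgebra ℤ G) = 0 :=
  d1_exceptional_identity_core p M hM P hP x hx hx1 H hH Y hY f w₀ s hs a ha hdeg hval δ
    (Cfsg.Agent.Lib.helper4.d1_end_is_right_mul Y hY δ hδ)
    (fun u hu n ρ hρ hρS k =>
      Cfsg.Agent.Lib.helper88.d1_charpoly_integral Y hY δ u hu n ρ hρ hρS k)

/-- PIECE Y7b (the refined identity on the Tate groups). -/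
theorem d1_exceptional_PI (p : ℕ) [Fact p.Prime]
    (M : Ideal Cfsg.AlgInt) (hM : Cfsg.IsPModular p M)
    (P : Sylow p G) (hP : Nat.card P = p)
    (x : G) (hx : x ∈ (P : Subgroup G)) (hx1 : x ≠ 1)
    (H : Subgroup (ZMod p)ˣ)
    (hH : ∀ r : (ZMod p)ˣ, r ∈ H ↔ ∃ n : G, n * x * n⁻¹ = x ^ ((r : ZMod p).val))
    (Y : Finset (Cfsg.IrrCharacter G)) (hY : d1GalStable Y)
    (f : ℕ) (w₀ s : ℤ) (hs : s = 1 ∨ s = -1)
    (a : Cfsg.IrrCharacter G → (ZMod p)ˣ)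
    (ha : ∀ b : (ZMod p)ˣ, ∃! θh : Cfsg.IrrCharacter G × (ZMod p)ˣ,
      θh.1 ∈ Y ∧ θh.2 ∈ H ∧ a θh.1 * θh.2 = b)
    (hdeg : ∀ θ ∈ Y, (θ : G → ℂ) 1 = (f : ℂ))
    (hval : ∀ θ ∈ Y, ∀ u : ℕ, ¬ p ∣ u → ∀ y : G,
      y ∈ Subgroup.centralizer ((P : Subgroup G) : Set G) → ¬ p ∣ orderOf y →
      (θ : G → ℂ) (x ^ u * y) = -(w₀ : ℂ) + (s : ℂ) * d1Per p H (a θ) u)
    (δ : d1L Y →ₗ[ℤ] d1L Y) (hδ : ∀ g : G, δ ∘ₗ d1Rho Y g = d1Rho Y g ∘ₗ δ) :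
    ∃ q : Polynomial ℤ, q.natDegree ≤ f ∧ (∃ k, ¬ (p : ℤ) ∣ q.coeff k) ∧
      (∀ v ∈ d1FixC (d1Rho Y) (P : Subgroup G),
        Polynomial.aeval δ q v ∈
          (d1FixK p (d1Rho Y) (P : Subgroup G)).map (d1Tr (d1Rho Y) (P : Subgroup G))) ∧
      (∀ v ∈ d1FixK p (d1Rho Y) (P : Subgroup G), d1Tr (d1Rho Y) (P : Subgroup G) v = 0 →
        Polynomial.aeval δ q v ∈ d1Aug p (d1Rho Y) (P : Subgroup G)) := by
  obtain ⟨hC1, hC2, hC3, hC4⟩ :=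
    Cfsg.Agent.Lib.helper18.d1_congruences p M hM P hP x hx hx1 H hH Y hY f w₀ s hs a ha hdeg hval
  exact Cfsg.Agent.Lib.helper46.d1_exceptional_PI_of p P hP x hx hx1 H Y f w₀ s hs δ hδ
    (d1_exceptional_identity p M hM P hP x hx hx1 H hH Y hY f w₀ s hs a ha hdeg hval δ hδ)
    hC1 hC2 hC3 hC4
    (fun z hz hz1 v hv =>
      Cfsg.Agent.Lib.helper4.d1_classSum_fixC p P hP (d1Rho Y) z hz hz1 v hv)
    (fun z hz hz1 v hv h0 =>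
      Cfsg.Agent.Lib.helper4.d1_classSum_kerTr p P hP (d1Rho Y) z hz hz1 v hv h0)

end Cfsg.Agent.Lib.helper84
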