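import Cfsg.Agent.Lib.helper84.Def1Defs
import Cfsg.Agent.Lib.helper84.Def1Wire
import Cfsg.Agent.Lib.helper46.D1GS
import Cfsg.Agent.Lib.helper19.D1C1

/-!
# Theorem MX (core, with the Tate rank bound TB for `d1L S` as a hypothesis): the generic modular bound for a Galois-stable set of irreducible characters
-/

set_option autoImplicit false

namespace Cfsg.Agent.Lib.helper84

open Cfsg

theorem d1_generic_bound_of {G : Type*} [Group G] [Fintype G] (p : ℕ) [Fact p.Prime]
    (P : Sylow p G) (hP : Nat.card P = p)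
    (S : Finset (Cfsg.IrrCharacter G)) (hS : d1GalStable S)
    (hTB0 : (∀ δ : d1L S →ₗ[ℤ] d1L S, (∀ g : G, δ ∘ₗ d1Rho S g = d1Rho S g ∘ₗ δ) →
        ∃ q : Polynomial ℤ, q.natDegree ≤ ∑ χ ∈ S, Cfsg.charDegree (χ : G → ℂ) ∧ (∃ k, ¬ (p : ℤ) ∣ q.coeff k) ∧
          (∀ v ∈ d1FixC (d1Rho S) (P : Subgroup G),
            Polynomial.aeval δ q v ∈
              (d1FixK p (d1Rho S) (P : Subgroup G)).map (d1Tr (d1Rho S) (P : Subgroup G))) ∧
          (∀ v ∈ d1FixK p (d1Rho S) (P : Subgroup G), d1Tr (d1Rho S) (P : Subgroup G) v = 0 →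
            Polynomial.aeval δ q v ∈ d1Aug p (d1Rho S) (P : Subgroup G))) →
      |(p : ℤ) * (Module.finrank ℤ (d1FixC (d1Rho S) (P : Subgroup G)) : ℤ)
          - (Module.finrank ℤ (d1FixK p (d1Rho S) (P : Subgroup G)) : ℤ)|
        ≤ ((p : ℤ) - 1) * (∑ χ ∈ S, Cfsg.charDegree (χ : G → ℂ) : ℕ)) :
    ‖∑ c : G, Set.indicator
        {c : G | c ∈ Subgroup.centralizer ((P : Subgroup G) : Set G) ∧ p ∣ orderOf c}
        (fun c => ∑ χ ∈ S, (χ : G → ℂ) 1 * (χ : G → ℂ) c) c‖
      ≤ ((p : ℝ) - 1)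
          * (Nat.card {c : G // c ∈ Subgroup.centralizer ((P : Subgroup G) : Set G) ∧ ¬ p ∣ orderOf c} : ℝ)
          * ∑ χ ∈ S, (Cfsg.charDegree (χ : G → ℂ) : ℝ) := by
  classical
  obtain ⟨K, hK1, -, hK3⟩ := Cfsg.Agent.Lib.helper46.d1_exists_K p P hP
  have hTB := hTB0 (by
      intro δ hδ
      obtain ⟨q, hq1, hq2, hq3⟩ := d1_generic_PI p S hS δ hδ
      refine ⟨q, hq1, hq2, ?_, ?_⟩
      · intro v _
        rw [hq3]
        exact Submodule.zero_mem _
      · intro v _ _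
        rw [hq3]
        exact Submodule.zero_mem _)
  have hFC : d1FixC (d1Rho S) (P : Subgroup G)
      = d1Fix (d1Rho S) (Subgroup.centralizer ((P : Subgroup G) : Set G)) := rfl
  have hFK : d1FixK p (d1Rho S) (P : Subgroup G) = d1Fix (d1Rho S) K := by
    ext v
    constructor
    · intro hv g hg
      exact hv g ((hK1 g).1 hg).1 ((hK1 g).1 hg).2
    · intro hv g hg hp
      exact hv g ((hK1 g).2 ⟨hg, hp⟩)
  have h1 := d1_finrank_fix S hS (Subgroup.centralizer ((P : Subgroup G) : Set G))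
  have h2 := d1_finrank_fix S hS K
  rw [hFC, hFK] at hTB
  generalize (Module.finrank ℤ (d1Fix (d1Rho S)
    (Subgroup.centralizer ((P : Subgroup G) : Set G))) : ℤ) = rC at hTB h1
  generalize (Module.finrank ℤ (d1Fix (d1Rho S) K) : ℤ) = rK at hTB h2
  have hkey : (Nat.card K : ℤ) * ((p : ℤ) * rC - rK)
      = ∑ h : G, Set.indicator
          {c : G | c ∈ Subgroup.centralizer ((P : Subgroup G) : Set G) ∧ p ∣ orderOf c}
          (fun h => d1Eps S h) h := by
    have e1 : (Nat.card K : ℤ) * ((p : ℤ) * rC - rK)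
        = (Nat.card (Subgroup.centralizer ((P : Subgroup G) : Set G)) : ℤ) * rC
          - (Nat.card K : ℤ) * rK := by
      rw [hK3]
      push_cast
      ring
    rw [e1, h1, h2, ← Finset.sum_sub_distrib]
    refine Finset.sum_congr rfl (fun h _ => ?_)
    by_cases hc : h ∈ Subgroup.centralizer ((P : Subgroup G) : Set G)
    · by_cases hp : p ∣ orderOf h
      · have hnK : h ∉ K := fun hk => ((hK1 h).1 hk).2 hp
        rw [Set.indicator_of_mem (show h ∈ ((Subgroup.centralizer ((P : Subgroup G) : Set G) :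
          Subgroup G) : Set G) from hc), Set.indicator_of_notMem (show h ∉ (K : Set G) from hnK),
          Set.indicator_of_mem (show h ∈ {c : G | c ∈ Subgroup.centralizer
            ((P : Subgroup G) : Set G) ∧ p ∣ orderOf c} from ⟨hc, hp⟩), sub_zero]
      · have hk : h ∈ K := (hK1 h).2 ⟨hc, hp⟩
        rw [Set.indicator_of_mem (show h ∈ ((Subgroup.centralizer ((P : Subgroup G) : Set G) :
          Subgroup G) : Set G) from hc), Set.indicator_of_mem (show h ∈ (K : Set G) from hk),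
          Set.indicator_of_notMem (show h ∉ {c : G | c ∈ Subgroup.centralizer
            ((P : Subgroup G) : Set G) ∧ p ∣ orderOf c} from fun hh => hp hh.2), sub_self]
    · have hnK : h ∉ K := fun hk => hc ((hK1 h).1 hk).1
      rw [Set.indicator_of_notMem (show h ∉ ((Subgroup.centralizer ((P : Subgroup G) : Set G) :
          Subgroup G) : Set G) from hc), Set.indicator_of_notMem (show h ∉ (K : Set G) from hnK),
          Set.indicator_of_notMem (show h ∉ {c : G | c ∈ Subgroup.centralizer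
            ((P : Subgroup G) : Set G) ∧ p ∣ orderOf c} from fun hh => hc hh.1), sub_zero]
  have hsum : (∑ c : G, Set.indicator
        {c : G | c ∈ Subgroup.centralizer ((P : Subgroup G) : Set G) ∧ p ∣ orderOf c}
        (fun c => ∑ χ ∈ S, (χ : G → ℂ) 1 * (χ : G → ℂ) c) c)
      = (((Nat.card K : ℤ) * ((p : ℤ) * rC - rK) : ℤ) : ℂ) := by
    rw [hkey, Int.cast_sum, ← Equiv.sum_comp (Equiv.inv G)]
    refine Finset.sum_congr rfl (fun h _ => ?_)
    by_cases hh : h ∈ Subgroup.centralizer ((P : Subgroup G) : Set G) ∧ p ∣ orderOf h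
    · have hh' : h⁻¹ ∈ Subgroup.centralizer ((P : Subgroup G) : Set G) ∧ p ∣ orderOf h⁻¹ :=
        ⟨inv_mem hh.1, by rw [orderOf_inv]; exact hh.2⟩
      rw [Equiv.inv_apply, Set.indicator_of_mem (show h⁻¹ ∈ {c : G | c ∈ Subgroup.centralizer
            ((P : Subgroup G) : Set G) ∧ p ∣ orderOf c} from hh'),
        Set.indicator_of_mem (show h ∈ {c : G | c ∈ Subgroup.centralizer
            ((P : Subgroup G) : Set G) ∧ p ∣ orderOf c} from hh), Cfsg.Agent.Lib.helper19.d1Eps_cast S hS h]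
    · have hh' : ¬ (h⁻¹ ∈ Subgroup.centralizer ((P : Subgroup G) : Set G) ∧ p ∣ orderOf h⁻¹) := by
        rw [orderOf_inv, inv_mem_iff]
        exact hh
      rw [Equiv.inv_apply, Set.indicator_of_notMem (show h⁻¹ ∉ {c : G | c ∈ Subgroup.centralizer
            ((P : Subgroup G) : Set G) ∧ p ∣ orderOf c} from hh'),
        Set.indicator_of_notMem (show h ∉ {c : G | c ∈ Subgroup.centralizer
            ((P : Subgroup G) : Set G) ∧ p ∣ orderOf c} from hh), Int.cast_zero]
  have hcardK : Nat.card {c : G // c ∈ Subgroup.centralizer ((P : Subgroup G) : Set G) ∧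
      ¬ p ∣ orderOf c} = Nat.card K :=
    Nat.card_congr (Equiv.subtypeEquivRight (fun g => (hK1 g).symm))
  rw [hsum, Complex.norm_intCast, hcardK, Int.cast_mul, abs_mul]
  have hK0 : (0 : ℝ) ≤ ((Nat.card K : ℤ) : ℝ) := by positivity
  rw [abs_of_nonneg hK0]
  have hTB' : |((((p : ℤ) * rC - rK : ℤ)) : ℝ)|
      ≤ ((p : ℝ) - 1) * ∑ χ ∈ S, (Cfsg.charDegree (χ : G → ℂ) : ℝ) := by
    have := hTB
    have h3 : ((|(p : ℤ) * rC - rK| : ℤ) : ℝ)
        ≤ (((((p : ℤ) - 1) * ((∑ χ ∈ S, Cfsg.charDegree (χ : G → ℂ) : ℕ) : ℤ)) : ℤ) : ℝ) := by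
      exact_mod_cast this
    rw [Int.cast_abs] at h3
    refine h3.trans (le_of_eq ?_)
    push_cast
    ring
  calc ((Nat.card K : ℤ) : ℝ) * |((((p : ℤ) * rC - rK : ℤ)) : ℝ)|
      ≤ ((Nat.card K : ℤ) : ℝ) * (((p : ℝ) - 1) * ∑ χ ∈ S, (Cfsg.charDegree (χ : G → ℂ) : ℝ)) :=
        mul_le_mul_of_nonneg_left hTB' hK0
    _ = ((p : ℝ) - 1) * (Nat.card K : ℝ) * ∑ χ ∈ S, (Cfsg.charDegree (χ : G → ℂ) : ℝ) := by
        push_cast
        ring

end Cfsg.Agent.Lib.helper84
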