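import Cfsg.Agent.Lib.helper84.Def1Defs
import Cfsg.Agent.Lib.helper84.Def1Wire
import Cfsg.Agent.Lib.helper46.D1GS
import Cfsg.Agent.Lib.helper19.D1C1
import Cfsg.Agent.Lib.helper19.D1Y2
import Cfsg.Agent.Lib.helper20.CentralChar

/-!
# Theorem MY (core, with the Tate rank bound TB for `d1L Y` as a hypothesis): the refined modular bound for the exceptional family
-/

set_option autoImplicit false

namespace Cfsg.Agent.Lib.helper84

open Cfsg

theorem d1_exceptional_bound_of {G : Type*} [Group G] [Fintype G] (p : ℕ) [Fact p.Prime]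
    (M : Ideal Cfsg.AlgInt) (hM : Cfsg.IsPModular p M)
    (P : Sylow p G) (hP : Nat.card P = p)
    (x : G) (hx : x ∈ (P : Subgroup G)) (hx1 : x ≠ 1)
    (H : Subgroup (ZMod p)ˣ)
    (hH : ∀ r : (ZMod p)ˣ, r ∈ H ↔ ∃ n : G, n * x * n⁻¹ = x ^ ((r : ZMod p).val))
    (Y : Finset (Cfsg.IrrCharacter G)) (hY : d1GalStable Y)
    (f : ℕ) (w₀ s : ℤ) (hs : s = 1 ∨ s = -1)
    (a : Cfsg.IrrCharacter G → (ZMod p)ˣ)
    (ha : ∀ b : (ZMod p)ˣ, ∃! θh : Cfsg.IrrCharacter G × (ZMod p)ˣ,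
      θh.1 ∈ Y ∧ θh.2 ∈ H ∧ a θh.1 * θh.2 = b)
    (hdeg : ∀ θ ∈ Y, (θ : G → ℂ) 1 = (f : ℂ))
    (hval : ∀ θ ∈ Y, ∀ u : ℕ, ¬ p ∣ u → ∀ y : G,
      y ∈ Subgroup.centralizer ((P : Subgroup G) : Set G) → ¬ p ∣ orderOf y →
      (θ : G → ℂ) (x ^ u * y) = -(w₀ : ℂ) + (s : ℂ) * d1Per p H (a θ) u)
    (hTB0 : (∀ δ : d1L Y →ₗ[ℤ] d1L Y, (∀ g : G, δ ∘ₗ d1Rho Y g = d1Rho Y g ∘ₗ δ) →
        ∃ q : Polynomial ℤ, q.natDegree ≤ f ∧ (∃ k, ¬ (p : ℤ) ∣ q.coeff k) ∧
          (∀ v ∈ d1FixC (d1Rho Y) (P : Subgroup G),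
            Polynomial.aeval δ q v ∈
              (d1FixK p (d1Rho Y) (P : Subgroup G)).map (d1Tr (d1Rho Y) (P : Subgroup G))) ∧
          (∀ v ∈ d1FixK p (d1Rho Y) (P : Subgroup G), d1Tr (d1Rho Y) (P : Subgroup G) v = 0 →
            Polynomial.aeval δ q v ∈ d1Aug p (d1Rho Y) (P : Subgroup G))) →
      |(p : ℤ) * (Module.finrank ℤ (d1FixC (d1Rho Y) (P : Subgroup G)) : ℤ)
          - (Module.finrank ℤ (d1FixK p (d1Rho Y) (P : Subgroup G)) : ℤ)|
        ≤ ((p : ℤ) - 1) * (f : ℕ)) :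
    |(Y.card : ℤ) * w₀ + s| ≤ 1 := by
  classical
  have hp : p.Prime := Fact.out
  obtain ⟨K, hK1, hK2, hK3⟩ := Cfsg.Agent.Lib.helper46.d1_exists_K p P hP
  have hTB := hTB0 (by
      intro δ hδ
      exact d1_exceptional_PI p M hM P hP x hx hx1 H hH Y hY f w₀ s hs a ha hdeg hval δ hδ)
  have hFC : d1FixC (d1Rho Y) (P : Subgroup G)
      = d1Fix (d1Rho Y) (Subgroup.centralizer ((P : Subgroup G) : Set G)) := rfl
  have hFK : d1FixK p (d1Rho Y) (P : Subgroup G) = d1Fix (d1Rho Y) K := by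
    ext v
    constructor
    · intro hv g hg
      exact hv g ((hK1 g).1 hg).1 ((hK1 g).1 hg).2
    · intro hv g hg hp
      exact hv g ((hK1 g).2 ⟨hg, hp⟩)
  have h1 := d1_finrank_fix Y hY (Subgroup.centralizer ((P : Subgroup G) : Set G))
  have h2 := d1_finrank_fix Y hY K
  rw [hFC, hFK] at hTB
  generalize (Module.finrank ℤ (d1Fix (d1Rho Y)
    (Subgroup.centralizer ((P : Subgroup G) : Set G))) : ℤ) = rC at hTB h1
  generalize (Module.finrank ℤ (d1Fix (d1Rho Y) K) : ℤ) = rK at hTB h2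
  -- indicator bookkeeping
  have hind : ∀ (F : G → ℤ) (h : G),
      Set.indicator ((Subgroup.centralizer ((P : Subgroup G) : Set G) : Subgroup G) : Set G) F h
        - Set.indicator (K : Set G) F h
      = Set.indicator {c : G | c ∈ Subgroup.centralizer ((P : Subgroup G) : Set G) ∧ p ∣ orderOf c}
          F h := by
    intro F h
    by_cases hc : h ∈ Subgroup.centralizer ((P : Subgroup G) : Set G)
    · by_cases hp' : p ∣ orderOf h
      · have hnK : h ∉ K := fun hk => ((hK1 h).1 hk).2 hp'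
        rw [Set.indicator_of_mem (show h ∈ ((Subgroup.centralizer ((P : Subgroup G) : Set G) :
          Subgroup G) : Set G) from hc), Set.indicator_of_notMem (show h ∉ (K : Set G) from hnK),
          Set.indicator_of_mem (show h ∈ {c : G | c ∈ Subgroup.centralizer
            ((P : Subgroup G) : Set G) ∧ p ∣ orderOf c} from ⟨hc, hp'⟩), sub_zero]
      · have hk : h ∈ K := (hK1 h).2 ⟨hc, hp'⟩
        rw [Set.indicator_of_mem (show h ∈ ((Subgroup.centralizer ((P : Subgroup G) : Set G) :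
          Subgroup G) : Set G) from hc), Set.indicator_of_mem (show h ∈ (K : Set G) from hk),
          Set.indicator_of_notMem (show h ∉ {c : G | c ∈ Subgroup.centralizer
            ((P : Subgroup G) : Set G) ∧ p ∣ orderOf c} from fun hh => hp' hh.2), sub_self]
    · have hnK : h ∉ K := fun hk => hc ((hK1 h).1 hk).1
      rw [Set.indicator_of_notMem (show h ∉ ((Subgroup.centralizer ((P : Subgroup G) : Set G) :
          Subgroup G) : Set G) from hc), Set.indicator_of_notMem (show h ∉ (K : Set G) from hnK),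
          Set.indicator_of_notMem (show h ∉ {c : G | c ∈ Subgroup.centralizer
            ((P : Subgroup G) : Set G) ∧ p ∣ orderOf c} from fun hh => hc hh.1), sub_zero]
  have hkey : (Nat.card K : ℤ) * ((p : ℤ) * rC - rK)
      = ∑ h : G, Set.indicator
          {c : G | c ∈ Subgroup.centralizer ((P : Subgroup G) : Set G) ∧ p ∣ orderOf c}
          (fun h => d1Eps Y h) h := by
    have e1 : (Nat.card K : ℤ) * ((p : ℤ) * rC - rK)
        = (Nat.card (Subgroup.centralizer ((P : Subgroup G) : Set G)) : ℤ) * rC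
          - (Nat.card K : ℤ) * rK := by
      rw [hK3]
      push_cast
      ring
    rw [e1, h1, h2, ← Finset.sum_sub_distrib]
    exact Finset.sum_congr rfl (fun h _ => hind _ h)
  -- the number of p-singular elements of C
  have hcount : (∑ h : G, Set.indicator
          {c : G | c ∈ Subgroup.centralizer ((P : Subgroup G) : Set G) ∧ p ∣ orderOf c}
          (fun _ => (1 : ℤ)) h) = ((p : ℤ) - 1) * (Nat.card K : ℤ) := by
    have e2 : ∀ (T : Subgroup G), (∑ h : G, Set.indicator (T : Set G) (fun _ => (1 : ℤ)) h)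
        = (Nat.card T : ℤ) := by
      intro T
      rw [Finset.sum_indicator_eq_sum_filter, Finset.sum_const, nsmul_eq_mul, mul_one,
        Nat.card_eq_fintype_card, Fintype.card_subtype]
      rfl
    rw [← Finset.sum_congr rfl (fun h _ => hind (fun _ => (1 : ℤ)) h), Finset.sum_sub_distrib,
      e2, e2, hK3]
    push_cast
    ring
  -- x generates P
  have hxP : ∀ y ∈ (P : Subgroup G), ∃ u : ℕ, x ^ u = y := by
    intro y hy
    have htop : Subgroup.zpowers (⟨x, hx⟩ : (P : Subgroup G)) = ⊤ :=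
      zpowers_eq_top_of_prime_card hP (by
        intro h
        exact hx1 (congrArg Subtype.val h))
    have hmem : (⟨y, hy⟩ : (P : Subgroup G)) ∈ Subgroup.zpowers (⟨x, hx⟩ : (P : Subgroup G)) := by
      rw [htop]
      exact Subgroup.mem_top _
    rw [← mem_powers_iff_mem_zpowers] at hmem
    obtain ⟨u, hu⟩ := hmem
    exact ⟨u, congrArg Subtype.val hu⟩
  have hxp : x ^ p = 1 := by
    have h : (⟨x, hx⟩ : (P : Subgroup G)) ^ Nat.card (P : Subgroup G) = 1 := pow_card_eq_one'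
    rw [hP] at h
    exact congrArg Subtype.val h
  -- the value of the character sum on the p-singular elements of C
  have hF : ∀ h : G, h ∈ Subgroup.centralizer ((P : Subgroup G) : Set G) → p ∣ orderOf h →
      ∑ θ ∈ Y, (θ : G → ℂ) 1 * (θ : G → ℂ) h = -(f : ℂ) * ((Y.card : ℂ) * (w₀ : ℂ) + (s : ℂ)) := by
    intro h hc hph
    obtain ⟨y, hy, k, hk, rfl⟩ := hK2 h hc
    obtain ⟨u, rfl⟩ := hxP y hy
    have hpu : ¬ p ∣ u := by
      intro hdiv
      obtain ⟨m, rfl⟩ := hdiv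
      rw [pow_mul, hxp, one_pow, one_mul] at hph
      exact ((hK1 k).1 hk).2 hph
    have hterm : ∀ θ ∈ Y, (θ : G → ℂ) 1 * (θ : G → ℂ) (x ^ u * k)
        = (f : ℂ) * (-(w₀ : ℂ)) + (f : ℂ) * (s : ℂ) * d1Per p H (a θ) u := by
      intro θ hθ
      rw [hdeg θ hθ, hval θ hθ u hpu k ((hK1 k).1 hk).1 ((hK1 k).1 hk).2]
      ring
    rw [Finset.sum_congr rfl hterm, Finset.sum_add_distrib, Finset.sum_const, ← Finset.mul_sum,
      Cfsg.Agent.Lib.helper19.d1Per_sum_Y p H Y a ha u hpu, nsmul_eq_mul]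
    ring
  have hsum : ((((Nat.card K : ℤ) * ((p : ℤ) * rC - rK) : ℤ)) : ℂ)
      = ((((p : ℤ) - 1) * (Nat.card K : ℤ) : ℤ) : ℂ)
          * (-(f : ℂ) * ((Y.card : ℂ) * (w₀ : ℂ) + (s : ℂ))) := by
    rw [hkey, ← hcount, Int.cast_sum, Int.cast_sum, Finset.sum_mul,
      ← Equiv.sum_comp (Equiv.inv G)]
    refine Finset.sum_congr rfl (fun h _ => ?_)
    by_cases hh : h ∈ Subgroup.centralizer ((P : Subgroup G) : Set G) ∧ p ∣ orderOf h
    · have hh' : h⁻¹ ∈ Subgroup.centralizer ((P : Subgroup G) : Set G) ∧ p ∣ orderOf h⁻¹ :=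
        ⟨inv_mem hh.1, by rw [orderOf_inv]; exact hh.2⟩
      rw [Equiv.inv_apply, Set.indicator_of_mem (show h⁻¹ ∈ {c : G | c ∈ Subgroup.centralizer
            ((P : Subgroup G) : Set G) ∧ p ∣ orderOf c} from hh'),
        Set.indicator_of_mem (show h ∈ {c : G | c ∈ Subgroup.centralizer
            ((P : Subgroup G) : Set G) ∧ p ∣ orderOf c} from hh), Cfsg.Agent.Lib.helper19.d1Eps_cast Y hY h⁻¹,
        inv_inv, hF h hh.1 hh.2, Int.cast_one, one_mul]
    · have hh' : ¬ (h⁻¹ ∈ Subgroup.centralizer ((P : Subgroup G) : Set G) ∧ p ∣ orderOf h⁻¹) := by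
        rw [orderOf_inv, inv_mem_iff]
        exact hh
      rw [Equiv.inv_apply, Set.indicator_of_notMem (show h⁻¹ ∉ {c : G | c ∈ Subgroup.centralizer
            ((P : Subgroup G) : Set G) ∧ p ∣ orderOf c} from hh'),
        Set.indicator_of_notMem (show h ∉ {c : G | c ∈ Subgroup.centralizer
            ((P : Subgroup G) : Set G) ∧ p ∣ orderOf c} from hh), Int.cast_zero, zero_mul]
  -- back to integers
  have hKpos : 0 < Nat.card K := Nat.card_pos
  have hint : (Nat.card K : ℤ) * ((p : ℤ) * rC - rK)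
      = (Nat.card K : ℤ) * (-(((p : ℤ) - 1) * (f : ℤ) * ((Y.card : ℤ) * w₀ + s))) := by
    have : ((((Nat.card K : ℤ) * ((p : ℤ) * rC - rK) : ℤ)) : ℂ)
        = (((Nat.card K : ℤ) * (-(((p : ℤ) - 1) * (f : ℤ) * ((Y.card : ℤ) * w₀ + s))) : ℤ) : ℂ) := by
      rw [hsum]
      push_cast
      ring
    exact_mod_cast this
  have hval2 : (p : ℤ) * rC - rK = -(((p : ℤ) - 1) * (f : ℤ) * ((Y.card : ℤ) * w₀ + s)) :=
    mul_left_cancel₀ (by exact_mod_cast hKpos.ne') hint
  rw [hval2, abs_neg, abs_mul] at hTB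
  -- f > 0
  have hYne : Y.Nonempty := by
    obtain ⟨θh, hθh, -⟩ := ha 1
    exact ⟨θh.1, hθh.1⟩
  obtain ⟨θ₀, hθ₀⟩ := hYne
  have hf0 : f ≠ 0 := by
    intro h0
    have h := hdeg θ₀ hθ₀
    rw [h0, Nat.cast_zero] at h
    exact Cfsg.Agent.Lib.helper20.isIrrCharacter_one_ne_zero _ θ₀.2 h
  have hpos : (0 : ℤ) < ((p : ℤ) - 1) * (f : ℤ) := by
    have h1 : (1 : ℤ) < p := by exact_mod_cast hp.one_lt
    have h2 : (0 : ℤ) < f := by exact_mod_cast Nat.pos_of_ne_zero hf0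
    exact mul_pos (by linarith) h2
  rw [abs_of_pos hpos] at hTB
  by_contra hcon
  rw [not_le] at hcon
  have : ((p : ℤ) - 1) * (f : ℤ) * 1 < ((p : ℤ) - 1) * (f : ℤ) * |(Y.card : ℤ) * w₀ + s| :=
    mul_lt_mul_of_pos_left hcon hpos
  linarith

end Cfsg.Agent.Lib.helper84
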