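import Cfsg.Agent.Lib.helper89.GfHDefs

set_option autoImplicit false

namespace Cfsg.Agent.Lib.helper3.Gf

universe u

theorem helper84_h89N_normal {L : Type u} [CommRing L] {n : ℕ} (D : H89Data L n) :
    (h89N D).Normal := by
  constructor
  intro a ha g
  rw [mem_h89N] at ha ⊢
  obtain ⟨hax, hak⟩ := ha
  have h1 : D.e g.k * D.e (-g.k) = 1 := by rw [← D.e_add, add_neg_cancel, D.e_zero]
  refine ⟨?_, ?_⟩
  · simp only [H89G.mul_x, H89G.mul_k, H89G.inv_x, hax, hak, add_zero, mul_zero]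
    linear_combination (-g.x) * h1
  · simp only [H89G.mul_k, H89G.inv_k, hak, add_zero, add_neg_cancel]

/-- elements of `S` with prescribed `x`-coordinate -/
theorem helper84_exists_S {L : Type u} [CommRing L] {n : ℕ} (D : H89Data L n)
    (htr : ∀ w : L, D.σ w = w → ∃ z : L, z + D.σ z = w)
    (S : Subgroup (H89G D)) (hS : S ⊔ h89N D = ⊤) (x : L) :
    ∃ s ∈ S, s.x = x ∧ s.k = 0 := by
  haveI := helper84_h89N_normal D
  have hw : D.σ (x * D.σ x) = x * D.σ x := by
    rw [map_mul, D.σ_invol, mul_comm]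
  obtain ⟨z, hz⟩ := htr _ hw
  have hu : (⟨x, z, 0, hz⟩ : H89G D) ∈ S ⊔ h89N D := by
    rw [hS]
    exact Subgroup.mem_top _
  rw [Subgroup.mem_sup_of_normal_right] at hu
  obtain ⟨s, hs, m, hm, hsm⟩ := hu
  rw [mem_h89N] at hm
  refine ⟨s, hs, ?_, ?_⟩
  · have := congrArg H89G.x hsm
    simp only [H89G.mul_x, hm.1, mul_zero, add_zero] at this
    exact this
  · have := congrArg H89G.k hsm
    simp only [H89G.mul_k, hm.2, add_zero] at this
    exact this

/-- XB4, racer copy by helper84. -/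
theorem helper84_exb_nongen {L : Type u} [CommRing L] {n : ℕ} (D : H89Data L n)
    (htr : ∀ w : L, D.σ w = w → ∃ z : L, z + D.σ z = w)
    (h90 : ∀ z : L, z + D.σ z = 0 → ∃ x : L, z = x - D.σ x) :
    NonGen (h89N D) := by
  intro S hS
  have hNS : h89N D ≤ S := by
    intro m hm
    rw [mem_h89N] at hm
    have hmz : m.z + D.σ m.z = 0 := by
      have := m.hz
      rw [hm.1] at this
      simpa using this
    obtain ⟨x, hx⟩ := h90 m.z hmz
    obtain ⟨s, hs, hsx, hsk⟩ := helper84_exists_S D htr S hS x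
    obtain ⟨s₁, hs₁, hs₁x, hs₁k⟩ := helper84_exists_S D htr S hS 1
    have hm_eq : m = s * s₁ * s⁻¹ * s₁⁻¹ := by
      ext
      · simp only [H89G.mul_x, H89G.mul_k, H89G.inv_x, H89G.inv_k, hsx, hsk, hs₁x, hs₁k, hm.1,
          neg_zero, add_zero, D.e_zero]
        ring
      · simp only [H89G.mul_z, H89G.mul_x, H89G.mul_k, H89G.inv_z, H89G.inv_x, H89G.inv_k, hsx,
          hsk, hs₁x, hs₁k, neg_zero, add_zero, D.e_zero, map_mul, map_neg, map_one, map_add, hx]
        ring
      · simp only [H89G.mul_k, H89G.inv_k, hsk, hs₁k, hm.2, neg_zero, add_zero]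
    rw [hm_eq]
    exact S.mul_mem (S.mul_mem (S.mul_mem hs hs₁) (S.inv_mem hs)) (S.inv_mem hs₁)
  rw [← hS]
  exact (sup_eq_left.mpr hNS).symm

end Cfsg.Agent.Lib.helper3.Gf
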