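import Cfsg.Agent.Lib.helper89.GfHDefs
import Cfsg.Agent.Lib.helper48.GfEXA

set_option autoImplicit false

namespace Cfsg.Agent.Lib.helper3.Gf

universe u

/-- XF1, racer copy by helper84 (on top of helper48's `h48_gf_irr_field`). -/
theorem helper84_exb_field (p q : ℕ) [Fact p.Prime] [Fact q.Prime] (hpq : p ≠ q) :
    ∃ (L : Type u) (_ : Field L) (_ : Finite L) (_ : CharP L p) (lam : L),
      Nat.card L = p ^ orderOf (p : ZMod q) ∧ lam ^ q = 1 ∧ lam ≠ 1 ∧
      (∀ X : AddSubgroup L, (∀ x ∈ X, lam * x ∈ X) → X = ⊥ ∨ X = ⊤) := by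
  classical
  have hp := (Fact.out : p.Prime)
  have hq := (Fact.out : q.Prime)
  have hpne : (p : ZMod q) ≠ 0 := by
    rw [Ne, ZMod.natCast_eq_zero_iff, Nat.prime_dvd_prime_iff_eq hq hp]
    exact fun h => hpq h.symm
  have ha0 : orderOf (p : ZMod q) ≠ 0 := by
    have h1 : IsOfFinOrder (p : ZMod q) :=
      isOfFinOrder_iff_pow_eq_one.mpr ⟨q - 1, Nat.sub_pos_of_lt hq.one_lt,
        ZMod.pow_card_sub_one_eq_one hpne⟩
    exact (orderOf_pos_iff.mpr h1).ne'
  have hcard : Nat.card (ULift.{u} (GaloisField p (orderOf (p : ZMod q)))) =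
      p ^ orderOf (p : ZMod q) := by
    rw [Nat.card_ulift, GaloisField.card p _ ha0]
  have hfin : Finite (ULift.{u} (GaloisField p (orderOf (p : ZMod q)))) := inferInstance
  have hqdvd : q ∣ Nat.card (ULift.{u} (GaloisField p (orderOf (p : ZMod q))))ˣ := by
    rw [Nat.card_units, hcard]
    have h1 : ((p ^ orderOf (p : ZMod q) : ℕ) : ZMod q) = ((1 : ℕ) : ZMod q) := by
      rw [Nat.cast_pow, Nat.cast_one, pow_orderOf_eq_one]
    have h2 := (ZMod.natCast_eq_natCast_iff _ _ _).mp h1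
    exact (Nat.modEq_iff_dvd' (Nat.one_le_pow _ _ hp.pos)).mp h2.symm
  have := Fintype.ofFinite (ULift.{u} (GaloisField p (orderOf (p : ZMod q))))ˣ
  obtain ⟨lamu, hlamu⟩ := exists_prime_orderOf_dvd_card
    (G := (ULift.{u} (GaloisField p (orderOf (p : ZMod q))))ˣ) q
    (by rwa [← Nat.card_eq_fintype_card])
  have hlam : (lamu : ULift.{u} (GaloisField p (orderOf (p : ZMod q)))) ^ q = 1 := by
    have h := pow_orderOf_eq_one lamu
    rw [hlamu] at h
    rw [← Units.val_pow_eq_pow_val, h, Units.val_one]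
  have hlam1 : (lamu : ULift.{u} (GaloisField p (orderOf (p : ZMod q)))) ≠ 1 := by
    intro h
    have h1 : lamu = 1 := Units.ext h
    rw [h1, orderOf_one] at hlamu
    exact hq.one_lt.ne hlamu
  refine ⟨ULift.{u} (GaloisField p (orderOf (p : ZMod q))), inferInstance, hfin, inferInstance,
    (lamu : ULift.{u} (GaloisField p (orderOf (p : ZMod q)))), hcard, hlam, hlam1, ?_⟩
  intro X hX
  exact h48_gf_irr_field p q hcard _ hlam hlam1 X hX

end Cfsg.Agent.Lib.helper3.Gf
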