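import Mathlib
import Cfsg.Prelude.Def_Blocks

/-!
# Integrality of double coset (Hecke operator) character sums (helper84)

* `sum_eq_card_nsmul_of_left_invariant`: a function on a finite group that is invariant under left
  multiplication by a subgroup `Q` sums to `|Q|` times a sum over coset representatives.
* `isIntegral_trace_of_lattice`: an endomorphism of a complex vector space which maps a finitely
  generated `ℤ`-submodule `N` into itself and the whole space into the span of `N` has an
  algebraic integer as trace.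
* `exists_isIntegral_sum_rep_hecke`, `exists_isIntegral_sum_irr_hecke`: for a subgroup `S` of a
  finite group and `g`, `∑_{v ∈ S} χ (g v) = |S ∩ g⁻¹ S g| * β` with `β` an algebraic integer.
-/

set_option autoImplicit false

namespace Cfsg.Agent.Lib.helper84

open Cfsg

section CosetSum

/-- A function invariant under left multiplication by a subgroup `Q` sums to `|Q|` times an
element of any additive subgroup containing its values. -/
theorem sum_eq_card_nsmul_of_left_invariant {S : Type*} [Group S] [Fintype S] (Q : Subgroup S)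
    {A : Type*} [AddCommGroup A] (F : S → A) (hF : ∀ q ∈ Q, ∀ v, F (q * v) = F v)
    (N : AddSubgroup A) (hN : ∀ v, F v ∈ N) :
    ∃ n ∈ N, ∑ v, F v = Nat.card Q • n := by
  classical
  have : Fintype (S ⧸ Q) := Fintype.ofFinite _
  have : Fintype Q := Fintype.ofFinite _
  refine ⟨∑ c : S ⧸ Q, F (Quotient.out c)⁻¹, AddSubgroup.sum_mem _ (fun c _ => hN _), ?_⟩
  have h1 : ∑ v, F v = ∑ v, F v⁻¹ := by
    rw [← Equiv.sum_comp (Equiv.inv S) F]
    rfl
  rw [h1, ← Finset.sum_fiberwise Finset.univ (fun v : S => (v : S ⧸ Q)) (fun v => F v⁻¹),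
    Finset.smul_sum]
  refine Finset.sum_congr rfl fun c _ => ?_
  have hconst : ∀ v ∈ Finset.univ.filter (fun v : S => (v : S ⧸ Q) = c),
      F v⁻¹ = F (Quotient.out c)⁻¹ := by
    intro v hv
    rw [Finset.mem_filter] at hv
    have h2 : ((Quotient.out c : S) : S ⧸ Q) = (v : S ⧸ Q) := by
      rw [hv.2]
      exact QuotientGroup.out_eq' c
    rw [QuotientGroup.eq] at h2
    have h3 := hF _ (Q.inv_mem h2) (Quotient.out c)⁻¹
    rw [← h3]
    congr 1
    group
  rw [Finset.sum_congr rfl hconst, Finset.sum_const]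
  congr 1
  -- the fibre has `|Q|` elements
  rw [Nat.card_eq_fintype_card, ← Fintype.card_subtype]
  refine Fintype.card_congr ?_
  refine
    { toFun := fun v => ⟨(Quotient.out c)⁻¹ * (v : S), ?_⟩
      invFun := fun q => ⟨Quotient.out c * (q : S), ?_⟩
      left_inv := ?_
      right_inv := ?_ }
  · have h2 : ((Quotient.out c : S) : S ⧸ Q) = ((v : S) : S ⧸ Q) := by
      rw [v.2]
      exact QuotientGroup.out_eq' c
    rw [QuotientGroup.eq] at h2
    exact h2
  · rw [QuotientGroup.mk_mul_of_mem _ q.2]
    exact QuotientGroup.out_eq' c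
  · intro v
    apply Subtype.ext
    simp
  · intro q
    apply Subtype.ext
    simp

end CosetSum

section Lattice

variable {V : Type*} [AddCommGroup V] [Module ℂ V] [FiniteDimensional ℂ V]

/-- An endomorphism of a complex vector space which maps a finitely generated `ℤ`-submodule `N`
into itself and the whole space into the complex span of `N` has an algebraic integer as
trace. -/
theorem isIntegral_trace_of_lattice (A : Module.End ℂ V) (N : Submodule ℤ V) (hN : N.FG)
    (hA : ∀ n ∈ N, A n ∈ N) (hspan : ∀ v, A v ∈ Submodule.span ℂ (N : Set V)) :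
    IsIntegral ℤ (LinearMap.trace ℂ V A) := by
  classical
  have : Module.Finite ℤ N := Module.Finite.iff_fg.mpr hN
  set AN : Module.End ℤ N := (A.restrictScalars ℤ).restrict hA with hAN
  obtain ⟨P, hPm, hP⟩ := LinearMap.exists_monic_and_aeval_eq_zero ℤ AN
  have hpow : ∀ (i : ℕ) (n : N), (((AN ^ i) n : N) : V) = (A ^ i) (n : V) := by
    intro i
    induction i with
    | zero => intro n; simp
    | succ i ih =>
      intro n
      rw [pow_succ, pow_succ, Module.End.mul_apply, Module.End.mul_apply, ih]
      rfl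
  have hkill : ∀ n ∈ N, (Polynomial.aeval A P) n = 0 := by
    intro n hn
    have h1 : (Polynomial.aeval AN P) ⟨n, hn⟩ = 0 := by rw [hP]; rfl
    rw [Polynomial.aeval_eq_sum_range, LinearMap.sum_apply] at h1 ⊢
    have h2 := congrArg (fun x : N => (x : V)) h1
    simp only [Submodule.coe_sum, LinearMap.smul_apply, Submodule.coe_smul, Submodule.coe_zero,
      hpow] at h2
    simp only [LinearMap.smul_apply]
    exact h2
  have hkill' : ∀ v ∈ Submodule.span ℂ (N : Set V), (Polynomial.aeval A P) v = 0 := by
    intro v hv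
    induction hv using Submodule.span_induction with
    | mem x hx => exact hkill x hx
    | zero => simp
    | add x y _ _ hx hy => rw [map_add, hx, hy, add_zero]
    | smul c x _ hx => rw [map_smul, hx, smul_zero]
  have hsplit : A.charpoly.Splits := IsAlgClosed.splits _
  rw [Module.End.trace_eq_sum_roots_charpoly_of_splits hsplit]
  refine IsIntegral.multiset_sum (fun μ hμ => ?_)
  have hroot : A.charpoly.IsRoot μ := (Polynomial.mem_roots'.mp hμ).2
  have hev : A.HasEigenvalue μ := (Module.End.hasEigenvalue_iff_isRoot_charpoly A μ).mpr hroot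
  obtain ⟨v, hv⟩ := hev.exists_hasEigenvector
  by_cases hμ0 : μ = 0
  · rw [hμ0]; exact isIntegral_zero
  have hvspan : v ∈ Submodule.span ℂ (N : Set V) := by
    have h1 : A v = μ • v := hv.apply_eq_smul
    have h2 : v = μ⁻¹ • A v := by rw [h1, smul_smul, inv_mul_cancel₀ hμ0, one_smul]
    rw [h2]
    exact Submodule.smul_mem _ _ (hspan v)
  have h3 := hkill' v hvspan
  have h4 : Polynomial.aeval A P = Polynomial.aeval A (P.map (algebraMap ℤ ℂ)) :=
    (Polynomial.aeval_map_algebraMap ℂ A P).symm
  rw [h4, Module.End.aeval_apply_of_hasEigenvector hv] at h3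
  have h5 : (P.map (algebraMap ℤ ℂ)).eval μ = 0 := by
    rcases smul_eq_zero.mp h3 with h | h
    · exact h
    · exact absurd h hv.2
  exact ⟨P, hPm, by rw [← Polynomial.eval_map]; exact h5⟩

/-- For a representation `ρ` of a finite group, a subgroup `S` and an element `g`:
`∑_{v ∈ S} tr ρ (g v) = |S ∩ g⁻¹ S g| * β` with `β` an algebraic integer. -/
theorem exists_isIntegral_sum_rep_hecke {G : Type*} [Group G] [Finite G]
    (ρ : Representation ℂ G V) (S : Subgroup G) [Fintype S] (g : G) :
    ∃ β : ℂ, IsIntegral ℤ β ∧ ∑ v : S, ρ.character (g * (v : G)) =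
      (Nat.card (S ⊓ S.map (MulAut.conj g⁻¹).toMonoidHom : Subgroup G) : ℂ) * β := by
  classical
  set E : Module.End ℂ V := ∑ u : S, ρ (u : G) with hE
  set Q : Subgroup G := S ⊓ S.map (MulAut.conj g⁻¹).toMonoidHom with hQ
  have hQS : Q ≤ S := inf_le_left
  have hQmem : ∀ q ∈ Q, g * q * g⁻¹ ∈ S := by
    intro q hq
    have h1 := (Subgroup.mem_inf.mp hq).2
    rw [Subgroup.mem_map_equiv] at h1
    simpa using h1
  have hnS : (Nat.card S : ℂ) ≠ 0 := by exact_mod_cast Nat.card_pos.ne'
  have hnQ : (Nat.card Q : ℂ) ≠ 0 := by exact_mod_cast Nat.card_pos.ne'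
  have hEl : ∀ s ∈ S, ρ s * E = E := by
    intro s hs
    rw [hE, Finset.mul_sum]
    rw [← Equiv.sum_comp (Equiv.mulLeft (⟨s, hs⟩ : S)) (fun v : S => ρ (v : G))]
    refine Finset.sum_congr rfl fun v _ => ?_
    rw [← map_mul]
    rfl
  have hEE : E * E = (Nat.card S : ℂ) • E := by
    conv_lhs => rw [hE, Finset.sum_mul]
    rw [← hE]
    rw [Finset.sum_congr rfl (fun (u : S) _ => hEl (u : G) u.2), Finset.sum_const,
      Finset.card_univ,
      Nat.card_eq_fintype_card, Nat.cast_smul_eq_nsmul]
  set A : Module.End ℂ V := ((Nat.card S : ℂ) * (Nat.card Q : ℂ))⁻¹ • (E * ρ g * E) with hA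
  set b := Module.finBasis ℂ V with hb
  set N : Submodule ℤ V := Submodule.span ℤ
    (Set.range (fun xi : G × Fin (Module.finrank ℂ V) => E (ρ xi.1 (b xi.2)))) with hNdef
  have hNfg : N.FG := Submodule.fg_span (Set.finite_range _)
  have hgen : ∀ (x : G) (i : Fin (Module.finrank ℂ V)), E (ρ x (b i)) ∈ N := by
    intro x i
    exact Submodule.subset_span ⟨(x, i), rfl⟩
  have hAgen : ∀ (x : G) (i : Fin (Module.finrank ℂ V)), A (E (ρ x (b i))) ∈ N := by
    intro x i
    have h1 : A (E (ρ x (b i))) =
        (Nat.card Q : ℂ)⁻¹ • ∑ v : S, E (ρ (g * (v : G) * x) (b i)) := by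
      have h2 : (E * ρ g * E) (E (ρ x (b i))) =
          (Nat.card S : ℂ) • ∑ v : S, E (ρ (g * (v : G) * x) (b i)) := by
        have h3 : (E * ρ g * E) (E (ρ x (b i))) = (E * ρ g) ((E * E) (ρ x (b i))) := rfl
        rw [h3, hEE, LinearMap.smul_apply, map_smul]
        congr 1
        have h4 : (E * ρ g) (E (ρ x (b i))) = E (ρ g (E (ρ x (b i)))) := rfl
        rw [h4]
        have h5 : E (ρ x (b i)) = ∑ v : S, ρ (v : G) (ρ x (b i)) := by
          rw [hE, LinearMap.sum_apply]
        rw [h5, map_sum, map_sum]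
        refine Finset.sum_congr rfl fun v _ => ?_
        rw [map_mul, map_mul]
        rfl
      rw [hA, LinearMap.smul_apply, h2, smul_smul]
      congr 1
      field_simp
    rw [h1]
    obtain ⟨n, hn, hsum⟩ := sum_eq_card_nsmul_of_left_invariant (Q.subgroupOf S)
      (fun v : S => E (ρ (g * (v : G) * x) (b i))) (by
        intro q hq v
        have hq' : (q : G) ∈ Q := Subgroup.mem_subgroupOf.mp hq
        have h5 := hQmem _ hq'
        show E (ρ (g * ((q * v : S) : G) * x) (b i)) = E (ρ (g * (v : G) * x) (b i))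
        have h6 : g * ((q * v : S) : G) * x = (g * (q : G) * g⁻¹) * (g * (v : G) * x) := by
          rw [Subgroup.coe_mul]
          group
        rw [h6, map_mul]
        have h7 := hEl _ h5
        have h8 : E ((ρ (g * (q : G) * g⁻¹) * ρ (g * (v : G) * x)) (b i)) =
            (E * ρ (g * (q : G) * g⁻¹)) (ρ (g * (v : G) * x) (b i)) := rfl
        rw [h8]
        have hEr : E * ρ (g * (q : G) * g⁻¹) = E := by
          rw [hE, Finset.sum_mul]
          rw [← Equiv.sum_comp (Equiv.mulRight (⟨g * (q : G) * g⁻¹, h5⟩ : S))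
            (fun v : S => ρ (v : G))]
          refine Finset.sum_congr rfl fun v _ => ?_
          rw [← map_mul]
          rfl
        rw [hEr])
      N.toAddSubgroup (fun v => hgen _ i)
    have hcard : Nat.card (Q.subgroupOf S) = Nat.card Q :=
      Nat.card_congr (Subgroup.subgroupOfEquivOfLe hQS).toEquiv
    rw [hsum, hcard, ← Nat.cast_smul_eq_nsmul ℂ, smul_smul, inv_mul_cancel₀ hnQ, one_smul]
    exact hn
  have hAN : ∀ n ∈ N, A n ∈ N := by
    intro n hn
    induction hn using Submodule.span_induction with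
    | mem x hx =>
      obtain ⟨xi, rfl⟩ := hx
      exact hAgen xi.1 xi.2
    | zero => rw [map_zero]; exact N.zero_mem
    | add x y _ _ hx hy => rw [map_add]; exact N.add_mem hx hy
    | smul c x _ hx => rw [map_zsmul]; exact N.smul_mem c hx
  have hEspan : ∀ w : V, E w ∈ Submodule.span ℂ (N : Set V) := by
    intro w
    rw [← b.sum_repr w, map_sum]
    refine Submodule.sum_mem _ fun i _ => ?_
    rw [map_smul]
    refine Submodule.smul_mem _ _ (Submodule.subset_span ?_)
    have := hgen 1 i
    rw [map_one] at this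
    exact this
  have hspan : ∀ v, A v ∈ Submodule.span ℂ (N : Set V) := by
    intro v
    rw [hA, LinearMap.smul_apply]
    exact Submodule.smul_mem _ _ (hEspan _)
  have key := isIntegral_trace_of_lattice A N hNfg hAN hspan
  refine ⟨LinearMap.trace ℂ V A, key, ?_⟩
  have htr : LinearMap.trace ℂ V (E * ρ g * E) =
      (Nat.card S : ℂ) * ∑ v : S, ρ.character (g * (v : G)) := by
    rw [LinearMap.trace_mul_comm, ← mul_assoc, hEE, smul_mul_assoc, map_smul, smul_eq_mul]
    congr 1
    rw [LinearMap.trace_mul_comm, hE, Finset.mul_sum, map_sum]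
    refine Finset.sum_congr rfl fun v _ => ?_
    rw [← map_mul]
    rfl
  rw [hA, map_smul, htr, smul_eq_mul]
  field_simp

end Lattice

universe u

/-- For an irreducible character `χ` of a finite group, a subgroup `S` and an element `g`:
`∑_{v ∈ S} χ (g v) = |S ∩ g⁻¹ S g| * β` with `β` an algebraic integer. -/
theorem exists_isIntegral_sum_irr_hecke {G : Type u} [Group G] [Finite G] (χ : IrrCharacter G)
    (S : Subgroup G) [Fintype S] (g : G) :
    ∃ β : ℂ, IsIntegral ℤ β ∧ ∑ v : S, (χ : G → ℂ) (g * (v : G)) =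
      (Nat.card (S ⊓ S.map (MulAut.conj g⁻¹).toMonoidHom : Subgroup G) : ℂ) * β := by
  obtain ⟨n, ρ, -, hρ⟩ := χ.2
  have := exists_isIntegral_sum_rep_hecke ρ S g
  rw [hρ] at this
  exact this

end Cfsg.Agent.Lib.helper84
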