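import Mathlib
import Cfsg.Prelude.Def_Blocks
import Cfsg.Agent.Lib.helper79.PPartCong
import Cfsg.Agent.Lib.helper79.CycloLocal
import Cfsg.Agent.Lib.helper20.Basic
import Cfsg.Agent.Lib.helper54.CoprimeMaxInv

/-!
# Gauss sums over a Singer group and the theta family of a coprime abelian action

For a finite commutative group `C` acting on a finite commutative group `W` of prime
exponent `p` with `p` not dividing `|C|`, we build a finite family of integer polynomials
`P i` and homomorphisms `μ i : C →* ℂˣ` such that `θ_ξ(c) = ∑ i, P i (ξ) * μ i c` satisfies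
`|θ_{ζ^j}(c)|^2 * |Fix_W(c)| = |W|` for every primitive `p`-th root of unity `ζ^j`,
`θ_ζ(c) = 1` if `c` acts trivially and `θ_ζ(c)` lies in the local ideal otherwise.
-/

set_option autoImplicit false

namespace Cfsg.Agent.Lib.helper84

open Polynomial

/-- The value at `c` of the virtual character with polynomial coefficients evaluated at `ξ`. -/
noncomputable def thetaVal {ι C : Type*} [Fintype ι] [Group C] (ξ : ℂ) (P : ι → ℤ[X])
    (μ : ι → (C →* ℂˣ)) (c : C) : ℂ :=
  ∑ i, aeval ξ (P i) * ((μ i c : ℂˣ) : ℂ)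

theorem norm_hom_units_eq_one {C : Type*} [Group C] [Finite C] (μ : C →* ℂˣ) (c : C) :
    ‖((μ c : ℂˣ) : ℂ)‖ = 1 := by
  have h1 : ((μ c : ℂˣ) : ℂ) ^ Nat.card C = 1 := by
    rw [← Units.val_pow_eq_pow_val, ← map_pow, pow_card_eq_one', map_one, Units.val_one]
  exact Complex.norm_eq_one_of_pow_eq_one h1 Nat.card_pos.ne'

theorem conj_hom_units {C : Type*} [Group C] [Finite C] (μ : C →* ℂˣ) (c : C) :
    (starRingEnd ℂ) ((μ c : ℂˣ) : ℂ) = ((μ c⁻¹ : ℂˣ) : ℂ) := by
  rw [map_inv, Units.val_inv_eq_inv_val, Complex.inv_eq_conj (norm_hom_units_eq_one μ c)]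

theorem isIntegral_hom_units {C : Type*} [Group C] [Finite C] (μ : C →* ℂˣ) (c : C) :
    IsIntegral ℤ ((μ c : ℂˣ) : ℂ) := by
  have h1 : ((μ c : ℂˣ) : ℂ) ^ Nat.card C = 1 := by
    rw [← Units.val_pow_eq_pow_val, ← map_pow, pow_card_eq_one', map_one, Units.val_one]
  exact IsIntegral.of_pow Nat.card_pos (h1 ▸ isIntegral_one)

theorem isIntegral_aeval_int {ξ : ℂ} (hξ : IsIntegral ℤ ξ) (P : ℤ[X]) :
    IsIntegral ℤ (aeval ξ P) := by
  induction P using Polynomial.induction_on' with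
  | add p q hp hq => rw [map_add]; exact hp.add hq
  | monomial n a =>
    rw [Polynomial.aeval_monomial]
    exact (isIntegral_algebraMap).mul (hξ.pow n)

theorem isIntegral_thetaVal {ι C : Type*} [Fintype ι] [Group C] [Finite C] {ξ : ℂ}
    (hξ : IsIntegral ℤ ξ) (P : ι → ℤ[X]) (μ : ι → (C →* ℂˣ)) (c : C) :
    IsIntegral ℤ (thetaVal ξ P μ c) := by
  unfold thetaVal
  exact IsIntegral.sum _ (fun i _ => (isIntegral_aeval_int hξ (P i)).mul (isIntegral_hom_units _ c))

/-- The theta value of a product family is the product of theta values. -/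
theorem thetaVal_prod {ι₁ ι₂ C : Type*} [Fintype ι₁] [Fintype ι₂] [Group C] (ξ : ℂ)
    (P₁ : ι₁ → ℤ[X]) (μ₁ : ι₁ → (C →* ℂˣ)) (P₂ : ι₂ → ℤ[X]) (μ₂ : ι₂ → (C →* ℂˣ)) (c : C) :
    thetaVal ξ (fun i : ι₁ × ι₂ => P₁ i.1 * P₂ i.2) (fun i : ι₁ × ι₂ => μ₁ i.1 * μ₂ i.2) c =
      thetaVal ξ P₁ μ₁ c * thetaVal ξ P₂ μ₂ c := by
  unfold thetaVal
  rw [Finset.sum_mul_sum, ← Finset.sum_product']
  refine Finset.sum_congr rfl (fun i _ => ?_)
  rw [map_mul, MonoidHom.mul_apply, Units.val_mul]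
  ring

/-- Summing over a free orbit that covers all nonidentity elements. -/
theorem orbit_sum {S W : Type*} [Group S] [Fintype S] [Group W] [Fintype W] [DecidableEq W]
    (act : S →* MulAut W) (hfree : ∀ s w, w ≠ 1 → act s w = w → s = 1)
    (htrans : ∀ w w', w ≠ 1 → w' ≠ 1 → ∃ s, act s w = w') (u : W) (hu : u ≠ 1) (F : W → ℂ) :
    ∑ s, F (act s u) = ∑ w, F w - F 1 := by
  have hinj : Function.Injective (fun s => act s u) := by
    intro s t hst
    have hst' : act s u = act t u := hst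
    have h1 : act (t⁻¹ * s) u = u := by
      rw [map_mul, MulAut.mul_apply, hst', ← MulAut.mul_apply, ← map_mul, inv_mul_cancel,
        map_one, MulAut.one_apply]
    have h2 := hfree _ u hu h1
    exact (inv_mul_eq_one.mp h2).symm
  have himg : Finset.univ.image (fun s => act s u) = Finset.univ.erase 1 := by
    ext w
    simp only [Finset.mem_image, Finset.mem_univ, true_and, Finset.mem_erase, and_true]
    constructor
    · rintro ⟨s, rfl⟩ h
      apply hu
      have h3 : act s u = act s 1 := by rw [h, map_one]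
      exact (act s).injective h3
    · intro hw
      exact htrans u w hu hw
  rw [← Finset.sum_erase_eq_sub (Finset.mem_univ _), ← himg,
    Finset.sum_image (fun _ _ _ _ h => hinj h)]

theorem sum_hom_units_val_eq_zero {G : Type*} [Group G] [Fintype G] (f : G →* ℂˣ)
    (hf : f ≠ 1) : ∑ g, ((f g : ℂˣ) : ℂ) = 0 := by
  have h1 : (Units.coeHom ℂ).comp f ≠ 1 := by
    intro h
    apply hf
    ext g
    have := DFunLike.congr_fun h g
    simpa using this
  have h2 := sum_hom_units_eq_zero ((Units.coeHom ℂ).comp f) h1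
  simpa using h2

/-- Gauss sum for the trivial multiplicative character. -/
theorem gauss_core_one {S W : Type*} [Group S] [Fintype S] [Group W] [Fintype W]
    (act : S →* MulAut W) (hfree : ∀ s w, w ≠ 1 → act s w = w → s = 1)
    (htrans : ∀ w w', w ≠ 1 → w' ≠ 1 → ∃ s, act s w = w') (w0 : W) (hw0 : w0 ≠ 1)
    (Ψ : W →* ℂˣ) (hΨ : Ψ ≠ 1) :
    ∑ s, ((Ψ (act s w0) : ℂˣ) : ℂ) = -1 := by
  classical
  rw [orbit_sum act hfree htrans w0 hw0 (fun w => ((Ψ w : ℂˣ) : ℂ)),
    sum_hom_units_val_eq_zero Ψ hΨ, map_one, Units.val_one, zero_sub]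

theorem card_free_transitive {S W : Type*} [Group S] [Fintype S] [Group W] [Fintype W]
    (act : S →* MulAut W) (hfree : ∀ s w, w ≠ 1 → act s w = w → s = 1)
    (htrans : ∀ w w', w ≠ 1 → w' ≠ 1 → ∃ s, act s w = w') (w0 : W) (hw0 : w0 ≠ 1) :
    (Fintype.card S : ℂ) = (Fintype.card W : ℂ) - 1 := by
  classical
  have h := orbit_sum act hfree htrans w0 hw0 (fun _ => (1 : ℂ))
  simpa using h

/-- Gauss sum for a nontrivial multiplicative character: the absolute value squared is `|W|`. -/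
theorem gauss_core_norm {S W : Type*} [Group S] [Fintype S] [Group W] [Fintype W]
    (act : S →* MulAut W) (hfree : ∀ s w, w ≠ 1 → act s w = w → s = 1)
    (htrans : ∀ w w', w ≠ 1 → w' ≠ 1 → ∃ s, act s w = w') (w0 : W) (hw0 : w0 ≠ 1)
    (Ψ : W →* ℂˣ) (hΨ : Ψ ≠ 1) (χ : S →* ℂˣ) (hχ : χ ≠ 1) :
    ‖∑ s, ((χ s : ℂˣ) : ℂ) * ((Ψ (act s w0) : ℂˣ) : ℂ)‖ ^ 2 = (Fintype.card W : ℝ) := by
  classical
  have hinner : ∀ r : S, ∑ t, ((Ψ (act t (act r w0 * w0⁻¹)) : ℂˣ) : ℂ) =
      if r = 1 then (Fintype.card S : ℂ) else -1 := by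
    intro r
    by_cases hr : r = 1
    · subst hr
      simp
    · rw [if_neg hr]
      have hu : act r w0 * w0⁻¹ ≠ 1 := by
        intro h
        exact hr (hfree r w0 hw0 (mul_inv_eq_one.mp h))
      exact gauss_core_one act hfree htrans _ hu Ψ hΨ
  have hmain : (∑ s, ((χ s : ℂˣ) : ℂ) * ((Ψ (act s w0) : ℂˣ) : ℂ)) *
      (starRingEnd ℂ) (∑ s, ((χ s : ℂˣ) : ℂ) * ((Ψ (act s w0) : ℂˣ) : ℂ)) =
      (Fintype.card W : ℂ) := by
    rw [map_sum, Finset.sum_mul_sum, Finset.sum_comm]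
    have h1 : ∀ t : S, ∑ s, ((χ s : ℂˣ) : ℂ) * ((Ψ (act s w0) : ℂˣ) : ℂ) *
        (starRingEnd ℂ) (((χ t : ℂˣ) : ℂ) * ((Ψ (act t w0) : ℂˣ) : ℂ)) =
        ∑ r, ((χ r : ℂˣ) : ℂ) * ((Ψ (act t (act r w0 * w0⁻¹)) : ℂˣ) : ℂ) := by
      intro t
      rw [← Equiv.sum_comp (Equiv.mulLeft t)]
      refine Finset.sum_congr rfl (fun r _ => ?_)
      rw [map_mul, conj_hom_units, conj_hom_units]
      simp only [Equiv.coe_mulLeft]
      have e1 : ((χ (t * r) : ℂˣ) : ℂ) * ((χ t⁻¹ : ℂˣ) : ℂ) = ((χ r : ℂˣ) : ℂ) := by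
        have e0 : χ (t * r) * χ t⁻¹ = χ r := by
          rw [map_mul, map_inv, mul_comm (χ t), mul_assoc, mul_inv_cancel, mul_one]
        rw [← Units.val_mul, e0]
      have e2 : ((Ψ (act (t * r) w0) : ℂˣ) : ℂ) * ((Ψ (act t w0)⁻¹ : ℂˣ) : ℂ) =
          ((Ψ (act t (act r w0 * w0⁻¹)) : ℂˣ) : ℂ) := by
        have e0 : Ψ (act (t * r) w0) * Ψ (act t w0)⁻¹ = Ψ (act t (act r w0 * w0⁻¹)) := by
          rw [← map_mul Ψ]
          congr 1
          rw [map_mul, MulAut.mul_apply, map_mul, map_inv]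
        rw [← Units.val_mul, e0]
      rw [← e1, ← e2]
      ring
    rw [Finset.sum_congr rfl (fun t _ => h1 t), Finset.sum_comm]
    have h2 : ∀ r : S, ∑ t, ((χ r : ℂˣ) : ℂ) * ((Ψ (act t (act r w0 * w0⁻¹)) : ℂˣ) : ℂ) =
        ((χ r : ℂˣ) : ℂ) * (if r = 1 then (Fintype.card S : ℂ) else -1) := by
      intro r
      rw [← Finset.mul_sum, hinner r]
    rw [Finset.sum_congr rfl (fun r _ => h2 r)]
    have h3 : ∀ r : S, ((χ r : ℂˣ) : ℂ) * (if r = 1 then (Fintype.card S : ℂ) else -1) =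
        (if r = 1 then (Fintype.card S : ℂ) + 1 else 0) - ((χ r : ℂˣ) : ℂ) := by
      intro r
      by_cases hr : r = 1
      · subst hr
        simp
      · rw [if_neg hr, if_neg hr]
        ring
    rw [Finset.sum_congr rfl (fun r _ => h3 r), Finset.sum_sub_distrib,
      sum_hom_units_val_eq_zero χ hχ, Finset.sum_ite_eq' Finset.univ (1 : S),
      if_pos (Finset.mem_univ _), card_free_transitive act hfree htrans w0 hw0]
    ring
  rw [Complex.mul_conj] at hmain
  have h4 : ((Complex.normSq (∑ s, ((χ s : ℂˣ) : ℂ) * ((Ψ (act s w0) : ℂˣ) : ℂ)) : ℝ) : ℂ) =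
      ((Fintype.card W : ℝ) : ℂ) := by
    rw [hmain]
    simp
  rw [← Complex.normSq_eq_norm_sq]
  exact_mod_cast h4

/-! ### The Singer group of an irreducible action of a commutative group -/

/-- The equivariant automorphisms. -/
def equivAut {C W : Type*} [Group C] [Group W] (φ : C →* MulAut W) : Subgroup (MulAut W) :=
  Subgroup.centralizer (φ.range : Set (MulAut W))

/-- The centre of the group of equivariant automorphisms. -/
def singer {C W : Type*} [Group C] [Group W] (φ : C →* MulAut W) : Subgroup (MulAut W) :=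
  Subgroup.centralizer (equivAut φ : Set (MulAut W)) ⊓ equivAut φ

theorem mem_equivAut_iff {C W : Type*} [Group C] [Group W] (φ : C →* MulAut W)
    (β : MulAut W) : β ∈ equivAut φ ↔ ∀ c x, φ c (β x) = β (φ c x) := by
  unfold equivAut
  rw [Subgroup.mem_centralizer_iff]
  constructor
  · intro h c x
    have h1 := h (φ c) ⟨c, rfl⟩
    have h2 := DFunLike.congr_fun h1 x
    simpa [MulAut.mul_apply] using h2
  · rintro h _ ⟨c, rfl⟩
    ext x
    simp only [MulAut.mul_apply]
    exact h c x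

theorem phi_mem_equivAut {C W : Type*} [Group C] [Group W] (φ : C →* MulAut W)
    (hC : ∀ a b : C, a * b = b * a) (c : C) : φ c ∈ equivAut φ := by
  rw [mem_equivAut_iff]
  intro c' x
  rw [← MulAut.mul_apply, ← MulAut.mul_apply, ← map_mul, ← map_mul, hC]

theorem mem_singer_iff {C W : Type*} [Group C] [Group W] (φ : C →* MulAut W)
    (s : MulAut W) : s ∈ singer φ ↔
      (∀ β ∈ equivAut φ, ∀ x, β (s x) = s (β x)) ∧ s ∈ equivAut φ := by
  unfold singer
  rw [Subgroup.mem_inf, Subgroup.mem_centralizer_iff]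
  constructor
  · rintro ⟨h1, h2⟩
    refine ⟨fun β hβ x => ?_, h2⟩
    have h3 := DFunLike.congr_fun (h1 β hβ) x
    simpa [MulAut.mul_apply] using h3
  · rintro ⟨h1, h2⟩
    refine ⟨fun β hβ => ?_, h2⟩
    ext x
    simp only [MulAut.mul_apply]
    exact h1 β hβ x

theorem phi_mem_singer {C W : Type*} [Group C] [Group W] (φ : C →* MulAut W)
    (hC : ∀ a b : C, a * b = b * a) (c : C) : φ c ∈ singer φ := by
  rw [mem_singer_iff]
  refine ⟨fun β hβ x => ?_, phi_mem_equivAut φ hC c⟩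
  exact ((mem_equivAut_iff φ β).mp hβ c x).symm

theorem singer_comm {C W : Type*} [Group C] [Group W] (φ : C →* MulAut W)
    (a b : MulAut W) (ha : a ∈ singer φ) (hb : b ∈ singer φ) : a * b = b * a := by
  rw [mem_singer_iff] at ha hb
  ext x
  simp only [MulAut.mul_apply]
  exact (ha.1 b hb.2 x).symm

theorem singer_free {C W : Type*} [Group C] [Group W] (φ : C →* MulAut W)
    (hirr : ∀ U : Subgroup W, (∀ c w, w ∈ U → φ c w ∈ U) → U = ⊥ ∨ U = ⊤)
    (s : MulAut W) (hs : s ∈ singer φ) (w : W) (hw : w ≠ 1) (hsw : s w = w) : s = 1 := by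
  rw [mem_singer_iff] at hs
  let U : Subgroup W :=
    { carrier := {x | s x = x}
      one_mem' := map_one s
      mul_mem' := fun {a b} ha hb => by
        show s (a * b) = a * b
        rw [map_mul, ha, hb]
      inv_mem' := fun {a} ha => by
        show s a⁻¹ = a⁻¹
        rw [map_inv, ha] }
  have hU : ∀ c x, x ∈ U → φ c x ∈ U := by
    intro c x hx
    show s (φ c x) = φ c x
    have h1 := (mem_equivAut_iff φ s).mp hs.2 c x
    rw [← h1]
    congr 1
  rcases hirr U hU with h | h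
  · exfalso
    have h2 : w ∈ U := hsw
    rw [h, Subgroup.mem_bot] at h2
    exact hw h2
  · ext x
    have h2 : x ∈ U := by rw [h]; exact Subgroup.mem_top x
    exact h2

theorem singer_trans {C W : Type*} [Group C] [CommGroup W] [Finite W] (φ : C →* MulAut W)
    (hC : ∀ a b : C, a * b = b * a)
    (hirr : ∀ U : Subgroup W, (∀ c w, w ∈ U → φ c w ∈ U) → U = ⊥ ∨ U = ⊤)
    (w w' : W) (hw : w ≠ 1) (hw' : w' ≠ 1) : ∃ s ∈ singer φ, s w = w' := by
  let O : Subgroup W :=
    { carrier := {x | ∃ a : W →* W, (∀ β ∈ equivAut φ, ∀ y, a (β y) = β (a y)) ∧ a w = x}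
      one_mem' := ⟨1, fun β _ y => by simp, by simp⟩
      mul_mem' := by
        rintro x y ⟨a, ha, rfl⟩ ⟨b, hb, rfl⟩
        refine ⟨a * b, fun β hβ y => ?_, by simp⟩
        rw [MonoidHom.mul_apply, MonoidHom.mul_apply, ha β hβ, hb β hβ, map_mul]
      inv_mem' := by
        rintro x ⟨a, ha, rfl⟩
        refine ⟨a⁻¹, fun β hβ y => ?_, by simp⟩
        rw [MonoidHom.inv_apply, MonoidHom.inv_apply, ha β hβ, map_inv] }
  have hO : ∀ c x, x ∈ O → φ c x ∈ O := by
    rintro c x ⟨a, ha, rfl⟩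
    refine ⟨(φ c).toMonoidHom.comp a, fun β hβ y => ?_, rfl⟩
    show φ c (a (β y)) = β (φ c (a y))
    rw [ha β hβ]
    exact (mem_equivAut_iff φ β).mp hβ c (a y)
  have hwO : w ∈ O := ⟨MonoidHom.id W, fun β _ y => rfl, rfl⟩
  have hOtop : O = ⊤ := by
    rcases hirr O hO with h | h
    · exfalso
      rw [h, Subgroup.mem_bot] at hwO
      exact hw hwO
    · exact h
  have hw'O : w' ∈ O := by rw [hOtop]; exact Subgroup.mem_top w'
  obtain ⟨a, ha, haw⟩ := hw'O
  have hker : ∀ c x, x ∈ a.ker → φ c x ∈ a.ker := by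
    intro c x hx
    rw [MonoidHom.mem_ker] at hx ⊢
    rw [ha (φ c) (phi_mem_equivAut φ hC c), hx, map_one]
  have hinj : Function.Injective a := by
    rw [← MonoidHom.ker_eq_bot_iff]
    rcases hirr a.ker hker with h | h
    · exact h
    · exfalso
      have h1 : w ∈ a.ker := by rw [h]; exact Subgroup.mem_top w
      rw [MonoidHom.mem_ker, haw] at h1
      exact hw' h1
  have hbij : Function.Bijective a := hinj.bijective_of_finite
  refine ⟨MulEquiv.ofBijective a hbij, ?_, haw⟩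
  rw [mem_singer_iff]
  refine ⟨fun β hβ x => (ha β hβ x).symm, ?_⟩
  rw [mem_equivAut_iff]
  intro c x
  exact (ha (φ c) (phi_mem_equivAut φ hC c) x).symm

/-! ### The theta family -/

/-- A theta family for the action `φ` of `C` on `W` at the root of unity `ζ`. -/
def HasTheta.{u} {C W : Type u} [Group C] [Group W] (p : ℕ) (ζ : ℂ) (φ : C →* MulAut W) : Prop :=
  ∃ (ι : Type u) (_ : Fintype ι) (P : ι → ℤ[X]) (μ : ι → (C →* ℂˣ)),
    (∀ j : ℕ, j.Coprime p → ∀ c : C,
      ‖thetaVal (ζ ^ j) P μ c‖ ^ 2 * (Nat.card {w : W // φ c w = w} : ℝ) = (Nat.card W : ℝ)) ∧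
    (∀ c : C, (∀ w, φ c w = w) → thetaVal ζ P μ c = 1) ∧
    (∀ M : Ideal AlgInt, IsPModular p M → ∀ c : C, (∃ w, φ c w ≠ w) →
      MemLocalIdeal M (thetaVal ζ P μ c))

/-- A theta family from a commutative group acting freely and transitively on the
nonidentity elements, through which the action factors. -/
theorem hasTheta_of_singer.{u} {C W S : Type u} [Group C] [Finite C] [CommGroup W] [Finite W]
    [CommGroup S] [Finite S] (p : ℕ) [Fact p.Prime] (ζ : ℂ) (hζ : IsPrimitiveRoot ζ p)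
    (hexp : ∀ w : W, w ^ p = 1) (φ : C →* MulAut W) (act : S →* MulAut W)
    (hfree : ∀ s w, w ≠ 1 → act s w = w → s = 1)
    (htrans : ∀ w w', w ≠ 1 → w' ≠ 1 → ∃ s, act s w = w')
    (σ : C →* S) (hσ : ∀ c, act (σ c) = φ c) (w0 : W) (hw0 : w0 ≠ 1) : HasTheta p ζ φ := by
  classical
  haveI : Fintype S := Fintype.ofFinite S
  haveI : Fintype W := Fintype.ofFinite W
  haveI hne : NeZero (Monoid.exponent S) := ⟨Monoid.exponent_ne_zero_of_finite⟩
  haveI hneW : NeZero (Monoid.exponent W) := ⟨Monoid.exponent_ne_zero_of_finite⟩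
  obtain ⟨e⟩ := CommGroup.monoidHom_mulEquiv_of_hasEnoughRootsOfUnity S ℂ
  obtain ⟨ψ, hψ⟩ := CommGroup.exists_apply_ne_one_of_hasEnoughRootsOfUnity W ℂ hw0
  have hp := (Fact.out : p.Prime)
  haveI : NeZero p := ⟨hp.ne_zero⟩
  have hpow : ∀ w : W, ((ψ w : ℂˣ) : ℂ) ^ p = 1 := by
    intro w
    rw [← Units.val_pow_eq_pow_val, ← map_pow, hexp, map_one, Units.val_one]
  choose ex hex1 hex2 using fun w => hζ.eq_pow_of_pow_eq_one (hpow w)
  let κ : S →* (S →* ℂˣ) := e.symm.toMonoidHom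
  have hκ : ∀ s : S, κ s = 1 → s = 1 := by
    intro s hs
    have h1 : e.symm s = e.symm 1 := by rw [map_one]; exact hs
    exact e.symm.injective h1
  let μ : S → (C →* ℂˣ) := fun s => (MonoidHom.eval s).comp (κ.comp σ)
  let P : S → ℤ[X] := fun s => - X ^ (ex (act s w0))
  have hformula : ∀ (j : ℕ) (c : C), thetaVal (ζ ^ j) P μ c =
      - ∑ s, ((κ (σ c) s : ℂˣ) : ℂ) * (((ψ ^ j) (act s w0) : ℂˣ) : ℂ) := by
    intro j c
    unfold thetaVal
    rw [← Finset.sum_neg_distrib]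
    refine Finset.sum_congr rfl (fun s _ => ?_)
    have h1 : aeval (ζ ^ j) (P s) = - (((ψ ^ j) (act s w0) : ℂˣ) : ℂ) := by
      simp only [P, map_neg, map_pow, aeval_X]
      rw [← pow_mul, mul_comm, pow_mul, hex2, MonoidHom.pow_apply, Units.val_pow_eq_pow_val]
    have h2 : μ s c = κ (σ c) s := rfl
    rw [h1, h2]
    ring
  -- the trivial-action case
  have htriv : ∀ c : C, (∀ w, φ c w = w) → σ c = 1 := by
    intro c hc
    apply hfree (σ c) w0 hw0
    rw [hσ]
    exact hc w0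
  have hψj : ∀ j : ℕ, j.Coprime p → ψ ^ j ≠ 1 := by
    intro j hj h
    apply hψ
    have h1 : (ψ w0) ^ j = 1 := by
      have := DFunLike.congr_fun h w0
      simpa using this
    have h2 : (ψ w0) ^ p = 1 := by
      rw [← map_pow, hexp, map_one]
    have h3 : orderOf (ψ w0) ∣ Nat.gcd j p := Nat.dvd_gcd (orderOf_dvd_of_pow_eq_one h1)
      (orderOf_dvd_of_pow_eq_one h2)
    rw [hj, Nat.dvd_one, orderOf_eq_one_iff] at h3
    exact h3
  have hval1 : ∀ (j : ℕ), j.Coprime p → ∀ c : C, σ c = 1 → thetaVal (ζ ^ j) P μ c = 1 := by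
    intro j hj c hc
    rw [hformula, hc, map_one]
    simp only [MonoidHom.one_apply, Units.val_one, one_mul]
    rw [gauss_core_one act hfree htrans w0 hw0 (ψ ^ j) (hψj j hj), neg_neg]
  refine ⟨S, inferInstance, P, μ, ?_, ?_, ?_⟩
  · intro j hj c
    by_cases hc : σ c = 1
    · rw [hval1 j hj c hc, norm_one, one_pow, one_mul]
      have hall : ∀ w, φ c w = w := by
        intro w
        rw [← hσ, hc, map_one, MulAut.one_apply]
      have h1 : Nat.card {w : W // φ c w = w} = Nat.card W :=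
        Nat.card_congr (Equiv.subtypeUnivEquiv hall)
      rw [h1]
    · have hχ : κ (σ c) ≠ 1 := fun h => hc (hκ _ h)
      rw [hformula, norm_neg,
        gauss_core_norm act hfree htrans w0 hw0 (ψ ^ j) (hψj j hj) (κ (σ c)) hχ]
      have h1 : Nat.card {w : W // φ c w = w} = 1 := by
        rw [Nat.card_eq_one_iff_unique]
        refine ⟨⟨?_⟩, ⟨⟨1, map_one _⟩⟩⟩
        rintro ⟨a, ha⟩ ⟨b, hb⟩
        have ha1 : a = 1 := by
          by_contra hne1
          apply hc
          apply hfree (σ c) a hne1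
          rw [hσ]
          exact ha
        have hb1 : b = 1 := by
          by_contra hne1
          apply hc
          apply hfree (σ c) b hne1
          rw [hσ]
          exact hb
        subst ha1
        subst hb1
        rfl
      rw [h1, Nat.card_eq_fintype_card]
      simp
  · intro c hc
    have h1 := hval1 1 (Nat.coprime_one_left p) c (htriv c hc)
    rwa [pow_one] at h1
  · intro M hM c hc
    have hMp := Cfsg.Agent.Lib.helper20.isPrime_of_isPModular hM
    have hσc : σ c ≠ 1 := by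
      intro h
      obtain ⟨w, hw⟩ := hc
      apply hw
      rw [← hσ, h, map_one, MulAut.one_apply]
    have hχ : κ (σ c) ≠ 1 := fun h => hσc (hκ _ h)
    have h1 := hformula 1 c
    rw [pow_one, pow_one] at h1
    have h2 : thetaVal ζ P μ c =
        - ∑ s, ((κ (σ c) s : ℂˣ) : ℂ) * (((ψ (act s w0) : ℂˣ) : ℂ) - 1) := by
      rw [h1]
      congr 1
      have h3 : ∀ s : S, ((κ (σ c) s : ℂˣ) : ℂ) * (((ψ (act s w0) : ℂˣ) : ℂ) - 1) =
          ((κ (σ c) s : ℂˣ) : ℂ) * ((ψ (act s w0) : ℂˣ) : ℂ) - ((κ (σ c) s : ℂˣ) : ℂ) := by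
        intro s
        ring
      rw [Finset.sum_congr rfl (fun s _ => h3 s), Finset.sum_sub_distrib,
        sum_hom_units_val_eq_zero _ hχ, sub_zero]
    rw [h2]
    apply Cfsg.Agent.Lib.helper20.memLocalIdeal_neg
    apply Cfsg.Agent.Lib.helper20.memLocalIdeal_sum hMp
    intro s _
    apply Cfsg.Agent.Lib.helper20.memLocalIdeal_mul_left hMp
    · exact Cfsg.Agent.Lib.helper79.memLocalRing_of_isIntegral hMp (isIntegral_hom_units _ s)
    · exact Cfsg.Agent.Lib.helper79.memLocalIdeal_sub_one_of_pow hM _ 1 (by rw [pow_one]; exact hpow _)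

/-- A theta family for an irreducible action of a commutative group. -/
theorem hasTheta_of_irreducible.{u} {C W : Type u} [Group C] [Finite C] [Group W] [Finite W]
    (hC : ∀ a b : C, a * b = b * a) (hW : ∀ a b : W, a * b = b * a)
    (p : ℕ) [Fact p.Prime] (ζ : ℂ) (hζ : IsPrimitiveRoot ζ p)
    (hexp : ∀ w : W, w ^ p = 1) (φ : C →* MulAut W)
    (hirr : ∀ U : Subgroup W, (∀ c w, w ∈ U → φ c w ∈ U) → U = ⊥ ∨ U = ⊤)
    (w0 : W) (hw0 : w0 ≠ 1) : HasTheta p ζ φ := by
  letI : CommGroup W := { ‹Group W› with mul_comm := hW }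
  letI : CommGroup ↥(singer φ) :=
    { (inferInstance : Group ↥(singer φ)) with
      mul_comm := fun a b => Subtype.ext (singer_comm φ a b a.2 b.2) }
  exact hasTheta_of_singer p ζ hζ hexp φ (singer φ).subtype
    (fun s w hw h => Subtype.ext (singer_free φ hirr s s.2 w hw h))
    (fun w w' hw hw' => by
      obtain ⟨s, hs, h⟩ := singer_trans φ hC hirr w w' hw hw'
      exact ⟨⟨s, hs⟩, h⟩)
    (φ.codRestrict (singer φ) (phi_mem_singer φ hC)) (fun c => rfl) w0 hw0

/-- The action restricted to an invariant subgroup. -/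
def restrictAct {C W : Type*} [Group C] [Group W] (φ : C →* MulAut W) (U : Subgroup W)
    (hU : ∀ c w, w ∈ U → φ c w ∈ U) : C →* MulAut ↥U where
  toFun c :=
    { toFun := fun x => ⟨φ c x, hU c x x.2⟩
      invFun := fun x => ⟨φ c⁻¹ x, hU c⁻¹ x x.2⟩
      left_inv := fun x => Subtype.ext (by
        show φ c⁻¹ (φ c x) = x
        rw [← MulAut.mul_apply, ← map_mul, inv_mul_cancel, map_one, MulAut.one_apply])
      right_inv := fun x => Subtype.ext (by
        show φ c (φ c⁻¹ x) = x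
        rw [← MulAut.mul_apply, ← map_mul, mul_inv_cancel, map_one, MulAut.one_apply])
      map_mul' := fun x y => Subtype.ext (by
        show φ c (x * y) = φ c x * φ c y
        exact map_mul _ _ _) }
  map_one' := by
    ext x
    show φ 1 x = x
    rw [map_one, MulAut.one_apply]
  map_mul' := fun a b => by
    ext x
    show φ (a * b) x = φ a (φ b x)
    rw [map_mul, MulAut.mul_apply]

theorem restrictAct_apply {C W : Type*} [Group C] [Group W] (φ : C →* MulAut W)
    (U : Subgroup W) (hU : ∀ c w, w ∈ U → φ c w ∈ U) (c : C) (x : ↥U) :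
    ((restrictAct φ U hU c x : ↥U) : W) = φ c x := rfl

theorem decomp_unique {W : Type*} [CommGroup W] (W₁ W₂ : Subgroup W) (hinf : W₁ ⊓ W₂ = ⊥)
    {a a' b b' : W} (ha : a ∈ W₁) (ha' : a' ∈ W₁) (hb : b ∈ W₂) (hb' : b' ∈ W₂)
    (h : a * b = a' * b') : a = a' ∧ b = b' := by
  have h1 : a'⁻¹ * a = b' * b⁻¹ := by
    rw [inv_mul_eq_iff_eq_mul, ← mul_assoc, eq_mul_inv_iff_mul_eq]
    exact h
  have h2 : a'⁻¹ * a ∈ W₁ ⊓ W₂ := by
    refine ⟨W₁.mul_mem (W₁.inv_mem ha') ha, ?_⟩
    rw [h1]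
    exact W₂.mul_mem hb' (W₂.inv_mem hb)
  rw [hinf, Subgroup.mem_bot] at h2
  have h3 : a = a' := (inv_mul_eq_one.mp h2).symm
  refine ⟨h3, ?_⟩
  subst h3
  exact mul_left_cancel h

theorem card_fix_prod {W : Type*} [CommGroup W] (W₁ W₂ : Subgroup W) (hinf : W₁ ⊓ W₂ = ⊥)
    (hsup : W₁ ⊔ W₂ = ⊤) (f : W →* W) (h₁ : ∀ w ∈ W₁, f w ∈ W₁) (h₂ : ∀ w ∈ W₂, f w ∈ W₂) :
    Nat.card {w : W // f w = w} =
      Nat.card {a : ↥W₁ // f (a : W) = (a : W)} * Nat.card {b : ↥W₂ // f (b : W) = (b : W)} := by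
  rw [← Nat.card_prod]
  symm
  let g : {a : ↥W₁ // f (a : W) = (a : W)} × {b : ↥W₂ // f (b : W) = (b : W)} →
      {w : W // f w = w} := fun x =>
    ⟨(x.1.1 : W) * (x.2.1 : W), by rw [map_mul, x.1.2, x.2.2]⟩
  have hg : Function.Bijective g := by
    constructor
    · rintro ⟨⟨a, ha⟩, ⟨b, hb⟩⟩ ⟨⟨a', ha'⟩, ⟨b', hb'⟩⟩ h
      have h1 : (a : W) * (b : W) = (a' : W) * (b' : W) := congrArg Subtype.val h
      obtain ⟨e1, e2⟩ := decomp_unique W₁ W₂ hinf a.2 a'.2 b.2 b'.2 h1
      have e1' : a = a' := Subtype.ext e1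
      have e2' : b = b' := Subtype.ext e2
      subst e1'
      subst e2'
      rfl
    · rintro ⟨w, hw⟩
      have hwt : w ∈ W₁ ⊔ W₂ := by rw [hsup]; exact Subgroup.mem_top w
      rw [Subgroup.mem_sup] at hwt
      obtain ⟨a, ha, b, hb, rfl⟩ := hwt
      rw [map_mul] at hw
      obtain ⟨e1, e2⟩ := decomp_unique W₁ W₂ hinf (h₁ a ha) ha (h₂ b hb) hb hw
      exact ⟨⟨⟨⟨a, ha⟩, e1⟩, ⟨⟨b, hb⟩, e2⟩⟩, rfl⟩
  exact Nat.card_congr (Equiv.ofBijective g hg)

/-- Theta families of two complementary invariant subgroups combine. -/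
theorem hasTheta_of_complement.{u} {C W : Type u} [Group C] [Finite C] [Group W] [Finite W]
    (hW : ∀ a b : W, a * b = b * a) (p : ℕ) [Fact p.Prime] (ζ : ℂ) (hζ : IsPrimitiveRoot ζ p)
    (φ : C →* MulAut W) (W₁ W₂ : Subgroup W) (h₁ : ∀ c w, w ∈ W₁ → φ c w ∈ W₁)
    (h₂ : ∀ c w, w ∈ W₂ → φ c w ∈ W₂) (hinf : W₁ ⊓ W₂ = ⊥) (hsup : W₁ ⊔ W₂ = ⊤)
    (H₁ : HasTheta p ζ (restrictAct φ W₁ h₁)) (H₂ : HasTheta p ζ (restrictAct φ W₂ h₂)) :
    HasTheta p ζ φ := by
  classical
  letI : CommGroup W := { ‹Group W› with mul_comm := hW }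
  have hp := (Fact.out : p.Prime)
  have hζint : IsIntegral ℤ ζ := hζ.isIntegral hp.pos
  obtain ⟨ι₁, _, P₁, μ₁, a₁, b₁, c₁⟩ := H₁
  obtain ⟨ι₂, _, P₂, μ₂, a₂, b₂, c₂⟩ := H₂
  have hcardfix : ∀ c : C, Nat.card {w : W // φ c w = w} =
      Nat.card {a : ↥W₁ // restrictAct φ W₁ h₁ c a = a} *
        Nat.card {b : ↥W₂ // restrictAct φ W₂ h₂ c b = b} := by
    intro c
    have h := card_fix_prod W₁ W₂ hinf hsup (φ c).toMonoidHom (fun w hw => h₁ c w hw)
      (fun w hw => h₂ c w hw)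
    have e1 : Nat.card {a : ↥W₁ // restrictAct φ W₁ h₁ c a = a} =
        Nat.card {a : ↥W₁ // (φ c).toMonoidHom (a : W) = (a : W)} :=
      Nat.card_congr (Equiv.subtypeEquivRight (fun a => Subtype.ext_iff))
    have e2 : Nat.card {b : ↥W₂ // restrictAct φ W₂ h₂ c b = b} =
        Nat.card {b : ↥W₂ // (φ c).toMonoidHom (b : W) = (b : W)} :=
      Nat.card_congr (Equiv.subtypeEquivRight (fun a => Subtype.ext_iff))
    rw [e1, e2, ← h]
    rfl
  have hcard : Nat.card W = Nat.card ↥W₁ * Nat.card ↥W₂ := by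
    have h := card_fix_prod W₁ W₂ hinf hsup (MonoidHom.id W) (fun w hw => hw) (fun w hw => hw)
    have e0 : Nat.card {w : W // (MonoidHom.id W) w = w} = Nat.card W :=
      Nat.card_congr (Equiv.subtypeUnivEquiv (fun _ => rfl))
    have e1 : Nat.card {a : ↥W₁ // (MonoidHom.id W) (a : W) = (a : W)} = Nat.card ↥W₁ :=
      Nat.card_congr (Equiv.subtypeUnivEquiv (fun _ => rfl))
    have e2 : Nat.card {b : ↥W₂ // (MonoidHom.id W) (b : W) = (b : W)} = Nat.card ↥W₂ :=
      Nat.card_congr (Equiv.subtypeUnivEquiv (fun _ => rfl))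
    rw [← e0, h, e1, e2]
  refine ⟨ι₁ × ι₂, inferInstance, fun i => P₁ i.1 * P₂ i.2, fun i => μ₁ i.1 * μ₂ i.2,
    ?_, ?_, ?_⟩
  · intro j hj c
    rw [thetaVal_prod, norm_mul, mul_pow, hcardfix c, hcard]
    push_cast
    rw [← a₁ j hj c, ← a₂ j hj c]
    ring
  · intro c hc
    rw [thetaVal_prod, b₁ c (fun a => Subtype.ext (hc a)), b₂ c (fun a => Subtype.ext (hc a)),
      one_mul]
  · intro M hM c hc
    have hMp := Cfsg.Agent.Lib.helper20.isPrime_of_isPModular hM
    rw [thetaVal_prod]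
    by_cases h : ∀ a : ↥W₁, restrictAct φ W₁ h₁ c a = a
    · by_cases h' : ∀ b : ↥W₂, restrictAct φ W₂ h₂ c b = b
      · exfalso
        obtain ⟨w, hw⟩ := hc
        apply hw
        have hwt : w ∈ W₁ ⊔ W₂ := by rw [hsup]; exact Subgroup.mem_top w
        rw [Subgroup.mem_sup] at hwt
        obtain ⟨a, ha, b, hb, rfl⟩ := hwt
        rw [map_mul]
        have e1 := congrArg Subtype.val (h ⟨a, ha⟩)
        have e2 := congrArg Subtype.val (h' ⟨b, hb⟩)
        rw [restrictAct_apply] at e1 e2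
        rw [e1, e2]
      · have h'' : ∃ b : ↥W₂, restrictAct φ W₂ h₂ c b ≠ b := by
          by_contra hcon
          exact h' (fun b => by_contra (fun hb => hcon ⟨b, hb⟩))
        exact Cfsg.Agent.Lib.helper20.memLocalIdeal_mul_left hMp
          (Cfsg.Agent.Lib.helper79.memLocalRing_of_isIntegral hMp
            (isIntegral_thetaVal hζint _ _ c)) (c₂ M hM c h'')
    · have h'' : ∃ a : ↥W₁, restrictAct φ W₁ h₁ c a ≠ a := by
        by_contra hcon
        exact h (fun b => by_contra (fun hb => hcon ⟨b, hb⟩))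
      exact Cfsg.Agent.Lib.helper20.memLocalIdeal_mul_right hMp (c₁ M hM c h'')
        (Cfsg.Agent.Lib.helper79.memLocalRing_of_isIntegral hMp
          (isIntegral_thetaVal hζint _ _ c))

theorem card_eq_mul_of_inf_sup {W : Type*} [Group W] (hW : ∀ a b : W, a * b = b * a)
    (W₁ W₂ : Subgroup W) (hinf : W₁ ⊓ W₂ = ⊥) (hsup : W₁ ⊔ W₂ = ⊤) :
    Nat.card W = Nat.card ↥W₁ * Nat.card ↥W₂ := by
  letI : CommGroup W := { ‹Group W› with mul_comm := hW }
  have h := card_fix_prod W₁ W₂ hinf hsup (MonoidHom.id W) (fun w hw => hw) (fun w hw => hw)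
  have e0 : Nat.card {w : W // (MonoidHom.id W) w = w} = Nat.card W :=
    Nat.card_congr (Equiv.subtypeUnivEquiv (fun _ => rfl))
  have e1 : Nat.card {a : ↥W₁ // (MonoidHom.id W) (a : W) = (a : W)} = Nat.card ↥W₁ :=
    Nat.card_congr (Equiv.subtypeUnivEquiv (fun _ => rfl))
  have e2 : Nat.card {b : ↥W₂ // (MonoidHom.id W) (b : W) = (b : W)} = Nat.card ↥W₂ :=
    Nat.card_congr (Equiv.subtypeUnivEquiv (fun _ => rfl))
  rw [← e0, h, e1, e2]

/-- A theta family for every coprime action of a commutative group on a commutative group of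
prime exponent (induction on the order). -/
theorem hasTheta_of_coprime_aux.{u} (p : ℕ) [Fact p.Prime] (ζ : ℂ) (hζ : IsPrimitiveRoot ζ p)
    (C : Type u) [Group C] [Finite C] (hC : ∀ a b : C, a * b = b * a)
    (hcop : (Nat.card C).Coprime p) :
    ∀ (n : ℕ) (W : Type u) [Group W] [Finite W], Nat.card W ≤ n → (∀ a b : W, a * b = b * a) →
      (∀ w : W, w ^ p = 1) → ∀ φ : C →* MulAut W, HasTheta p ζ φ := by
  intro n
  induction n with
  | zero =>
    intro W _ _ hn
    exfalso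
    have := Nat.card_pos (α := W)
    omega
  | succ n ih =>
    intro W _ _ hn hW hexp φ
    have hp := (Fact.out : p.Prime)
    by_cases htriv : ∀ w : W, w = 1
    · refine ⟨PUnit, inferInstance, fun _ => 1, fun _ => 1, ?_, ?_, ?_⟩
      · intro j hj c
        have h1 : thetaVal (ζ ^ j) (fun _ : PUnit => (1 : ℤ[X])) (fun _ => (1 : C →* ℂˣ)) c
            = 1 := by
          simp [thetaVal]
        rw [h1, norm_one, one_pow, one_mul]
        have h2 : Nat.card {w : W // φ c w = w} = Nat.card W :=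
          Nat.card_congr (Equiv.subtypeUnivEquiv (fun w => by rw [htriv w, map_one]))
        rw [h2]
      · intro c _
        simp [thetaVal]
      · intro M hM c hc
        exfalso
        obtain ⟨w, hw⟩ := hc
        apply hw
        rw [htriv w, map_one]
    · have hne : ∃ w : W, w ≠ 1 := by
        by_contra hcon
        exact htriv (fun w => by_contra (fun hw => hcon ⟨w, hw⟩))
      obtain ⟨wne, hwne⟩ := hne
      obtain ⟨W₁, ⟨hW₁inv, hW₁ne⟩, hmin⟩ :=
        WellFounded.has_min (measure (fun U : Subgroup W => Nat.card U)).wf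
          {U : Subgroup W | (∀ c w, w ∈ U → φ c w ∈ U) ∧ U ≠ ⊥}
          ⟨⊤, fun c w _ => Subgroup.mem_top _, by
            intro h
            have h' : wne ∈ (⊤ : Subgroup W) := Subgroup.mem_top _
            rw [h, Subgroup.mem_bot] at h'
            exact hwne h'⟩
      have hpg : IsPGroup p W := fun w => ⟨1, by rw [pow_one]; exact hexp w⟩
      obtain ⟨k, hk⟩ := IsPGroup.iff_card.mp hpg
      have hcop' : (Nat.card C).Coprime (Nat.card W) := by
        rw [hk]; exact Nat.Coprime.pow_right k hcop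
      obtain ⟨W₂, hW₂inv, hinf, hsup⟩ :=
        Cfsg.Agent.Lib.helper54.maschke_of_comm hW hp hexp φ hcop' W₁ hW₁inv
      have hirr : ∀ U : Subgroup ↥W₁,
          (∀ c w, w ∈ U → restrictAct φ W₁ hW₁inv c w ∈ U) → U = ⊥ ∨ U = ⊤ := by
        intro U hU
        by_cases hUb : U = ⊥
        · exact Or.inl hUb
        · right
          have h1 : (U.map W₁.subtype) ≠ ⊥ := by
            intro h
            apply hUb
            rwa [Subgroup.map_eq_bot_iff_of_injective _ (Subgroup.subtype_injective W₁)] at h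
          have h2 : ∀ c w, w ∈ U.map W₁.subtype → φ c w ∈ U.map W₁.subtype := by
            rintro c _ ⟨x, hx, rfl⟩
            exact ⟨restrictAct φ W₁ hW₁inv c x, hU c x hx, rfl⟩
          have h3 : ¬ (Nat.card (U.map W₁.subtype) < Nat.card ↥W₁) :=
            hmin (U.map W₁.subtype) ⟨h2, h1⟩
          have h4 : Nat.card (U.map W₁.subtype) = Nat.card U :=
            Subgroup.card_map_of_injective (Subgroup.subtype_injective W₁)
          have h5 : Nat.card U ≤ Nat.card ↥W₁ := Subgroup.card_le_card_group U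
          have h6 : Nat.card U = Nat.card ↥W₁ := by omega
          exact (Subgroup.card_eq_iff_eq_top U).mp h6
      obtain ⟨w1, hw1⟩ := (Subgroup.ne_bot_iff_exists_ne_one).mp hW₁ne
      have H₁ : HasTheta p ζ (restrictAct φ W₁ hW₁inv) :=
        hasTheta_of_irreducible hC (fun a b => Subtype.ext (hW a b)) p ζ hζ
          (fun w => Subtype.ext (hexp w)) _ hirr w1 hw1
      have hcardW₂ : Nat.card ↥W₂ ≤ n := by
        have h1 := card_eq_mul_of_inf_sup hW W₁ W₂ hinf hsup
        have h2 : 1 < Nat.card ↥W₁ := (Subgroup.one_lt_card_iff_ne_bot W₁).mpr hW₁ne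
        have h3 : 0 < Nat.card ↥W₂ := Nat.card_pos
        nlinarith
      have H₂ : HasTheta p ζ (restrictAct φ W₂ hW₂inv) :=
        ih ↥W₂ hcardW₂ (fun a b => Subtype.ext (hW a b)) (fun w => Subtype.ext (hexp w)) _
      exact hasTheta_of_complement hW p ζ hζ φ W₁ W₂ hW₁inv hW₂inv hinf hsup H₁ H₂

/-- A theta family for every coprime action of a commutative group on a commutative group of
prime exponent. -/
theorem hasTheta_of_coprime.{u} (p : ℕ) [Fact p.Prime] (ζ : ℂ) (hζ : IsPrimitiveRoot ζ p)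
    {C W : Type u} [Group C] [Finite C] [Group W] [Finite W] (hC : ∀ a b : C, a * b = b * a)
    (hcop : (Nat.card C).Coprime p) (hW : ∀ a b : W, a * b = b * a) (hexp : ∀ w : W, w ^ p = 1)
    (φ : C →* MulAut W) : HasTheta p ζ φ :=
  hasTheta_of_coprime_aux p ζ hζ C hC hcop (Nat.card W) W le_rfl hW hexp φ

end Cfsg.Agent.Lib.helper84
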