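import Mathlib
import Cfsg.Prelude.Def_Blocks
import Cfsg.Prelude.Def_Characters
import Cfsg.Agent.Lib.helper84.KgvGauss
import Cfsg.Agent.Lib.helper79.CycloLocal
import Cfsg.Agent.Lib.helper4.CharTheory
import Cfsg.Agent.Lib.helper4.CharDecomp
import Cfsg.Agent.Lib.helper82.Ito
import Cfsg.Agent.Lib.helper19.LinChar
import Cfsg.Agent.Lib.helper20.Basic

/-!
# The core inequality of the `k(GV)` problem for an abelian point stabilizer

`kgv_core`: column orthogonality on the classes of `v ^ j * c` (`c` in the abelian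
stabilizer `C`) together with the averaging over the primitive `p`-th roots of unity gives
`k(X) ≤ |V|` once a theta family with nonvanishing weighted sums is available.
-/

set_option autoImplicit false

namespace Cfsg.Agent.Lib.helper84

open Polynomial

theorem exists_poly_of_hom {C : Type*} [Group C] [Fintype C] (p : ℕ) [NeZero p] (ζ : ℂ)
    (hζ : IsPrimitiveRoot ζ p) {A : Type*} [Group A] (a : A) (ha : a ^ p = 1)
    (h : A × C →* ℂˣ) (μ : C →* ℂˣ) :
    ∃ D : ℤ[X], ∀ j : ℕ, aeval (ζ ^ j) D =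
      (Fintype.card C : ℂ)⁻¹ * ∑ c : C, ((h (a ^ j, c) : ℂˣ) : ℂ) * ((μ c : ℂˣ) : ℂ) := by
  have hpow : ((h (a, 1) : ℂˣ) : ℂ) ^ p = 1 := by
    have h1 : (a, (1 : C)) ^ p = 1 := by
      rw [Prod.pow_mk, ha, one_pow]
      rfl
    rw [← Units.val_pow_eq_pow_val, ← map_pow, h1, map_one, Units.val_one]
  obtain ⟨e, -, he⟩ := hζ.eq_pow_of_pow_eq_one hpow
  let lam : C →* ℂˣ := (h.comp (MonoidHom.inr A C)) * μ
  have hsplit : ∀ (j : ℕ) (c : C), ((h (a ^ j, c) : ℂˣ) : ℂ) * ((μ c : ℂˣ) : ℂ) =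
      ((h (a, 1) : ℂˣ) : ℂ) ^ j * ((lam c : ℂˣ) : ℂ) := by
    intro j c
    have h1 : (a ^ j, c) = (a, (1 : C)) ^ j * ((1 : A), c) := by
      rw [Prod.pow_mk, one_pow, Prod.mk_mul_mk, mul_one, one_mul]
    have h2 : lam c = h ((1 : A), c) * μ c := rfl
    rw [h1, map_mul, map_pow, h2, Units.val_mul, Units.val_mul, Units.val_pow_eq_pow_val]
    ring
  have hsum : ∀ j : ℕ, ∑ c : C, ((h (a ^ j, c) : ℂˣ) : ℂ) * ((μ c : ℂˣ) : ℂ) =
      ((h (a, 1) : ℂˣ) : ℂ) ^ j * ∑ c : C, ((lam c : ℂˣ) : ℂ) := by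
    intro j
    rw [Finset.mul_sum]
    exact Finset.sum_congr rfl (fun c _ => hsplit j c)
  by_cases hlam : lam = 1
  · refine ⟨X ^ e, fun j => ?_⟩
    rw [hsum, hlam]
    simp only [MonoidHom.one_apply, Units.val_one, Finset.sum_const, Finset.card_univ,
      nsmul_eq_mul, mul_one]
    rw [map_pow, aeval_X, ← he, ← pow_mul, ← pow_mul, mul_comm e j]
    have hne : (Fintype.card C : ℂ) ≠ 0 := by exact_mod_cast Fintype.card_ne_zero
    field_simp
  · refine ⟨0, fun j => ?_⟩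
    rw [hsum, sum_hom_units_val_eq_zero lam hlam, mul_zero, mul_zero, map_zero]

theorem exists_poly_of_char {X : Type*} [Group X] [Finite X] (p : ℕ) [Fact p.Prime] (ζ : ℂ)
    (hζ : IsPrimitiveRoot ζ p) (C : Subgroup X) [Fintype C]
    (hCab : ∀ a ∈ C, ∀ b ∈ C, a * b = b * a)
    (v : X) (hv : v ^ p = 1) (hCv : ∀ c ∈ C, c * v = v * c) (χ : X → ℂ) (hχ : IsCharacter X χ)
    (μ : C →* ℂˣ) :
    ∃ D : ℤ[X], ∀ j : ℕ, aeval (ζ ^ j) D =
      (Fintype.card C : ℂ)⁻¹ * ∑ c : C, χ (v ^ j * (c : X)) * ((μ c : ℂˣ) : ℂ) := by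
  classical
  have hp := (Fact.out : p.Prime)
  haveI : NeZero p := ⟨hp.ne_zero⟩
  let A := Subgroup.zpowers v
  let f : ↥A × ↥C →* X := MonoidHom.noncommCoprod A.subtype C.subtype (by
    rintro ⟨m, hm⟩ ⟨c, hc⟩
    obtain ⟨k, rfl⟩ := Subgroup.mem_zpowers_iff.mp hm
    show Commute (v ^ k) c
    exact ((Commute.symm (hCv c hc : Commute c v)).zpow_left k))
  haveI : Fintype (↥A × ↥C) := Fintype.ofFinite _
  have hχf := Cfsg.Agent.Lib.helper4.isCharacter_comp f hχ
  obtain ⟨l, hl⟩ := Cfsg.Agent.Lib.helper4.exists_irr_list_of_isCharacter hχf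
  let a : ↥A := ⟨v, Subgroup.mem_zpowers v⟩
  have ha : a ^ p = 1 := Subtype.ext hv
  have hZcomm : ∀ x y : ↥A × ↥C, x * y = y * x := by
    rintro ⟨⟨x1, hx1⟩, ⟨x2, hx2⟩⟩ ⟨⟨y1, hy1⟩, ⟨y2, hy2⟩⟩
    obtain ⟨m, rfl⟩ := Subgroup.mem_zpowers_iff.mp hx1
    obtain ⟨n, rfl⟩ := Subgroup.mem_zpowers_iff.mp hy1
    refine Prod.ext (Subtype.ext ?_) (Subtype.ext ?_)
    · show v ^ m * v ^ n = v ^ n * v ^ m
      rw [← zpow_add, ← zpow_add, add_comm]
    · exact hCab x2 hx2 y2 hy2
  have key : ∀ l : List (IrrCharacter (↥A × ↥C)), ∃ D : ℤ[X], ∀ j : ℕ, aeval (ζ ^ j) D =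
      (Fintype.card C : ℂ)⁻¹ *
        ∑ c : C, (l.map Subtype.val).sum (a ^ j, c) * ((μ c : ℂˣ) : ℂ) := by
    intro l
    induction l with
    | nil => exact ⟨0, fun j => by simp⟩
    | cons θ l ih =>
      obtain ⟨D₂, hD₂⟩ := ih
      obtain ⟨d, hd1, hd2⟩ := Cfsg.Agent.Lib.helper82.ito_char (⊤ : Subgroup (↥A × ↥C))
        (fun x _ y _ => hZcomm x y) θ.2
      have hd : d = 1 := by
        rw [Subgroup.index_top] at hd2
        exact Nat.dvd_one.mp hd2
      have hθ1 : θ.1 1 = 1 := by rw [hd1, hd]; simp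
      obtain ⟨h, hh⟩ := Cfsg.Agent.Lib.helper19.exists_hom_of_linear θ.1
        (Cfsg.Agent.Lib.helper20.isCharacter_of_isIrrCharacter θ.2) hθ1
      obtain ⟨D₁, hD₁⟩ := exists_poly_of_hom p ζ hζ a ha h μ
      refine ⟨D₁ + D₂, fun j => ?_⟩
      rw [map_add, hD₁, hD₂, ← mul_add, ← Finset.sum_add_distrib]
      congr 1
      refine Finset.sum_congr rfl (fun c _ => ?_)
      simp only [List.map_cons, List.sum_cons, Pi.add_apply]
      rw [hh]
      ring
  obtain ⟨D, hD⟩ := key l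
  refine ⟨D, fun j => ?_⟩
  rw [hD]
  congr 1
  refine Finset.sum_congr rfl (fun c _ => ?_)
  congr 1
  have h1 := congrFun hl (a ^ j, c)
  rw [← h1]
  simp [f, a]

/-- A uniform exponent recovering `v` from `v ^ j * c`. -/
theorem exists_pow_eq_of_coprime {X : Type*} [Group X] [Finite X] (p : ℕ) [Fact p.Prime]
    (C : Subgroup X) (v : X) (hv : v ^ p = 1) (hCv : ∀ c ∈ C, c * v = v * c)
    (hcop : (Nat.card C).Coprime p) (j : ℕ) (hj : j.Coprime p) :
    ∃ m : ℕ, ∀ c ∈ C, (v ^ j * c) ^ m = v := by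
  have hp := (Fact.out : p.Prime)
  have h1 : (j * Nat.card C).Coprime p := Nat.Coprime.mul_left hj hcop
  obtain ⟨t, -, ht⟩ := Nat.exists_mul_mod_eq_one_of_coprime h1 hp.one_lt
  refine ⟨Nat.card C * t, fun c hc => ?_⟩
  have hcv : Commute c v := hCv c hc
  have hcomm : Commute (v ^ j) c := hcv.symm.pow_left j
  rw [hcomm.mul_pow]
  have h2 : c ^ (Nat.card C * t) = 1 := by
    have h3 : (⟨c, hc⟩ : ↥C) ^ Nat.card C = 1 := pow_card_eq_one'
    have h4 : c ^ Nat.card C = 1 := congrArg Subtype.val h3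
    rw [pow_mul, h4, one_pow]
  rw [h2, mul_one, ← pow_mul, pow_eq_pow_mod _ hv, ← mul_assoc, ht, pow_one]

theorem eq_of_isConj_mul {X : Type*} [Group X] [Finite X] (p : ℕ) [Fact p.Prime]
    (V C : Subgroup X) [V.Normal] (v : X) (hv : v ^ p = 1)
    (hCab : ∀ a ∈ C, ∀ b ∈ C, a * b = b * a) (hCv : ∀ c ∈ C, c * v = v * c)
    (hcent : ∀ g : X, g * v = v * g → ∃ u ∈ V, ∃ d ∈ C, g = u * d)
    (hVC : ∀ x, x ∈ V → x ∈ C → x = 1) (hcop : (Nat.card C).Coprime p)
    (j : ℕ) (hj : j.Coprime p) (c c' : X) (hc : c ∈ C) (hc' : c' ∈ C)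
    (h : IsConj (v ^ j * c) (v ^ j * c')) : c = c' := by
  obtain ⟨m, hm⟩ := exists_pow_eq_of_coprime p C v hv hCv hcop j hj
  rw [isConj_iff] at h
  obtain ⟨g, hg⟩ := h
  have h1 : g * v * g⁻¹ = v := by
    have h2 : (g * (v ^ j * c) * g⁻¹) ^ m = (v ^ j * c') ^ m := by rw [hg]
    rw [conj_pow, hm c hc, hm c' hc'] at h2
    exact h2
  have h3 : g * v = v * g := mul_inv_eq_iff_eq_mul.mp h1
  obtain ⟨u, hu, d, hd, rfl⟩ := hcent g h3
  have h4 : u * d * c * (u * d)⁻¹ = c' := by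
    have h5 : u * d * (v ^ j * c) * (u * d)⁻¹ =
        (u * d * v * (u * d)⁻¹) ^ j * (u * d * c * (u * d)⁻¹) := by
      rw [conj_pow]
      group
    rw [h5, h1] at hg
    exact mul_left_cancel hg
  have h6 : u * c * u⁻¹ = c' := by
    rw [← h4]
    have h7 : d * c = c * d := hCab d hd c hc
    calc u * c * u⁻¹ = u * (c * d) * d⁻¹ * u⁻¹ := by group
      _ = u * (d * c) * d⁻¹ * u⁻¹ := by rw [h7]
      _ = u * d * c * (u * d)⁻¹ := by group
  have h8 : c' * c⁻¹ ∈ V := by
    rw [← h6]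
    have h9 : u * c * u⁻¹ * c⁻¹ = u * (c * u⁻¹ * c⁻¹) := by group
    rw [h9]
    exact V.mul_mem hu (‹V.Normal›.conj_mem _ (V.inv_mem hu) c)
  have h10 : c' * c⁻¹ ∈ C := C.mul_mem hc' (C.inv_mem hc)
  have h11 := hVC _ h8 h10
  exact (mul_inv_eq_one.mp h11).symm

theorem card_centralizer_mul {X : Type*} [Group X] [Finite X] (p : ℕ) [Fact p.Prime]
    (V C : Subgroup X) (v : X) (hv : v ^ p = 1)
    (hCab : ∀ a ∈ C, ∀ b ∈ C, a * b = b * a) (hCv : ∀ c ∈ C, c * v = v * c)
    (hVv : ∀ u ∈ V, u * v = v * u)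
    (hcent : ∀ g : X, g * v = v * g → ∃ u ∈ V, ∃ d ∈ C, g = u * d)
    (hVC : ∀ x, x ∈ V → x ∈ C → x = 1) (hcop : (Nat.card C).Coprime p)
    (j : ℕ) (hj : j.Coprime p) (c : X) (hc : c ∈ C) :
    Nat.card (Subgroup.centralizer ({v ^ j * c} : Set X)) =
      Nat.card {u : V // c * (u : X) = (u : X) * c} * Nat.card C := by
  obtain ⟨m, hm⟩ := exists_pow_eq_of_coprime p C v hv hCv hcop j hj
  rw [← Nat.card_prod]
  symm
  have hmem : ∀ x : {u : V // c * (u : X) = (u : X) * c} × ↥C,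
      ((x.1.1 : X) * (x.2 : X)) ∈ Subgroup.centralizer ({v ^ j * c} : Set X) := by
    rintro ⟨⟨⟨u, hu⟩, huc⟩, ⟨d, hd⟩⟩
    rw [Subgroup.mem_centralizer_iff]
    intro y hy
    rw [Set.mem_singleton_iff] at hy
    subst hy
    show v ^ j * c * (u * d) = u * d * (v ^ j * c)
    have e1' : Commute u v := hVv u hu
    have e2' : Commute d v := hCv d hd
    have e1 : Commute u (v ^ j) := e1'.pow_right j
    have e2 : Commute d (v ^ j) := e2'.pow_right j
    have e3 : Commute c u := huc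
    have e4 : Commute d c := hCab d hd c hc
    calc v ^ j * c * (u * d) = v ^ j * (c * u) * d := by group
      _ = v ^ j * (u * c) * d := by rw [e3.eq]
      _ = (v ^ j * u) * (c * d) := by group
      _ = (u * v ^ j) * (d * c) := by rw [e1.eq, e4.eq]
      _ = u * (v ^ j * d) * c := by group
      _ = u * (d * v ^ j) * c := by rw [e2.eq]
      _ = u * d * (v ^ j * c) := by group
  let g : {u : V // c * (u : X) = (u : X) * c} × ↥C →
      ↥(Subgroup.centralizer ({v ^ j * c} : Set X)) := fun x => ⟨(x.1.1 : X) * (x.2 : X), hmem x⟩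
  have hg : Function.Bijective g := by
    constructor
    · rintro ⟨⟨⟨u, hu⟩, huc⟩, ⟨d, hd⟩⟩ ⟨⟨⟨u', hu'⟩, huc'⟩, ⟨d', hd'⟩⟩ h
      have h1 : u * d = u' * d' := congrArg Subtype.val h
      have h2 : u'⁻¹ * u = d' * d⁻¹ := by
        rw [inv_mul_eq_iff_eq_mul, ← mul_assoc, eq_mul_inv_iff_mul_eq]
        exact h1
      have h3 : u'⁻¹ * u = 1 := by
        apply hVC _ (V.mul_mem (V.inv_mem hu') hu)
        rw [h2]
        exact C.mul_mem hd' (C.inv_mem hd)
      have h4 : u = u' := (inv_mul_eq_one.mp h3).symm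
      subst h4
      have h5 : d = d' := mul_left_cancel h1
      subst h5
      rfl
    · rintro ⟨y, hy⟩
      rw [Subgroup.mem_centralizer_iff] at hy
      have hy1 : v ^ j * c * y = y * (v ^ j * c) := hy _ rfl
      have hy2 : Commute y (v ^ j * c) := hy1.symm
      have hy3 : Commute y v := by
        have := hy2.pow_right m
        rwa [hm c hc] at this
      obtain ⟨u, hu, d, hd, rfl⟩ := hcent y hy3.eq
      have hy4 : Commute (u * d) (v ^ j) := hy3.pow_right j
      have hy5 : Commute (u * d) c := by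
        have h1 : c = (v ^ j)⁻¹ * (v ^ j * c) := by group
        rw [h1]
        exact (hy4.inv_right).mul_right hy2
      have e4 : d * c = c * d := hCab d hd c hc
      have huc : c * u = u * c := by
        have h2 : u * d * c = c * (u * d) := hy5.eq
        have h3 : u * c * d = c * u * d := by
          calc u * c * d = u * (c * d) := by group
            _ = u * (d * c) := by rw [e4]
            _ = u * d * c := by group
            _ = c * (u * d) := h2
            _ = c * u * d := by group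
        exact (mul_right_cancel h3).symm
      exact ⟨⟨⟨⟨u, hu⟩, huc⟩, ⟨d, hd⟩⟩, rfl⟩
  exact Nat.card_congr (Equiv.ofBijective g hg)

open scoped ComplexConjugate in
/-- The core inequality: a theta family with the right absolute values and nonvanishing
weighted character sums forces `k(X) ≤ |V|`. -/
theorem kgv_core {X : Type*} [Group X] [Finite X] (p : ℕ) [Fact p.Prime] (V C : Subgroup X)
    [V.Normal] [Fintype C] (v : X) (hv : v ^ p = 1)
    (hCab : ∀ a ∈ C, ∀ b ∈ C, a * b = b * a) (hCv : ∀ c ∈ C, c * v = v * c)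
    (hVv : ∀ u ∈ V, u * v = v * u)
    (hcent : ∀ g : X, g * v = v * g → ∃ u ∈ V, ∃ d ∈ C, g = u * d)
    (hVC : ∀ x, x ∈ V → x ∈ C → x = 1) (hcop : (Nat.card C).Coprime p)
    (ζ : ℂ) (hζ : IsPrimitiveRoot ζ p) {ι : Type*} [Fintype ι] (P : ι → ℤ[X])
    (μ : ι → (C →* ℂˣ))
    (habs : ∀ j : ℕ, j.Coprime p → ∀ c : C, ‖thetaVal (ζ ^ j) P μ c‖ ^ 2 *
      (Nat.card {u : V // (c : X) * (u : X) = (u : X) * (c : X)} : ℝ) = (Nat.card V : ℝ))
    (hnz : ∀ χ : IrrCharacter X, ∑ c : C, (χ : X → ℂ) (v * (c : X)) * thetaVal ζ P μ c ≠ 0) :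
    Nat.card (ConjClasses X) ≤ Nat.card V := by
  classical
  have hp := (Fact.out : p.Prime)
  haveI : Fintype (IrrCharacter X) := Fintype.ofFinite _
  have hncard : Nat.card C = Fintype.card C := Nat.card_eq_fintype_card
  have hnpos : 0 < Fintype.card C := Fintype.card_pos
  let y : ℕ → IrrCharacter X → ℂ := fun j χ =>
    ∑ c : C, (χ : X → ℂ) (v ^ j * (c : X)) * thetaVal (ζ ^ j) P μ c
  have hA : ∀ j : ℕ, j.Coprime p →
      ∑ χ : IrrCharacter X, ‖y j χ‖ ^ 2 = (Fintype.card C : ℝ) ^ 2 * (Nat.card V : ℝ) := by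
    intro j hj
    have hC : ∑ χ : IrrCharacter X, y j χ * conj (y j χ) =
        (Fintype.card C : ℂ) ^ 2 * (Nat.card V : ℂ) := by
      have h1 : ∀ χ : IrrCharacter X, y j χ * conj (y j χ) = ∑ c : C, ∑ c' : C,
          ((χ : X → ℂ) (v ^ j * (c : X)) * conj ((χ : X → ℂ) (v ^ j * (c' : X)))) *
            (thetaVal (ζ ^ j) P μ c * conj (thetaVal (ζ ^ j) P μ c')) := by
        intro χ
        simp only [y]
        rw [map_sum, Finset.sum_mul_sum]
        refine Finset.sum_congr rfl (fun c _ => Finset.sum_congr rfl (fun c' _ => ?_))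
        rw [map_mul]
        ring
      rw [Finset.sum_congr rfl (fun χ _ => h1 χ), Finset.sum_comm]
      have h2 : ∀ c : C, ∑ χ : IrrCharacter X, ∑ c' : C,
          ((χ : X → ℂ) (v ^ j * (c : X)) * conj ((χ : X → ℂ) (v ^ j * (c' : X)))) *
            (thetaVal (ζ ^ j) P μ c * conj (thetaVal (ζ ^ j) P μ c')) =
          (Fintype.card C : ℂ) * (Nat.card V : ℂ) := by
        intro c
        rw [Finset.sum_comm]
        have h3 : ∀ c' : C, ∑ χ : IrrCharacter X,
            ((χ : X → ℂ) (v ^ j * (c : X)) * conj ((χ : X → ℂ) (v ^ j * (c' : X)))) *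
              (thetaVal (ζ ^ j) P μ c * conj (thetaVal (ζ ^ j) P μ c')) =
            if c' = c then
              ((Nat.card {u : V // (c : X) * (u : X) = (u : X) * (c : X)} : ℂ) *
                (Fintype.card C : ℂ)) *
                (thetaVal (ζ ^ j) P μ c * conj (thetaVal (ζ ^ j) P μ c)) else 0 := by
          intro c'
          rw [← Finset.sum_mul]
          by_cases hcc : c' = c
          · subst hcc
            rw [if_pos rfl, Cfsg.Agent.Lib.helper4.sum_irr_mul_conj_of_isConj (IsConj.refl _),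
              card_centralizer_mul p V C v hv hCab hCv hVv hcent hVC hcop j hj c'.1 c'.2, hncard]
            push_cast
            ring
          · rw [if_neg hcc, Cfsg.Agent.Lib.helper4.sum_irr_mul_conj_of_not_isConj, zero_mul]
            intro hconj
            apply hcc
            exact (Subtype.ext (eq_of_isConj_mul p V C v hv hCab hCv hcent hVC hcop j hj
              c.1 c'.1 c.2 c'.2 hconj)).symm
        rw [Finset.sum_congr rfl (fun c' _ => h3 c'), Finset.sum_ite_eq' Finset.univ c,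
          if_pos (Finset.mem_univ _)]
        rw [Complex.mul_conj']
        have h4 := habs j hj c
        have h5 : ((‖thetaVal (ζ ^ j) P μ c‖ ^ 2 *
            (Nat.card {u : V // (c : X) * (u : X) = (u : X) * (c : X)} : ℝ) : ℝ) : ℂ) =
            ((Nat.card V : ℝ) : ℂ) := by rw [h4]
        push_cast at h5
        rw [← h5]
        ring
      rw [Finset.sum_congr rfl (fun c _ => h2 c), Finset.sum_const, Finset.card_univ,
        nsmul_eq_mul]
      ring
    have h6 : ((∑ χ : IrrCharacter X, ‖y j χ‖ ^ 2 : ℝ) : ℂ) =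
        (((Fintype.card C : ℝ) ^ 2 * (Nat.card V : ℝ) : ℝ) : ℂ) := by
      push_cast
      rw [← hC]
      refine Finset.sum_congr rfl (fun χ _ => ?_)
      rw [Complex.mul_conj']
    exact_mod_cast h6
  have hB : ∀ χ : IrrCharacter X, ∃ F : ℤ[X], ∀ j : ℕ,
      aeval (ζ ^ j) F = (Fintype.card C : ℂ)⁻¹ * y j χ := by
    intro χ
    choose D hD using fun i => exists_poly_of_char p ζ hζ C hCab v hv hCv χ.1
      (Cfsg.Agent.Lib.helper20.isCharacter_of_isIrrCharacter χ.2) (μ i)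
    refine ⟨∑ i, P i * D i, fun j => ?_⟩
    rw [map_sum]
    simp only [map_mul, hD, y, thetaVal]
    have e1 : ∀ i : ι, aeval (ζ ^ j) (P i) * ((Fintype.card C : ℂ)⁻¹ *
        ∑ c : C, (χ : X → ℂ) (v ^ j * (c : X)) * ((μ i c : ℂˣ) : ℂ)) =
        ∑ c : C, (Fintype.card C : ℂ)⁻¹ * ((χ : X → ℂ) (v ^ j * (c : X)) *
          (aeval (ζ ^ j) (P i) * ((μ i c : ℂˣ) : ℂ))) := by
      intro i
      rw [Finset.mul_sum, Finset.mul_sum]
      refine Finset.sum_congr rfl (fun c _ => ?_)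
      ring
    rw [Finset.sum_congr rfl (fun i _ => e1 i), Finset.sum_comm, Finset.mul_sum]
    refine Finset.sum_congr rfl (fun c _ => ?_)
    rw [Finset.mul_sum, Finset.mul_sum]
  choose F hF using hB
  have hFne : ∀ χ, aeval ζ (F χ) ≠ 0 := by
    intro χ
    have h1 := hF χ 1
    rw [pow_one] at h1
    rw [h1]
    apply mul_ne_zero (inv_ne_zero (by exact_mod_cast hnpos.ne'))
    have h2 : y 1 χ = ∑ c : C, (χ : X → ℂ) (v * (c : X)) * thetaVal ζ P μ c := by
      simp only [y, pow_one]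
    rw [h2]
    exact hnz χ
  have hJpos : 0 < ((Finset.range p).filter (fun k => k.Coprime p)).card :=
    Finset.card_pos.mpr ⟨1, by simp [hp.one_lt]⟩
  have hD : ∀ χ, (((Finset.range p).filter (fun k => k.Coprime p)).card : ℝ) ≤
      ∑ j ∈ (Finset.range p).filter (fun k => k.Coprime p), ‖aeval (ζ ^ j) (F χ)‖ ^ 2 :=
    fun χ => Cfsg.Agent.Lib.helper79.card_le_sum_norm_sq_aeval hp.pos hζ (F χ) (hFne χ)
  have hsum : (Fintype.card (IrrCharacter X) : ℝ) *
      (((Finset.range p).filter (fun k => k.Coprime p)).card : ℝ) ≤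
      (((Finset.range p).filter (fun k => k.Coprime p)).card : ℝ) * (Nat.card V : ℝ) := by
    calc (Fintype.card (IrrCharacter X) : ℝ) *
          (((Finset.range p).filter (fun k => k.Coprime p)).card : ℝ)
        = ∑ χ : IrrCharacter X, (((Finset.range p).filter (fun k => k.Coprime p)).card : ℝ) := by
          rw [Finset.sum_const, Finset.card_univ, nsmul_eq_mul]
      _ ≤ ∑ χ : IrrCharacter X, ∑ j ∈ (Finset.range p).filter (fun k => k.Coprime p),
            ‖aeval (ζ ^ j) (F χ)‖ ^ 2 := Finset.sum_le_sum (fun χ _ => hD χ)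
      _ = ∑ j ∈ (Finset.range p).filter (fun k => k.Coprime p), ∑ χ : IrrCharacter X,
            ‖aeval (ζ ^ j) (F χ)‖ ^ 2 := Finset.sum_comm
      _ = ∑ j ∈ (Finset.range p).filter (fun k => k.Coprime p), (Nat.card V : ℝ) := by
          refine Finset.sum_congr rfl (fun j hj => ?_)
          have hjc : j.Coprime p := (Finset.mem_filter.mp hj).2
          have h1 : ∀ χ : IrrCharacter X, ‖aeval (ζ ^ j) (F χ)‖ ^ 2 =
              ((Fintype.card C : ℝ)⁻¹) ^ 2 * ‖y j χ‖ ^ 2 := by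
            intro χ
            rw [hF χ j, norm_mul, mul_pow, norm_inv]
            simp
          rw [Finset.sum_congr rfl (fun χ _ => h1 χ), ← Finset.mul_sum, hA j hjc]
          have hne : (Fintype.card C : ℝ) ≠ 0 := by exact_mod_cast hnpos.ne'
          field_simp
      _ = (((Finset.range p).filter (fun k => k.Coprime p)).card : ℝ) * (Nat.card V : ℝ) := by
          rw [Finset.sum_const, nsmul_eq_mul]
  have hfin : (Fintype.card (IrrCharacter X) : ℝ) ≤ (Nat.card V : ℝ) := by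
    have hJ' : (0 : ℝ) < (((Finset.range p).filter (fun k => k.Coprime p)).card : ℝ) := by
      exact_mod_cast hJpos
    nlinarith
  rw [← Cfsg.Agent.Lib.helper4.card_irr_eq_card_conjClasses, Nat.card_eq_fintype_card]
  exact_mod_cast hfin

end Cfsg.Agent.Lib.helper84
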