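import Mathlib
import Cfsg.Agent.Lib.helper89.S60Defs

/-!
# S6000 piece AELT2 (racer copy, helper84): `R / Z` is elementary abelian

Route: `T`-like elements commute or anticommute with every element of `R`; the centralizer of `T` in
`R` is scalar (induction along the upper central series); a double count of the sign pairing
`T × R → {±1}` then gives `|T| = |R|`.
-/

set_option autoImplicit false

namespace Cfsg.Agent.Lib.helper89.S60

open Matrix Cfsg Cfsg.Geo

theorem helper84_flipL {Γ : Type*} [Monoid Γ] [HasDistribNeg Γ] (hne : ∀ x : Γ, -x ≠ x) (a b x : Γ)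
    [Decidable (a * (b * x) = (b * x) * a)] [Decidable (a * x = x * a)]
    (hx : a * x = x * a ∨ a * x = -(x * a)) (hab : a * b = -(b * a)) :
    (if a * (b * x) = (b * x) * a then (1 : ℤ) else -1) =
      -(if a * x = x * a then (1 : ℤ) else -1) := by
  rcases hx with h | h
  · have e : a * (b * x) = -((b * x) * a) := by
      rw [← mul_assoc, hab, neg_mul, mul_assoc, h, ← mul_assoc]
    have h1 : ¬ (a * (b * x) = (b * x) * a) := by rw [e]; exact hne _
    simp only [if_neg h1, if_pos h]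
  · have e : a * (b * x) = (b * x) * a := by
      rw [← mul_assoc, hab, neg_mul, mul_assoc, h, mul_neg, neg_neg, ← mul_assoc]
    have h2 : ¬ (a * x = x * a) := by rw [h]; exact hne _
    simp only [if_pos e, if_neg h2, neg_neg]

theorem helper84_flipR {Γ : Type*} [Monoid Γ] [HasDistribNeg Γ] (hne : ∀ x : Γ, -x ≠ x) (t₀ t g : Γ)
    [Decidable ((t₀ * t) * g = g * (t₀ * t))] [Decidable (t * g = g * t)]
    (ht : t * g = g * t ∨ t * g = -(g * t)) (h0 : t₀ * g = -(g * t₀)) :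
    (if (t₀ * t) * g = g * (t₀ * t) then (1 : ℤ) else -1) =
      -(if t * g = g * t then (1 : ℤ) else -1) := by
  rcases ht with h | h
  · have e : (t₀ * t) * g = -(g * (t₀ * t)) := by
      rw [mul_assoc, h, ← mul_assoc, h0, neg_mul, mul_assoc]
    have h1 : ¬ ((t₀ * t) * g = g * (t₀ * t)) := by rw [e]; exact hne _
    simp only [if_neg h1, if_pos h]
  · have e : (t₀ * t) * g = g * (t₀ * t) := by
      rw [mul_assoc, h, mul_neg, ← mul_assoc, h0, neg_mul, neg_neg, mul_assoc]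
    have h2 : ¬ (t * g = g * t) := by rw [h]; exact hne _
    simp only [if_pos e, if_neg h2, neg_neg]

/-- A scalar multiple of an invertible matrix determines the scalar. -/
theorem helper84_smul_unit_inj {F : Type*} [Field F] (g : GL (Fin 4) F) (a b : F)
    (h : a • (g : Matrix (Fin 4) (Fin 4) F) = b • (g : Matrix (Fin 4) (Fin 4) F)) : a = b := by
  have h1 := congrArg (fun m => m * ((g⁻¹ : GL (Fin 4) F) : Matrix (Fin 4) (Fin 4) F)) h
  simp only [Matrix.smul_mul, Units.mul_inv] at h1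
  have h2 := congrFun (congrFun h1 0) 0
  simpa using h2

/-- `T`-like elements commute or anticommute with the elements of `R`. -/
theorem helper84_tl_pm {F : Type*} [Field F] (R : Subgroup (GL (Fin 4) F)) (s : GL (Fin 4) F)
    (hs : TLike R s) (g : GL (Fin 4) F) (hg : g ∈ R) : s * g = g * s ∨ s * g = -(g * s) := by
  obtain ⟨⟨c, hc⟩, h2⟩ := hs
  obtain ⟨d, hd⟩ := h2 g hg
  have hc0 : c ≠ 0 := by
    rintro rfl
    rw [zero_smul, ← Units.val_mul] at hc
    exact (s * s).ne_zero hc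
  have e1 : (s : Matrix (Fin 4) (Fin 4) F) * ((s : Matrix (Fin 4) (Fin 4) F) * (g : Matrix (Fin 4) (Fin 4) F)) =
      c • (g : Matrix (Fin 4) (Fin 4) F) := by
    rw [← Matrix.mul_assoc, hc, Matrix.smul_mul, Matrix.one_mul]
  have e2 : (s : Matrix (Fin 4) (Fin 4) F) * ((s : Matrix (Fin 4) (Fin 4) F) * (g : Matrix (Fin 4) (Fin 4) F)) =
      (d * d * c) • (g : Matrix (Fin 4) (Fin 4) F) := by
    rw [hd, Matrix.mul_smul, ← Matrix.mul_assoc, hd, Matrix.smul_mul, Matrix.mul_assoc, hc,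
      Matrix.mul_smul, Matrix.mul_one, smul_smul, smul_smul]
  have e3 : c = d * d * c := helper84_smul_unit_inj g _ _ (e1.symm.trans e2)
  have hdd : d * d = 1 := by
    have : (d * d - 1) * c = 0 := by linear_combination -e3
    rcases mul_eq_zero.mp this with h | h
    · linear_combination h
    · exact absurd h hc0
  rcases mul_self_eq_one_iff.mp hdd with h | h
  · left
    apply Units.ext
    rw [Units.val_mul, Units.val_mul, hd, h, one_smul]
  · right
    apply Units.ext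
    rw [Units.val_mul, Units.val_neg, Units.val_mul, hd, h, neg_smul, one_smul]

/-- `T`-like elements are closed under products. -/
theorem helper84_tl_mul {F : Type*} [Field F] (R : Subgroup (GL (Fin 4) F)) (s t : GL (Fin 4) F)
    (hs : TLike R s) (ht : TLike R t) (htR : t ∈ R) : TLike R (s * t) := by
  obtain ⟨⟨cs, hcs⟩, hs2⟩ := hs
  obtain ⟨⟨ct, hct⟩, ht2⟩ := ht
  refine ⟨?_, ?_⟩
  · obtain ⟨d, hd⟩ := hs2 t htR
    refine ⟨d * cs * ct, ?_⟩
    rw [Units.val_mul]
    calc (s : Matrix (Fin 4) (Fin 4) F) * (t : Matrix (Fin 4) (Fin 4) F) *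
          ((s : Matrix (Fin 4) (Fin 4) F) * (t : Matrix (Fin 4) (Fin 4) F))
        = (d • ((t : Matrix (Fin 4) (Fin 4) F) * (s : Matrix (Fin 4) (Fin 4) F))) *
            ((s : Matrix (Fin 4) (Fin 4) F) * (t : Matrix (Fin 4) (Fin 4) F)) := by rw [← hd]
      _ = d • ((t : Matrix (Fin 4) (Fin 4) F) * ((s : Matrix (Fin 4) (Fin 4) F) * (s : Matrix (Fin 4) (Fin 4) F)) *
            (t : Matrix (Fin 4) (Fin 4) F)) := by
          rw [Matrix.smul_mul]; simp only [Matrix.mul_assoc]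
      _ = (d * cs * ct) • (1 : Matrix (Fin 4) (Fin 4) F) := by
          rw [hcs, Matrix.mul_smul, Matrix.mul_one, Matrix.smul_mul, hct, smul_smul, smul_smul]
  · intro g hg
    obtain ⟨d1, h1⟩ := hs2 g hg
    obtain ⟨d2, h2⟩ := ht2 g hg
    refine ⟨d2 * d1, ?_⟩
    rw [Units.val_mul, Matrix.mul_assoc, h2, Matrix.mul_smul, ← Matrix.mul_assoc, h1, Matrix.smul_mul,
      smul_smul, Matrix.mul_assoc]

/-- `T`-like elements are closed under conjugation by `R`. -/
theorem helper84_tl_conj {F : Type*} [Field F] (R : Subgroup (GL (Fin 4) F)) (t : GL (Fin 4) F)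
    (ht : TLike R t) (y : GL (Fin 4) F) (hy : y ∈ R) : TLike R (y⁻¹ * t * y) := by
  obtain ⟨⟨c, hc⟩, ht2⟩ := ht
  refine ⟨⟨c, ?_⟩, ?_⟩
  · have e : y⁻¹ * t * y * (y⁻¹ * t * y) = y⁻¹ * (t * t) * y := by group
    rw [← Units.val_mul, e, Units.val_mul, Units.val_mul, Units.val_mul, hc, Matrix.mul_smul,
      Matrix.mul_one, Matrix.smul_mul, Units.inv_mul]
  · intro g hg
    obtain ⟨d, hd⟩ := ht2 (y * g * y⁻¹) (R.mul_mem (R.mul_mem hy hg) (R.inv_mem hy))
    refine ⟨d, ?_⟩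
    have e1 : y⁻¹ * t * y * g = y⁻¹ * (t * (y * g * y⁻¹)) * y := by group
    have e2 : g * (y⁻¹ * t * y) = y⁻¹ * ((y * g * y⁻¹) * t) * y := by group
    rw [← Units.val_mul, e1, ← Units.val_mul, e2]
    simp only [Units.val_mul] at hd ⊢
    rw [hd, Matrix.mul_smul, Matrix.smul_mul]

/-- AELT2 (racer copy). -/
theorem helper84_s60_sq_scalar {F : Type*} [Field F] [Fintype F] (h2 : (2 : F) ≠ 0) (R : Subgroup (GL (Fin 4) F))
    (hRs : IsSymplecticTypeGroup 2 R) (hRi : ActsAbsolutelyIrreducibly (matrixSet R))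
    (hR6 : Nat.card R = 64) (hRZ : Nat.card (Subgroup.center R) = 4)
    (hT : ∀ s ∈ R, TLike R s → (∀ t ∈ R, TLike R t → (s : Matrix (Fin 4) (Fin 4) F) * (t : Matrix (Fin 4) (Fin 4) F) = (t : Matrix (Fin 4) (Fin 4) F) * (s : Matrix (Fin 4) (Fin 4) F)) →
      ∃ c : F, (s : Matrix (Fin 4) (Fin 4) F) = c • (1 : Matrix (Fin 4) (Fin 4) F)) :
    ∀ s ∈ R, TLike R s := by
  classical
  have : Finite ↥R := Nat.finite_of_card_ne_zero (by rw [hR6]; norm_num)
  haveI : Fintype ↥R := Fintype.ofFinite _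
  have : Fact (Nat.Prime 2) := ⟨Nat.prime_two⟩
  have hnil : Group.IsNilpotent ↥R := hRs.pGroup.isNilpotent
  have hne : ∀ x : GL (Fin 4) F, -x ≠ x := by
    intro x h
    have h1 : (-1 : F) • (x : Matrix (Fin 4) (Fin 4) F) = (1 : F) • (x : Matrix (Fin 4) (Fin 4) F) := by
      rw [neg_smul, one_smul, ← Units.val_neg, h]
    have h3 := helper84_smul_unit_inj x _ _ h1
    apply h2
    linear_combination -h3
  have hexp : ∀ g : ↥R, g ^ 4 = 1 := by
    intro g
    have h4 : Monoid.exponent ↥R = 4 := by rw [hRs.exponent_eq]; rfl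
    have h5 := Monoid.pow_exponent_eq_one g
    rw [h4] at h5
    exact h5
  have hschur : ∀ s : GL (Fin 4) F, (∀ g ∈ R, s * g = g * s) → ∃ a : F, (s : Matrix (Fin 4) (Fin 4) F) = a • (1 : Matrix (Fin 4) (Fin 4) F) := by
    intro s hs
    refine hRi.2 (s : Matrix (Fin 4) (Fin 4) F) ?_
    rintro m ⟨g, hg, rfl⟩
    have := hs g hg
    show (s : Matrix (Fin 4) (Fin 4) F) * (g : Matrix (Fin 4) (Fin 4) F) = (g : Matrix (Fin 4) (Fin 4) F) * (s : Matrix (Fin 4) (Fin 4) F)
    rw [← Units.val_mul, this, Units.val_mul]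
  have hsc_comm : ∀ s : GL (Fin 4) F, (∃ a : F, (s : Matrix (Fin 4) (Fin 4) F) = a • (1 : Matrix (Fin 4) (Fin 4) F)) → ∀ g : GL (Fin 4) F, s * g = g * s := by
    rintro s ⟨a, ha⟩ g
    apply Units.ext
    rw [Units.val_mul, Units.val_mul, ha, Matrix.smul_mul, Matrix.mul_smul, Matrix.one_mul, Matrix.mul_one]
  have hsc_tl : ∀ s : GL (Fin 4) F, (∃ a : F, (s : Matrix (Fin 4) (Fin 4) F) = a • (1 : Matrix (Fin 4) (Fin 4) F)) → TLike R s := by
    rintro s ⟨a, ha⟩
    refine ⟨⟨a * a, ?_⟩, fun g _ => ⟨1, ?_⟩⟩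
    · rw [ha, Matrix.smul_mul, Matrix.one_mul, smul_smul]
    · rw [ha, Matrix.smul_mul, Matrix.mul_smul, Matrix.one_mul, Matrix.mul_one, one_smul]
  -- the centralizer of the `T`-like elements is scalar
  have hP : ∀ (k : ℕ) (c : ↥R), c ∈ Subgroup.upperCentralSeries ↥R k →
      (∀ t ∈ R, TLike R t → (c : GL (Fin 4) F) * t = t * c) → ∃ a : F, ((c : GL (Fin 4) F) : Matrix (Fin 4) (Fin 4) F) = a • (1 : Matrix (Fin 4) (Fin 4) F) := by
    intro k
    induction k with
    | zero =>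
      intro c hc _
      rw [Subgroup.upperCentralSeries_zero, Subgroup.mem_bot] at hc
      rw [hc]
      exact ⟨1, by simp⟩
    | succ k ih =>
      intro c hc hcT
      rw [Subgroup.mem_upperCentralSeries_succ_iff] at hc
      have h2c : ∀ g ∈ R, ∃ d : F, ((c : GL (Fin 4) F) : Matrix (Fin 4) (Fin 4) F) * (g : Matrix (Fin 4) (Fin 4) F) = d • ((g : Matrix (Fin 4) (Fin 4) F) * ((c : GL (Fin 4) F) : Matrix (Fin 4) (Fin 4) F)) := by
        intro g hg
        have hu := hc ⟨g, hg⟩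
        rw [commutatorElement_def] at hu
        obtain ⟨d, hd⟩ := ih _ hu (by
          intro t ht hTt
          have h1 := hcT t ht hTt
          have h2' : Commute (c : GL (Fin 4) F) (g⁻¹ * t * g) :=
            hcT (g⁻¹ * t * g) (R.mul_mem (R.mul_mem (R.inv_mem hg) ht) hg) (helper84_tl_conj R t hTt g hg)
          show (c : GL (Fin 4) F) * g * (c : GL (Fin 4) F)⁻¹ * g⁻¹ * t = t * ((c : GL (Fin 4) F) * g * (c : GL (Fin 4) F)⁻¹ * g⁻¹)
          calc (c : GL (Fin 4) F) * g * (c : GL (Fin 4) F)⁻¹ * g⁻¹ * t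
              = (c : GL (Fin 4) F) * g * ((c : GL (Fin 4) F)⁻¹ * (g⁻¹ * t * g)) * g⁻¹ := by group
            _ = (c : GL (Fin 4) F) * g * ((g⁻¹ * t * g) * (c : GL (Fin 4) F)⁻¹) * g⁻¹ := by rw [h2'.inv_left.eq]
            _ = ((c : GL (Fin 4) F) * t) * g * (c : GL (Fin 4) F)⁻¹ * g⁻¹ := by group
            _ = (t * (c : GL (Fin 4) F)) * g * (c : GL (Fin 4) F)⁻¹ * g⁻¹ := by rw [h1]
            _ = t * ((c : GL (Fin 4) F) * g * (c : GL (Fin 4) F)⁻¹ * g⁻¹) := by group)
        refine ⟨d, ?_⟩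
        have hgrp : (c : GL (Fin 4) F) * g = ((c : GL (Fin 4) F) * g * (c : GL (Fin 4) F)⁻¹ * g⁻¹) * (g * (c : GL (Fin 4) F)) := by group
        have hd' : (((c : GL (Fin 4) F) * g * (c : GL (Fin 4) F)⁻¹ * g⁻¹ : GL (Fin 4) F) : Matrix (Fin 4) (Fin 4) F) = d • (1 : Matrix (Fin 4) (Fin 4) F) := hd
        rw [← Units.val_mul, hgrp, Units.val_mul, hd', Matrix.smul_mul, Matrix.one_mul, Units.val_mul]
      by_cases hsq : ∃ a : F, ((c : GL (Fin 4) F) : Matrix (Fin 4) (Fin 4) F) * ((c : GL (Fin 4) F) : Matrix (Fin 4) (Fin 4) F) = a • (1 : Matrix (Fin 4) (Fin 4) F)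
      · exact hT c c.2 ⟨hsq, h2c⟩ (fun t ht hTt => by
          have := hcT t ht hTt
          rw [← Units.val_mul, this, Units.val_mul])
      · exfalso
        apply hsq
        have hcc : TLike R ((c : GL (Fin 4) F) * c) := by
          refine ⟨⟨1, ?_⟩, ?_⟩
          · have h4 : ((c : GL (Fin 4) F) * c) * ((c : GL (Fin 4) F) * c) = 1 := by
              have h' := congrArg (fun x : ↥R => (x : GL (Fin 4) F)) (hexp c)
              simp only [Subgroup.coe_pow, Subgroup.coe_one] at h'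
              rw [← h']; simp only [pow_succ, pow_zero, one_mul, mul_assoc]
            rw [← Units.val_mul, h4, Units.val_one, one_smul]
          · intro g hg
            obtain ⟨d, hd⟩ := h2c g hg
            refine ⟨d * d, ?_⟩
            rw [Units.val_mul, Matrix.mul_assoc, hd, Matrix.mul_smul, ← Matrix.mul_assoc, hd,
              Matrix.smul_mul, smul_smul, Matrix.mul_assoc]
        obtain ⟨a, ha⟩ := hT _ (R.mul_mem c.2 c.2) hcc (fun t ht hTt => by
          have h1 := hcT t ht hTt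
          rw [← Units.val_mul, ← Units.val_mul]
          congr 1
          rw [mul_assoc, h1, ← mul_assoc, h1, mul_assoc])
        exact ⟨a, by rw [← Units.val_mul]; exact ha⟩
  obtain ⟨n, hn⟩ := Group.IsNilpotent.nilpotent ↥R
  have hC : ∀ g : ↥R, (∀ t ∈ R, TLike R t → (g : GL (Fin 4) F) * t = t * g) →
      ∃ a : F, ((g : GL (Fin 4) F) : Matrix (Fin 4) (Fin 4) F) = a • (1 : Matrix (Fin 4) (Fin 4) F) :=
    fun g hg => hP n g (by rw [hn]; exact Subgroup.mem_top _) hg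
  -- the double count
  obtain ⟨T, hTdef⟩ : ∃ T : Finset ↥R, T = Finset.univ.filter (fun s : ↥R => TLike R (s : GL (Fin 4) F)) := ⟨_, rfl⟩
  have hTmem : ∀ t : ↥R, t ∈ T ↔ TLike R (t : GL (Fin 4) F) := by
    intro t; rw [hTdef]; simp
  obtain ⟨β, hβ⟩ : ∃ β : ↥R → ↥R → ℤ, ∀ t g, β t g =
      if (t : GL (Fin 4) F) * (g : GL (Fin 4) F) = (g : GL (Fin 4) F) * (t : GL (Fin 4) F) then 1 else -1 :=
    ⟨fun t g => if (t : GL (Fin 4) F) * (g : GL (Fin 4) F) = (g : GL (Fin 4) F) * (t : GL (Fin 4) F) then 1 else -1, fun _ _ => rfl⟩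
  have hrow : ∀ t ∈ T, ∑ g : ↥R, β t g =
      if (∃ a : F, ((t : GL (Fin 4) F) : Matrix (Fin 4) (Fin 4) F) = a • (1 : Matrix (Fin 4) (Fin 4) F)) then (Fintype.card ↥R : ℤ) else 0 := by
    intro t ht
    have hTt : TLike R (t : GL (Fin 4) F) := (hTmem t).mp ht
    by_cases hsc : ∃ a : F, ((t : GL (Fin 4) F) : Matrix (Fin 4) (Fin 4) F) = a • (1 : Matrix (Fin 4) (Fin 4) F)
    · rw [if_pos hsc]
      have h1 : ∀ g : ↥R, β t g = 1 := fun g => by rw [hβ, if_pos (hsc_comm _ hsc _)]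
      simp only [h1, Finset.sum_const, Finset.card_univ, nsmul_eq_mul, mul_one]
    · rw [if_neg hsc]
      have hex : ∃ g₀ ∈ R, (t : GL (Fin 4) F) * g₀ ≠ g₀ * t := by
        by_contra hcon
        push Not at hcon
        exact hsc (hschur _ hcon)
      obtain ⟨g₀, hg₀, hng⟩ := hex
      have hanti : (t : GL (Fin 4) F) * g₀ = -(g₀ * t) := (helper84_tl_pm R _ hTt g₀ hg₀).resolve_left hng
      have hflip : ∀ g : ↥R, β t (⟨g₀, hg₀⟩ * g) = -β t g := fun g => by
        rw [hβ, hβ]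
        exact helper84_flipL hne (t : GL (Fin 4) F) g₀ (g : GL (Fin 4) F) (helper84_tl_pm R _ hTt g g.2) hanti
      have hsum : ∑ g : ↥R, β t g = ∑ g : ↥R, β t (⟨g₀, hg₀⟩ * g) :=
        (Equiv.sum_comp (Equiv.mulLeft (⟨g₀, hg₀⟩ : ↥R)) (β t)).symm
      have hneg : ∑ g : ↥R, β t (⟨g₀, hg₀⟩ * g) = -∑ g : ↥R, β t g := by
        rw [← Finset.sum_neg_distrib]; exact Finset.sum_congr rfl (fun g _ => hflip g)
      linarith
  have hcol : ∀ g : ↥R, ∑ t ∈ T, β t g =
      if (∃ a : F, ((g : GL (Fin 4) F) : Matrix (Fin 4) (Fin 4) F) = a • (1 : Matrix (Fin 4) (Fin 4) F)) then (T.card : ℤ) else 0 := by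
    intro g
    by_cases hsc : ∃ a : F, ((g : GL (Fin 4) F) : Matrix (Fin 4) (Fin 4) F) = a • (1 : Matrix (Fin 4) (Fin 4) F)
    · rw [if_pos hsc]
      have h1 : ∀ t : ↥R, β t g = 1 := fun t => by rw [hβ, if_pos (hsc_comm _ hsc _).symm]
      simp only [h1, Finset.sum_const, nsmul_eq_mul, mul_one]
    · rw [if_neg hsc]
      have hex : ∃ t₀ ∈ R, TLike R t₀ ∧ (g : GL (Fin 4) F) * t₀ ≠ t₀ * g := by
        by_contra hcon
        push Not at hcon
        exact hsc (hC g hcon)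
      obtain ⟨t₀, ht₀, hTt₀, hng⟩ := hex
      have hanti : t₀ * (g : GL (Fin 4) F) = -((g : GL (Fin 4) F) * t₀) :=
        (helper84_tl_pm R _ hTt₀ g g.2).resolve_left (fun h => hng h.symm)
      have hflip : ∀ t ∈ T, β (⟨t₀, ht₀⟩ * t) g = -β t g := fun t ht => by
        rw [hβ, hβ]
        exact helper84_flipR hne t₀ (t : GL (Fin 4) F) (g : GL (Fin 4) F)
          (helper84_tl_pm R _ ((hTmem t).mp ht) g g.2) hanti
      have himg : T.image (fun t : ↥R => (⟨t₀, ht₀⟩ : ↥R) * t) = T := by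
        apply Finset.eq_of_subset_of_card_le
        · intro x hx
          obtain ⟨t, ht, rfl⟩ := Finset.mem_image.mp hx
          exact (hTmem _).mpr (helper84_tl_mul R t₀ _ hTt₀ ((hTmem t).mp ht) t.2)
        · rw [Finset.card_image_of_injective _ (mul_right_injective _)]
      have hsum : ∑ t ∈ T, β t g = ∑ t ∈ T, β (⟨t₀, ht₀⟩ * t) g := by
        conv_lhs => rw [← himg]
        exact Finset.sum_image (fun x _ y _ h => mul_left_cancel h)
      have hneg : ∑ t ∈ T, β (⟨t₀, ht₀⟩ * t) g = -∑ t ∈ T, β t g := by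
        rw [← Finset.sum_neg_distrib]; exact Finset.sum_congr rfl hflip
      linarith
  have hN1 : ∑ t ∈ T, ∑ g : ↥R, β t g =
      ((T.filter (fun t : ↥R => ∃ a : F, ((t : GL (Fin 4) F) : Matrix (Fin 4) (Fin 4) F) = a • (1 : Matrix (Fin 4) (Fin 4) F))).card : ℤ) *
        (Fintype.card ↥R : ℤ) := by
    rw [Finset.sum_congr rfl hrow, Finset.sum_ite, Finset.sum_const, Finset.sum_const_zero,
      add_zero, nsmul_eq_mul]
  have hN2 : ∑ t ∈ T, ∑ g : ↥R, β t g =
      ((Finset.univ.filter (fun g : ↥R => ∃ a : F, ((g : GL (Fin 4) F) : Matrix (Fin 4) (Fin 4) F) = a • (1 : Matrix (Fin 4) (Fin 4) F))).card : ℤ) *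
        (T.card : ℤ) := by
    rw [Finset.sum_comm, Finset.sum_congr rfl (fun g _ => hcol g), Finset.sum_ite, Finset.sum_const,
      Finset.sum_const_zero, add_zero, nsmul_eq_mul]
  have hZeq : T.filter (fun t : ↥R => ∃ a : F, ((t : GL (Fin 4) F) : Matrix (Fin 4) (Fin 4) F) = a • (1 : Matrix (Fin 4) (Fin 4) F)) =
      Finset.univ.filter (fun g : ↥R => ∃ a : F, ((g : GL (Fin 4) F) : Matrix (Fin 4) (Fin 4) F) = a • (1 : Matrix (Fin 4) (Fin 4) F)) := by
    ext x
    simp only [Finset.mem_filter, Finset.mem_univ, true_and, hTmem]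
    exact ⟨fun h => h.2, fun h => ⟨hsc_tl _ h, h⟩⟩
  have hZpos : 0 < (Finset.univ.filter
      (fun g : ↥R => ∃ a : F, ((g : GL (Fin 4) F) : Matrix (Fin 4) (Fin 4) F) = a • (1 : Matrix (Fin 4) (Fin 4) F))).card :=
    Finset.card_pos.mpr ⟨1, Finset.mem_filter.mpr ⟨Finset.mem_univ _, ⟨1, by simp⟩⟩⟩
  have hcard : (T.card : ℤ) = Fintype.card ↥R := by
    rw [hZeq] at hN1
    have h := hN1.symm.trans hN2
    have hz : ((Finset.univ.filter
        (fun g : ↥R => ∃ a : F, ((g : GL (Fin 4) F) : Matrix (Fin 4) (Fin 4) F) = a • (1 : Matrix (Fin 4) (Fin 4) F))).card : ℤ) ≠ 0 := by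
      exact_mod_cast hZpos.ne'
    exact (mul_left_cancel₀ hz h).symm
  have hTuniv : T = Finset.univ := (Finset.card_eq_iff_eq_univ T).mp (by exact_mod_cast hcard)
  intro s hs
  have hmem : (⟨s, hs⟩ : ↥R) ∈ T := by rw [hTuniv]; exact Finset.mem_univ _
  exact (hTmem _).mp hmem

end Cfsg.Agent.Lib.helper89.S60
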