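import Mathlib
import Cfsg.Agent.Lib.helper45.SVDefs

set_option autoImplicit false
open scoped MatrixGroups

namespace Cfsg.Agent.Lib.helper45.SV

/-- prepend a block of length one. -/
def helper84_E1 {n : ℕ} (g : Fin n → ℕ) : Fin (n + 1) → ℕ := Fin.cons 1 g

/-- merge position `0` into the first block. -/
def helper84_E2 {n : ℕ} (g : Fin n → ℕ) : Fin (n + 1) → ℕ :=
  Fin.cons 0 (fun x => if g x = x.val + 1 then g x + 1 else g x)

/-- shift a set of block ends. -/
def helper84_up {n : ℕ} (D' : Finset (Fin n)) : Finset (Fin (n + 1)) := D'.image Fin.succ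

/-- unshift a set of block ends. -/
def helper84_pre {n : ℕ} (D : Finset (Fin (n + 1))) : Finset (Fin n) :=
  Finset.univ.filter (fun x : Fin n => x.succ ∈ D)

theorem helper84_mem_up_succ {n : ℕ} (D' : Finset (Fin n)) (x : Fin n) :
    x.succ ∈ helper84_up D' ↔ x ∈ D' := by
  unfold helper84_up
  rw [Finset.mem_image]
  constructor
  · rintro ⟨a, ha, hax⟩
    have : a = x := Fin.succ_injective n hax
    exact this ▸ ha
  · intro h
    exact ⟨x, h, rfl⟩

theorem helper84_zero_notMem_up {n : ℕ} (D' : Finset (Fin n)) :
    (0 : Fin (n + 1)) ∉ helper84_up D' := by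
  unfold helper84_up
  rw [Finset.mem_image]
  rintro ⟨a, _, ha⟩
  exact Fin.succ_ne_zero a ha

theorem helper84_mem_pre {n : ℕ} (D : Finset (Fin (n + 1))) (x : Fin n) :
    x ∈ helper84_pre D ↔ x.succ ∈ D := by
  unfold helper84_pre
  simp

theorem helper84_pre_up {n : ℕ} (D' : Finset (Fin n)) : helper84_pre (helper84_up D') = D' := by
  ext x
  rw [helper84_mem_pre, helper84_mem_up_succ]

theorem helper84_pre_insert_up {n : ℕ} (D' : Finset (Fin n)) :
    helper84_pre (insert 0 (helper84_up D')) = D' := by
  ext x
  rw [helper84_mem_pre, Finset.mem_insert, helper84_mem_up_succ]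
  constructor
  · rintro (h | h)
    · exact absurd h (Fin.succ_ne_zero x)
    · exact h
  · intro h
    exact Or.inr h

theorem helper84_up_pre {n : ℕ} (D : Finset (Fin (n + 1))) (h0 : (0 : Fin (n + 1)) ∉ D) :
    helper84_up (helper84_pre D) = D := by
  ext i
  rcases Fin.eq_zero_or_eq_succ i with rfl | ⟨x, rfl⟩
  · constructor
    · intro h
      exact absurd h (helper84_zero_notMem_up _)
    · intro h
      exact absurd h h0
  · rw [helper84_mem_up_succ, helper84_mem_pre]

theorem helper84_insert_up_pre {n : ℕ} (D : Finset (Fin (n + 1))) (h0 : (0 : Fin (n + 1)) ∈ D) :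
    insert 0 (helper84_up (helper84_pre D)) = D := by
  ext i
  rcases Fin.eq_zero_or_eq_succ i with rfl | ⟨x, rfl⟩
  · constructor
    · intro _
      exact h0
    · intro _
      exact Finset.mem_insert_self _ _
  · rw [Finset.mem_insert, helper84_mem_up_succ, helper84_mem_pre]
    constructor
    · rintro (h | h)
      · exact absurd h (Fin.succ_ne_zero x)
      · exact h
    · intro h
      exact Or.inr h

theorem helper84_card_up {n : ℕ} (D' : Finset (Fin n)) : (helper84_up D').card = D'.card := by
  unfold helper84_up
  exact Finset.card_image_of_injective _ (Fin.succ_injective n)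

theorem helper84_mem_endSets {n : ℕ} (D : Finset (Fin n)) :
    D ∈ endSets n ↔ ∀ i : Fin n, i.val + 1 = n → i ∈ D := by
  simp [endSets]

theorem helper84_sup_image_succ (s : Finset ℕ) :
    (s.image (fun a => a + 1)).sup id = if s = ∅ then 0 else s.sup id + 1 := by
  by_cases hs : s = ∅
  · subst hs
    simp
  · rw [if_neg hs, Finset.sup_image]
    apply le_antisymm
    · apply Finset.sup_le
      intro a ha
      have := Finset.le_sup (f := id) ha
      simp only [Function.comp, id] at this ⊢
      omega
    · obtain ⟨a, ha, hmax⟩ := Finset.exists_mem_eq_sup s (Finset.nonempty_iff_ne_empty.mpr hs) id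
      rw [hmax]
      exact Finset.le_sup (f := id ∘ fun a => a + 1) ha

theorem helper84_filter_up {n : ℕ} (D' : Finset (Fin n)) (x : Fin n) :
    ((helper84_up D').filter (fun d => d < x.succ)).image (fun d : Fin (n + 1) => d.val + 1) =
      ((D'.filter (fun d => d < x)).image (fun d : Fin n => d.val + 1)).image (fun a => a + 1) := by
  ext a
  simp only [Finset.mem_image, Finset.mem_filter, helper84_up]
  constructor
  · rintro ⟨d, ⟨⟨d', hd', rfl⟩, hlt⟩, rfl⟩
    exact ⟨d'.val + 1, ⟨d', ⟨hd', Fin.succ_lt_succ_iff.mp hlt⟩, rfl⟩, by simp⟩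
  · rintro ⟨b, ⟨d', ⟨hd', hlt⟩, rfl⟩, rfl⟩
    exact ⟨d'.succ, ⟨⟨d', hd', rfl⟩, Fin.succ_lt_succ_iff.mpr hlt⟩, by simp⟩

theorem helper84_topOf_up {n : ℕ} (D' : Finset (Fin n)) (x : Fin n) :
    topOf (helper84_up D') x.succ = if topOf D' x = 0 then 0 else topOf D' x + 1 := by
  unfold topOf
  rw [helper84_filter_up, helper84_sup_image_succ]
  by_cases hs : (D'.filter (fun d => d < x)).image (fun d : Fin n => d.val + 1) = ∅
  · rw [if_pos hs, hs]
    simp
  · rw [if_neg hs]
    obtain ⟨a, ha⟩ := Finset.nonempty_iff_ne_empty.mpr hs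
    have h1 : 1 ≤ a := by
      rw [Finset.mem_image] at ha
      obtain ⟨d, _, rfl⟩ := ha
      omega
    have h2 : a ≤ ((D'.filter (fun d => d < x)).image (fun d : Fin n => d.val + 1)).sup id :=
      Finset.le_sup (f := id) ha
    rw [if_neg (by omega)]

theorem helper84_topOf_insert_up {n : ℕ} (D' : Finset (Fin n)) (x : Fin n) :
    topOf (insert 0 (helper84_up D')) x.succ = topOf D' x + 1 := by
  unfold topOf
  rw [Finset.filter_insert, if_pos (Fin.succ_pos x), Finset.image_insert, helper84_filter_up,
    Finset.sup_insert, helper84_sup_image_succ]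
  by_cases hs : (D'.filter (fun d => d < x)).image (fun d : Fin n => d.val + 1) = ∅
  · rw [if_pos hs, hs]
    simp
  · rw [if_neg hs]
    simp

theorem helper84_topOf_zero {n : ℕ} (D : Finset (Fin (n + 1))) : topOf D 0 = 0 := by
  unfold topOf
  have : D.filter (fun d => d < 0) = ∅ := by
    apply Finset.filter_false_of_mem
    intro d _
    exact Fin.not_lt_zero d
  rw [this]
  simp

theorem helper84_compOf_insert_up {n : ℕ} (D' : Finset (Fin n)) :
    compOf (insert 0 (helper84_up D')) = helper84_E1 (compOf D') := by
  funext i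
  rcases Fin.eq_zero_or_eq_succ i with rfl | ⟨x, rfl⟩
  · unfold compOf helper84_E1
    rw [if_pos (Finset.mem_insert_self _ _), helper84_topOf_zero]
    simp
  · unfold compOf helper84_E1
    rw [Fin.cons_succ]
    by_cases hx : x ∈ D'
    · rw [if_pos hx, if_pos (Finset.mem_insert_of_mem ((helper84_mem_up_succ D' x).mpr hx)),
        helper84_topOf_insert_up]
      simp only [Fin.val_succ]
      omega
    · rw [if_neg hx, if_neg]
      intro h
      rw [Finset.mem_insert] at h
      rcases h with h | h
      · exact Fin.succ_ne_zero x h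
      · exact hx ((helper84_mem_up_succ D' x).mp h)

theorem helper84_compOf_up {n : ℕ} (D' : Finset (Fin n)) :
    compOf (helper84_up D') = helper84_E2 (compOf D') := by
  funext i
  rcases Fin.eq_zero_or_eq_succ i with rfl | ⟨x, rfl⟩
  · unfold compOf helper84_E2
    rw [if_neg (helper84_zero_notMem_up D')]
    simp
  · unfold helper84_E2
    rw [Fin.cons_succ]
    unfold compOf
    by_cases hx : x ∈ D'
    · rw [if_pos hx, if_pos ((helper84_mem_up_succ D' x).mpr hx), helper84_topOf_up]
      simp only [Fin.val_succ]
      by_cases ht : topOf D' x = 0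
      · rw [if_pos ht, ht]
        simp
      · rw [if_neg ht]
        have : ¬ (x.val + 1 - topOf D' x = x.val + 1) := by omega
        rw [if_neg this]
        omega
    · rw [if_neg hx, if_neg (fun h => hx ((helper84_mem_up_succ D' x).mp h))]
      simp

/-- the recursion on the side of the block-end sets. -/
theorem helper84_T_succ (n : ℕ) (Φ : (Fin (n + 1) → ℕ) → ℂ) :
    (∑ D ∈ endSets (n + 1), (-1 : ℂ) ^ (n + 1 - D.card) * Φ (compOf D)) =
      (∑ D ∈ endSets n, (-1 : ℂ) ^ (n - D.card) * Φ (helper84_E1 (compOf D))) -
      (if n = 0 then 0 else ∑ D ∈ endSets n, (-1 : ℂ) ^ (n - D.card) * Φ (helper84_E2 (compOf D))) := by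
  rw [← Finset.sum_filter_add_sum_filter_not (endSets (n + 1)) (fun D => (0 : Fin (n + 1)) ∈ D)]
  have h1 : ∑ D ∈ (endSets (n + 1)).filter (fun D => (0 : Fin (n + 1)) ∈ D),
      (-1 : ℂ) ^ (n + 1 - D.card) * Φ (compOf D) =
      ∑ D' ∈ endSets n, (-1 : ℂ) ^ (n - D'.card) * Φ (helper84_E1 (compOf D')) := by
    symm
    refine Finset.sum_nbij' (fun D' => insert 0 (helper84_up D')) (fun D => helper84_pre D)
      ?_ ?_ ?_ ?_ ?_
    · intro D' hD'
      rw [helper84_mem_endSets] at hD'
      rw [Finset.mem_filter, helper84_mem_endSets]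
      refine ⟨fun i hi => ?_, Finset.mem_insert_self _ _⟩
      rcases Fin.eq_zero_or_eq_succ i with rfl | ⟨x, rfl⟩
      · exact Finset.mem_insert_self _ _
      · refine Finset.mem_insert_of_mem ((helper84_mem_up_succ D' x).mpr (hD' x ?_))
        simp only [Fin.val_succ] at hi
        omega
    · intro D hD
      rw [Finset.mem_filter, helper84_mem_endSets] at hD
      rw [helper84_mem_endSets]
      intro x hx
      rw [helper84_mem_pre]
      apply hD.1
      simp only [Fin.val_succ]
      omega
    · intro D' _
      exact helper84_pre_insert_up D'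
    · intro D hD
      rw [Finset.mem_filter] at hD
      exact helper84_insert_up_pre D hD.2
    · intro D' _
      rw [Finset.card_insert_of_notMem (helper84_zero_notMem_up D'), helper84_card_up,
        helper84_compOf_insert_up, Nat.add_sub_add_right]
  have h2 : ∑ D ∈ (endSets (n + 1)).filter (fun D => ¬ (0 : Fin (n + 1)) ∈ D),
      (-1 : ℂ) ^ (n + 1 - D.card) * Φ (compOf D) =
      - (if n = 0 then 0 else
          ∑ D' ∈ endSets n, (-1 : ℂ) ^ (n - D'.card) * Φ (helper84_E2 (compOf D'))) := by
    by_cases hn : n = 0
    · subst hn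
      rw [if_pos rfl, neg_zero]
      apply Finset.sum_eq_zero
      intro D hD
      exfalso
      rw [Finset.mem_filter, helper84_mem_endSets] at hD
      exact hD.2 (hD.1 0 (by simp))
    · rw [if_neg hn, ← Finset.sum_neg_distrib]
      symm
      refine Finset.sum_nbij' (fun D' => helper84_up D') (fun D => helper84_pre D)
        ?_ ?_ ?_ ?_ ?_
      · intro D' hD'
        rw [helper84_mem_endSets] at hD'
        rw [Finset.mem_filter, helper84_mem_endSets]
        refine ⟨fun i hi => ?_, helper84_zero_notMem_up D'⟩
        rcases Fin.eq_zero_or_eq_succ i with rfl | ⟨x, rfl⟩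
        · exfalso
          simp only [Fin.val_zero] at hi
          omega
        · refine (helper84_mem_up_succ D' x).mpr (hD' x ?_)
          simp only [Fin.val_succ] at hi
          omega
      · intro D hD
        rw [Finset.mem_filter, helper84_mem_endSets] at hD
        rw [helper84_mem_endSets]
        intro x hx
        rw [helper84_mem_pre]
        apply hD.1
        simp only [Fin.val_succ]
        omega
      · intro D' _
        exact helper84_pre_up D'
      · intro D hD
        rw [Finset.mem_filter] at hD
        exact helper84_up_pre D hD.2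
      · intro D' _
        have hc : D'.card ≤ n := by
          have := Finset.card_le_univ D'
          simpa using this
        rw [helper84_card_up, helper84_compOf_up]
        have : n + 1 - D'.card = (n - D'.card) + 1 := by omega
        rw [this, pow_succ]
        ring
  rw [h1, h2]
  ring

theorem helper84_sum_fin_split (n : ℕ) (A B : ℂ) :
    (∑ p : Fin (n + 1), if p = 0 then A else if p.val = 1 then B else 0) =
      A + (if n = 0 then 0 else B) := by
  cases n with
  | zero => simp
  | succ m =>
    rw [Fin.sum_univ_succ, Fin.sum_univ_succ]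
    rw [if_pos rfl, if_neg (Fin.succ_ne_zero _), if_pos (by simp), if_neg (Nat.succ_ne_zero m)]
    have : ∑ i : Fin m, (if i.succ.succ = (0 : Fin (m + 2)) then A
        else if (i.succ.succ : Fin (m + 2)).val = 1 then B else 0) = 0 := by
      apply Finset.sum_eq_zero
      intro i _
      rw [if_neg (Fin.succ_ne_zero _), if_neg]
      simp only [Fin.val_succ]
      omega
    rw [this, add_zero]

/-- the recursion on the side of the permutations. -/
theorem helper84_S_succ (n : ℕ) (Φ : (Fin (n + 1) → ℕ) → ℂ) :
    (∑ κ : Equiv.Perm (Fin (n + 1)), if ∀ i : Fin (n + 1), (κ i).val ≤ 1 + i.val then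
        ((Equiv.Perm.sign κ : ℤ) : ℂ) * Φ (fun i => 1 + i.val - (κ i).val) else 0) =
      (∑ e : Equiv.Perm (Fin n), if ∀ i : Fin n, (e i).val ≤ 1 + i.val then
        ((Equiv.Perm.sign e : ℤ) : ℂ) * Φ (helper84_E1 (fun i => 1 + i.val - (e i).val)) else 0) -
      (if n = 0 then 0 else
        ∑ e : Equiv.Perm (Fin n), if ∀ i : Fin n, (e i).val ≤ 1 + i.val then
        ((Equiv.Perm.sign e : ℤ) : ℂ) * Φ (helper84_E2 (fun i => 1 + i.val - (e i).val)) else 0) := by
  rw [← Equiv.sum_comp (Equiv.Perm.decomposeFin (n := n)).symm, Fintype.sum_prod_type]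
  have key : ∀ (p : Fin (n + 1)) (e : Equiv.Perm (Fin n)),
      (if ∀ i : Fin (n + 1), ((Equiv.Perm.decomposeFin.symm (p, e)) i).val ≤ 1 + i.val then
        ((Equiv.Perm.sign (Equiv.Perm.decomposeFin.symm (p, e)) : ℤ) : ℂ) *
          Φ (fun i => 1 + i.val - ((Equiv.Perm.decomposeFin.symm (p, e)) i).val) else 0) =
      if p = 0 then (if ∀ i : Fin n, (e i).val ≤ 1 + i.val then
          ((Equiv.Perm.sign e : ℤ) : ℂ) * Φ (helper84_E1 (fun i => 1 + i.val - (e i).val)) else 0)
      else if p.val = 1 then -(if ∀ i : Fin n, (e i).val ≤ 1 + i.val then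
          ((Equiv.Perm.sign e : ℤ) : ℂ) * Φ (helper84_E2 (fun i => 1 + i.val - (e i).val)) else 0)
      else 0 := by
    intro p e
    have h0 : (Equiv.Perm.decomposeFin.symm (p, e)) 0 = p :=
      Equiv.Perm.decomposeFin_symm_apply_zero p e
    have hs : ∀ x : Fin n, (Equiv.Perm.decomposeFin.symm (p, e)) x.succ =
        Equiv.swap 0 p (e x).succ :=
      fun x => Equiv.Perm.decomposeFin_symm_apply_succ e p x
    have hsign := Equiv.Perm.decomposeFin.symm_sign p e
    by_cases hp0 : p = 0
    · rw [if_pos hp0]
      have hs' : ∀ x : Fin n, ((Equiv.Perm.decomposeFin.symm (p, e)) x.succ).val = (e x).val + 1 := by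
        intro x
        rw [hs x, hp0]
        simp
      have hcond : (∀ i : Fin (n + 1), ((Equiv.Perm.decomposeFin.symm (p, e)) i).val ≤ 1 + i.val) ↔
          ∀ i : Fin n, (e i).val ≤ 1 + i.val := by
        constructor
        · intro h x
          have := h x.succ
          rw [hs' x] at this
          simp only [Fin.val_succ] at this
          omega
        · intro h i
          rcases Fin.eq_zero_or_eq_succ i with rfl | ⟨x, rfl⟩
          · rw [h0, hp0]
            simp
          · rw [hs' x]
            have := h x
            simp only [Fin.val_succ]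
            omega
      have hfun : (fun i : Fin (n + 1) => 1 + i.val - ((Equiv.Perm.decomposeFin.symm (p, e)) i).val) =
          helper84_E1 (fun i => 1 + i.val - (e i).val) := by
        funext i
        rcases Fin.eq_zero_or_eq_succ i with rfl | ⟨x, rfl⟩
        · rw [h0, hp0]
          simp [helper84_E1]
        · rw [hs' x]
          unfold helper84_E1
          rw [Fin.cons_succ]
          simp only [Fin.val_succ]
          omega
      rw [hfun, hsign, if_congr hcond rfl rfl, if_pos hp0]
      simp
    · rw [if_neg hp0]
      by_cases hp1 : p.val = 1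
      · rw [if_pos hp1]
        have hs' : ∀ x : Fin n, ((Equiv.Perm.decomposeFin.symm (p, e)) x.succ).val =
            if (e x).val = 0 then 0 else (e x).val + 1 := by
          intro x
          rw [hs x, Equiv.swap_apply_def, if_neg (Fin.succ_ne_zero _)]
          by_cases h : (e x).val = 0
          · rw [if_pos h, if_pos]
            · rfl
            · apply Fin.ext
              simp only [Fin.val_succ]
              omega
          · rw [if_neg h, if_neg]
            · simp
            · intro heq
              have := congrArg Fin.val heq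
              simp only [Fin.val_succ] at this
              omega
        have hcond : (∀ i : Fin (n + 1), ((Equiv.Perm.decomposeFin.symm (p, e)) i).val ≤ 1 + i.val) ↔
            ∀ i : Fin n, (e i).val ≤ 1 + i.val := by
          constructor
          · intro h x
            have := h x.succ
            rw [hs' x] at this
            simp only [Fin.val_succ] at this
            split_ifs at this <;> omega
          · intro h i
            rcases Fin.eq_zero_or_eq_succ i with rfl | ⟨x, rfl⟩
            · rw [h0, hp1]
              simp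
            · rw [hs' x]
              have := h x
              simp only [Fin.val_succ]
              split_ifs <;> omega
        have hfun : (fun i : Fin (n + 1) => 1 + i.val - ((Equiv.Perm.decomposeFin.symm (p, e)) i).val) =
            helper84_E2 (fun i => 1 + i.val - (e i).val) := by
          funext i
          rcases Fin.eq_zero_or_eq_succ i with rfl | ⟨x, rfl⟩
          · rw [h0, hp1]
            simp [helper84_E2]
          · rw [hs' x]
            unfold helper84_E2
            rw [Fin.cons_succ]
            simp only [Fin.val_succ]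
            split_ifs <;> omega
        rw [hfun, hsign, if_congr hcond rfl rfl, if_neg hp0]
        split_ifs <;> simp
      · rw [if_neg hp1]
        apply if_neg
        intro h
        have := h 0
        rw [h0] at this
        simp only [Fin.val_zero] at this
        have hp0' : p.val ≠ 0 := fun h => hp0 (Fin.ext h)
        omega
  simp_rw [key]
  have hpull : ∀ p : Fin (n + 1),
      (∑ e : Equiv.Perm (Fin n), if p = 0 then (if ∀ i : Fin n, (e i).val ≤ 1 + i.val then
          ((Equiv.Perm.sign e : ℤ) : ℂ) * Φ (helper84_E1 (fun i => 1 + i.val - (e i).val)) else 0)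
      else if p.val = 1 then -(if ∀ i : Fin n, (e i).val ≤ 1 + i.val then
          ((Equiv.Perm.sign e : ℤ) : ℂ) * Φ (helper84_E2 (fun i => 1 + i.val - (e i).val)) else 0)
      else 0) =
      if p = 0 then (∑ e : Equiv.Perm (Fin n), if ∀ i : Fin n, (e i).val ≤ 1 + i.val then
          ((Equiv.Perm.sign e : ℤ) : ℂ) * Φ (helper84_E1 (fun i => 1 + i.val - (e i).val)) else 0)
      else if p.val = 1 then -(∑ e : Equiv.Perm (Fin n), if ∀ i : Fin n, (e i).val ≤ 1 + i.val then
          ((Equiv.Perm.sign e : ℤ) : ℂ) * Φ (helper84_E2 (fun i => 1 + i.val - (e i).val)) else 0)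
      else 0 := by
    intro p
    by_cases hp0 : p = 0
    · simp only [if_pos hp0]
    · by_cases hp1 : p.val = 1
      · simp only [if_neg hp0, if_pos hp1, Finset.sum_neg_distrib]
      · simp only [if_neg hp0, if_neg hp1, Finset.sum_const_zero]
  simp_rw [hpull]
  rw [helper84_sum_fin_split]
  by_cases hn : n = 0
  · simp only [if_pos hn]
    ring
  · simp only [if_neg hn]
    ring

/-- COMB (L), racer copy by helper84. -/
theorem helper84_comb_perm {n : ℕ} (Φ : (Fin n → ℕ) → ℂ) :
    (∑ κ : Equiv.Perm (Fin n), if ∀ i : Fin n, (κ i).val ≤ 1 + i.val then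
        ((Equiv.Perm.sign κ : ℤ) : ℂ) * Φ (fun i => 1 + i.val - (κ i).val) else 0) =
    ∑ D ∈ endSets n, (-1 : ℂ) ^ (n - D.card) * Φ (compOf D) := by
  induction n with
  | zero =>
    have hE : endSets 0 = {∅} := by
      ext D
      rw [Finset.mem_singleton, helper84_mem_endSets]
      constructor
      · intro _
        exact Finset.eq_empty_of_isEmpty D
      · intro _ i
        exact i.elim0
    rw [hE, Finset.sum_singleton]
    have hΦ : ∀ f g : Fin 0 → ℕ, Φ f = Φ g := fun f g => congrArg Φ (Subsingleton.elim f g)
    simp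
    exact hΦ _ _
  | succ n ih =>
    rw [helper84_S_succ, helper84_T_succ]
    rw [ih (fun g => Φ (helper84_E1 g)), ih (fun g => Φ (helper84_E2 g))]

end Cfsg.Agent.Lib.helper45.SV
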