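import Mathlib
import Cfsg.Agent.Lib.helper45.SVDefs

set_option autoImplicit false
open scoped MatrixGroups

namespace Cfsg.Agent.Lib.helper45.SV

/-- degree of a monic polynomial as a sum over its normalized factors. -/
theorem helper84_natDegree_eq_sum_factors {F : Type*} [Field F] [DecidableEq F] (P : Polynomial F)
    (hP : P ≠ 0) :
    P.natDegree = ∑ f ∈ (UniqueFactorizationMonoid.normalizedFactors P).toFinset,
      (UniqueFactorizationMonoid.normalizedFactors P).count f * f.natDegree := by
  have hassoc := UniqueFactorizationMonoid.prod_normalizedFactors hP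
  have h1 : P.natDegree = (UniqueFactorizationMonoid.normalizedFactors P).prod.natDegree :=
    (Polynomial.natDegree_eq_of_degree_eq (Polynomial.degree_eq_degree_of_associated hassoc)).symm
  have h0 : (0 : Polynomial F) ∉ UniqueFactorizationMonoid.normalizedFactors P :=
    UniqueFactorizationMonoid.zero_notMem_normalizedFactors P
  rw [h1, Polynomial.natDegree_multiset_prod _ h0, Finset.sum_multiset_map_count]
  simp [smul_eq_mul]

/-- SIGN (M), racer copy by helper84. -/
theorem helper84_sign_arith {F : Type*} [Field F] [DecidableEq F] (q : ℕ) (P : Polynomial F) (hP : P.Monic) :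
    (((-1 : ℤ) ^ P.natDegree * gval q P : ℤ) : ℂ) =
      ∏ f ∈ (UniqueFactorizationMonoid.normalizedFactors P).toFinset,
        (-1 : ℂ) ^ ((f.natDegree - 1) * (UniqueFactorizationMonoid.normalizedFactors P).count f) *
          (q : ℂ) ^ (f.natDegree * (UniqueFactorizationMonoid.normalizedFactors P).count f *
            ((UniqueFactorizationMonoid.normalizedFactors P).count f - 1) / 2) := by
  have hP0 : P ≠ 0 := hP.ne_zero
  have hdeg := helper84_natDegree_eq_sum_factors P hP0
  have hpow : ((-1 : ℤ) ^ P.natDegree) =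
      ∏ f ∈ (UniqueFactorizationMonoid.normalizedFactors P).toFinset,
        (-1 : ℤ) ^ ((UniqueFactorizationMonoid.normalizedFactors P).count f * f.natDegree) := by
    rw [Finset.prod_pow_eq_pow_sum, ← hdeg]
  unfold gval
  rw [hpow, ← Finset.prod_mul_distrib]
  push_cast
  refine Finset.prod_congr rfl ?_
  intro f hf
  have hfm : f ∈ UniqueFactorizationMonoid.normalizedFactors P := Multiset.mem_toFinset.mp hf
  have hirr : Irreducible f := UniqueFactorizationMonoid.irreducible_of_normalized_factor f hfm
  have hd : 1 ≤ f.natDegree := hirr.natDegree_pos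
  have hsign : ∀ c d : ℕ, 1 ≤ d → (-1 : ℂ) ^ (c * d) * (-1 : ℂ) ^ c = (-1 : ℂ) ^ ((d - 1) * c) := by
    intro c d hd
    obtain ⟨e, rfl⟩ : ∃ e, d = e + 1 := ⟨d - 1, by omega⟩
    have : c * (e + 1) + c = (e + 1 - 1) * c + 2 * c := by
      simp only [Nat.add_sub_cancel]; ring
    rw [← pow_add, this, pow_add, pow_mul (-1 : ℂ) 2 c]
    simp
  rw [← hsign _ _ hd]
  ring

end Cfsg.Agent.Lib.helper45.SV
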