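import Mathlib
import Cfsg.Agent.Lib.helper45.SVDefs

set_option autoImplicit false
open scoped MatrixGroups

namespace Cfsg.Agent.Lib.helper45.SV

/-- SS (M), racer copy by helper84. -/
theorem helper84_toLin_semisimple {F : Type*} [Field F] [Fintype F] (p : ℕ) [Fact p.Prime] [CharP F p] {n : ℕ}
    (x : GL (Fin n) F) (hx : (orderOf x).Coprime p) :
    Module.End.IsSemisimple (Matrix.toLin' (x : Matrix (Fin n) (Fin n) F)) := by
  classical
  have hp : p.Prime := Fact.out
  set k := orderOf x with hk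
  have hkF : (k : F) ≠ 0 := by
    intro h0
    have hdvd : p ∣ k := (CharP.cast_eq_zero_iff F p k).mp h0
    have h1 : p ∣ Nat.gcd k p := Nat.dvd_gcd hdvd dvd_rfl
    rw [Nat.Coprime] at hx
    rw [hx] at h1
    exact hp.one_lt.ne' (Nat.dvd_one.mp h1)
  have hsep : (Polynomial.X ^ k - 1 : Polynomial F).Separable :=
    Polynomial.X_pow_sub_one_separable_iff.mpr hkF
  have hxk : x ^ k = 1 := pow_orderOf_eq_one x
  have hM : (x : Matrix (Fin n) (Fin n) F) ^ k = 1 := by
    have := congrArg (fun y : GL (Fin n) F => (y : Matrix (Fin n) (Fin n) F)) hxk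
    simpa using this
  have hL : (Matrix.toLin' (x : Matrix (Fin n) (Fin n) F)) ^ k = 1 := by
    rw [← Matrix.toLin'_pow, hM, Matrix.toLin'_one]
    rfl
  apply Module.End.isSemisimple_of_squarefree_aeval_eq_zero hsep.squarefree
  simp [hL]

end Cfsg.Agent.Lib.helper45.SV
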