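import Mathlib
import Cfsg.Agent.Lib.helper24.SfoDefs
import Cfsg.Agent.Lib.helper84.SfuUFIXcore

/-!
# S5981 piece OFREE (helper84, racing copy): a fixed-point-free similarity of prime order
`r ∤ q - 1` acts freely on the vectors with `Q v = 1`.
-/

set_option autoImplicit false

namespace Cfsg.Agent.Lib.helper24

open Module Matrix Cfsg.Geo

/-- A similarity of a quadratic form whose `r`-th power is the identity, `r ∤ q - 1`, is an
isometry as soon as some vector has `Q v ≠ 0`. -/
theorem helper84_sfo_isom_of_pow {F : Type*} [Field F] [Fintype F] {n : ℕ}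
    (Q : (Fin n → F) → F) (r : ℕ) [Fact r.Prime]
    (hnd : ¬ r ∣ Fintype.card F - 1) (g : GL (Fin n) F)
    (hg : g ∈ quadSimilarityGroup Q) (hgr : (g : Matrix (Fin n) (Fin n) F) ^ r = 1)
    (v₀ : Fin n → F) (hv₀ : Q v₀ ≠ 0) :
    ∀ v, Q ((g : Matrix (Fin n) (Fin n) F) *ᵥ v) = Q v := by
  classical
  have hr : r.Prime := Fact.out
  obtain ⟨c, hc⟩ := hg
  have hck : ∀ (k : ℕ) (v : Fin n → F),
      Q (((g : Matrix (Fin n) (Fin n) F) ^ k) *ᵥ v) = (c : F) ^ k * Q v := by
    intro k
    induction k with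
    | zero => intro v; simp
    | succ k ih =>
      intro v
      rw [pow_succ', ← Matrix.mulVec_mulVec, hc, ih, pow_succ']
      ring
  have h1 := hck r v₀
  rw [hgr, Matrix.one_mulVec] at h1
  have h2 : (c : F) ^ r = 1 := by
    have : ((c : F) ^ r - 1) * Q v₀ = 0 := by rw [sub_mul, one_mul, ← h1, sub_self]
    rcases mul_eq_zero.mp this with h | h
    · exact sub_eq_zero.mp h
    · exact absurd h hv₀
  have h3 : c ^ r = 1 := by
    apply Units.ext
    rw [Units.val_pow_eq_pow_val, h2, Units.val_one]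
  have h4 : orderOf c ∣ r := orderOf_dvd_of_pow_eq_one h3
  have h5 : orderOf c ∣ Fintype.card F - 1 := by
    rw [← Fintype.card_units]
    exact orderOf_dvd_card
  have hc1 : c = 1 := by
    rcases (Nat.dvd_prime hr).mp h4 with h | h
    · exact orderOf_eq_one_iff.mp h
    · rw [h] at h5
      exact absurd h5 hnd
  intro v
  rw [hc, hc1, Units.val_one, one_mul]

/-- OFREE (racing copy) -/
theorem helper84_sfo_free_count {F : Type*} [Field F] [Fintype F] {n : ℕ} (h2 : (2 : F) ≠ 0)
    (Q : (Fin n → F) → F) (hQ : IsNondegenerateQuadraticForm Q) (r : ℕ) [Fact r.Prime]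
    (hrF : (r : F) ≠ 0) (hnd : ¬ r ∣ Fintype.card F - 1) (g : GL (Fin n) F)
    (hg : g ∈ quadSimilarityGroup Q) (hgr : (g : Matrix (Fin n) (Fin n) F) ^ r = 1)
    (hker : LinearMap.ker (Matrix.toLin' (g : Matrix (Fin n) (Fin n) F) - 1) = ⊥) :
    r ∣ sfoCount Q 1 := by
  classical
  by_cases hex : ∃ v, Q v = 1
  · obtain ⟨v₀, hv₀⟩ := hex
    have hiso := helper84_sfo_isom_of_pow Q r hnd g hg hgr v₀ (by rw [hv₀]; exact one_ne_zero)
    have hQ0 : Q 0 = 0 := by
      have := hQ.smul 0 0
      rw [zero_smul] at this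
      rw [this]
      ring
    have hfix : ∀ v : Fin n → F, (g : Matrix (Fin n) (Fin n) F) *ᵥ v = v → v = 0 := by
      intro v hv
      have hmem : v ∈ LinearMap.ker (Matrix.toLin' (g : Matrix (Fin n) (Fin n) F) - 1) := by
        rw [LinearMap.mem_ker, LinearMap.sub_apply, Matrix.toLin'_apply, Module.End.one_apply,
          hv, sub_self]
      rw [hker] at hmem
      exact (Submodule.mem_bot F).mp hmem
    obtain ⟨τ, hτ⟩ : ∃ τ : Function.End {v : Fin n → F // Q v = 1},
        τ = fun v => ⟨(g : Matrix (Fin n) (Fin n) F) *ᵥ v.1, by rw [hiso]; exact v.2⟩ :=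
      ⟨_, rfl⟩
    have hτk : ∀ (k : ℕ) (v : {v : Fin n → F // Q v = 1}),
        ((τ ^ k) v).1 = ((g : Matrix (Fin n) (Fin n) F) ^ k) *ᵥ v.1 := by
      intro k
      induction k with
      | zero => intro v; rw [pow_zero, pow_zero, Matrix.one_mulVec]; rfl
      | succ k ih =>
        intro v
        rw [pow_succ', pow_succ', ← Matrix.mulVec_mulVec, ← ih v]
        show (τ ((τ ^ k) v)).1 = _
        rw [hτ]
    have hτr : τ ^ r = 1 := by
      funext v
      apply Subtype.ext
      rw [hτk, hgr, Matrix.one_mulVec]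
      rfl
    have hτfix : ∀ v : {v : Fin n → F // Q v = 1}, τ v ≠ v := by
      intro v hv
      have h1 : (g : Matrix (Fin n) (Fin n) F) *ᵥ v.1 = v.1 := by
        have := congrArg Subtype.val hv
        rw [hτ] at this
        exact this
      have h3 := v.2
      rw [hfix v.1 h1, hQ0] at h3
      exact zero_ne_one h3
    have hdvd := helper84_dvd_card_of_no_fixed r τ hτr hτfix
    unfold sfoCount
    rw [Nat.card_eq_fintype_card]
    exact hdvd
  · unfold sfoCount
    have : IsEmpty {v : Fin n → F // Q v = 1} := ⟨fun v => hex ⟨v.1, v.2⟩⟩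
    rw [Nat.card_of_isEmpty]
    exact dvd_zero r

end Cfsg.Agent.Lib.helper24
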