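import Mathlib
import Cfsg.Prelude.Def_Blocks
import Cfsg.Agent.Lib.helper84.Hecke
import Cfsg.Agent.Lib.helper84.MinMax
import Cfsg.Agent.Lib.helper84.BlockOrth
import Cfsg.Agent.Lib.helper79.DegSq
import Cfsg.Agent.Lib.helper20.NormalIdem

/-!
# A weak form of Green's theorem on defect groups (helper84)

For a `p`-block `B` of defect `d` and a Sylow `p`-subgroup `S` there is a `p`-regular `y` with
`blockCoeff B y` a unit, `S ∩ y S y⁻¹ = C_S(y)` of order `p ^ d`, a Sylow `p`-subgroup of
`C_G(y)` (`weak_green`).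

The proof uses the sums `cosetCoeff B S g = ∑_{v ∈ S} blockCoeff B (g v)`:
* `exists_cosetCoeff_eq`: `p ^ d * cosetCoeff B S g = |S ∩ g⁻¹ S g| * r` with `r` a local
  integer (integrality of Hecke operators);
* `sum_cosetCoeff_mul`: `∑_g cosetCoeff B S g * blockCoeff B g⁻¹ = blockCoeff B 1`.
-/

set_option autoImplicit false

namespace Cfsg.Agent.Lib.helper84

open Cfsg Cfsg.Agent.Lib.helper20 Cfsg.Agent.Lib.helper80 Cfsg.Agent.Lib.helper81
open scoped ComplexConjugate

universe u

section WeakGreen

variable {G : Type u} [Group G]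

/-- The subgroup `S ∩ g⁻¹ S g`. -/
def heckeInter (S : Subgroup G) (g : G) : Subgroup G :=
  S ⊓ S.map (MulAut.conj g⁻¹).toMonoidHom

theorem mem_heckeInter (S : Subgroup G) (g s : G) :
    s ∈ heckeInter S g ↔ s ∈ S ∧ g * s * g⁻¹ ∈ S := by
  unfold heckeInter
  rw [Subgroup.mem_inf, Subgroup.mem_map_equiv]
  simp

theorem inf_centralizer_le_heckeInter (S : Subgroup G) (g : G) :
    S ⊓ Subgroup.centralizer ({g} : Set G) ≤ heckeInter S g := by
  intro s hs
  rw [Subgroup.mem_inf] at hs
  rw [mem_heckeInter]
  refine ⟨hs.1, ?_⟩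
  have h1 := Subgroup.mem_centralizer_singleton_iff.mp hs.2
  have h2 : g * s * g⁻¹ = s := by
    rw [← h1]
    group
  rw [h2]
  exact hs.1

variable [Fintype G]

/-- The sum of the coefficients of the block idempotent over the coset `g S`. -/
noncomputable def cosetCoeff (B : Set (IrrCharacter G)) (S : Subgroup G) [Fintype S] (g : G) : ℂ :=
  ∑ v : S, blockCoeff B (g * (v : G))

theorem cosetCoeff_conj (B : Set (IrrCharacter G)) (S : Subgroup G) [Fintype S] (s : G)
    (hs : s ∈ S) (g : G) : cosetCoeff B S (s * g * s⁻¹) = cosetCoeff B S g := by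
  unfold cosetCoeff
  rw [← Equiv.sum_comp (MulAut.conj (⟨s, hs⟩ : S)).toEquiv
    (fun v : S => blockCoeff B (s * g * s⁻¹ * (v : G)))]
  refine Finset.sum_congr rfl fun v _ => ?_
  have h1 : s * g * s⁻¹ * (((MulAut.conj (⟨s, hs⟩ : S)).toEquiv v : S) : G) =
      s * (g * (v : G)) * s⁻¹ := by
    show s * g * s⁻¹ * (s * (v : G) * s⁻¹) = s * (g * (v : G)) * s⁻¹
    group
  rw [h1]
  exact blockCoeff_classFun B _ s

variable {p : ℕ} [Fact p.Prime] {M : Ideal AlgInt} {B : Set (IrrCharacter G)}

omit [Fact p.Prime] in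
theorem memLocalRing_cosetCoeff (hM : IsPModular p M) (hB : IsPBlock M B) (S : Subgroup G)
    [Fintype S] (g : G) : MemLocalRing M (cosetCoeff B S g) := by
  have hMp := isPrime_of_isPModular hM
  unfold cosetCoeff
  exact memLocalRing_sum hMp _ _ (fun v _ => memLocalRing_blockCoeff hMp hB _)

open Classical in
/-- `p ^ d * ∑_{v ∈ S} blockCoeff B (g v) = |S ∩ g⁻¹ S g| * r` with `r` a local integer. -/
theorem exists_cosetCoeff_eq (hM : IsPModular p M) (B : Set (IrrCharacter G)) (S : Subgroup G)
    [Fintype S] (g : G) :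
    ∃ r : ℂ, MemLocalRing M r ∧ (p ^ blockDefect p B : ℂ) * cosetCoeff B S g =
      (Nat.card (heckeInter S g) : ℂ) * r := by
  have hp := (Fact.out : p.Prime)
  have hMp := isPrime_of_isPModular hM
  choose β hβint hβ using fun χ : IrrCharacter G => exists_isIntegral_sum_irr_hecke χ S g
  set a := (Nat.card G).factorization p with ha
  set d := blockDefect p B with hd
  set m := Nat.card G / p ^ a with hm
  have hGsplit : p ^ a * m = Nat.card G := Nat.ordProj_mul_ordCompl_eq_self _ p
  have hmp : ¬ p ∣ m := Nat.not_dvd_ordCompl hp Nat.card_pos.ne'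
  have hda : d ≤ a := by
    rw [hd]
    unfold blockDefect
    exact Nat.sub_le _ _
  set k : IrrCharacter G → ℕ := fun χ => charDegree (χ : G → ℂ) / p ^ (a - d) with hk
  have hkeq : ∀ χ ∈ B, p ^ (a - d) * k χ = charDegree (χ : G → ℂ) := by
    intro χ hχ
    have h1 := Cfsg.Agent.Lib.helper79.factorization_add_defect (p := p) hχ
    have h2 : a - d ≤ (charDegree (χ : G → ℂ)).factorization p := by omega
    have h3 : p ^ (a - d) ∣ charDegree (χ : G → ℂ) :=
      (pow_dvd_pow p h2).trans (Nat.ordProj_dvd _ p)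
    exact Nat.mul_div_cancel' h3
  refine ⟨∑ χ : IrrCharacter G, if χ ∈ B then (k χ : ℂ) * conj (β χ) / (m : ℂ) else 0, ?_, ?_⟩
  · refine memLocalRing_sum hMp _ _ (fun χ _ => ?_)
    split_ifs
    · have hint : IsIntegral ℤ ((k χ : ℂ) * conj (β χ)) :=
        IsIntegral.mul (isIntegral_natCast _) (map_isIntegral_int (starRingEnd ℂ) (hβint χ))
      exact memLocalRing_div_natCast hM ⟨_, hint⟩ hmp
    · exact memLocalRing_zero hMp
  · have hm0 : (m : ℂ) ≠ 0 := by
      intro h
      apply hmp
      have : m = 0 := by exact_mod_cast h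
      rw [this]
      exact dvd_zero p
    have hpc : (p : ℂ) ≠ 0 := Nat.cast_ne_zero.mpr hp.ne_zero
    have hG : (Nat.card G : ℂ) = (p : ℂ) ^ a * (m : ℂ) := by exact_mod_cast hGsplit.symm
    have hpa : (p : ℂ) ^ a = (p : ℂ) ^ d * (p : ℂ) ^ (a - d) := by
      rw [← pow_add]
      congr 1
      omega
    have h1 : cosetCoeff B S g = (Nat.card G : ℂ)⁻¹ * ∑ χ : IrrCharacter G,
        if χ ∈ B then (χ : G → ℂ) 1 * conj ((Nat.card (heckeInter S g) : ℂ) * β χ) else 0 := by
      unfold cosetCoeff
      simp_rw [Cfsg.Agent.Lib.helper80.blockCoeff_eq_sum]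
      rw [← Finset.mul_sum, Finset.sum_comm]
      congr 1
      refine Finset.sum_congr rfl fun χ _ => ?_
      by_cases hχ : χ ∈ B
      · simp only [hχ, if_true]
        rw [← Finset.mul_sum, ← map_sum, hβ χ]
        rfl
      · simp [hχ]
    rw [h1, Finset.mul_sum, Finset.mul_sum, Finset.mul_sum]
    refine Finset.sum_congr rfl fun χ _ => ?_
    by_cases hχ : χ ∈ B
    · simp only [hχ, if_true]
      have h2 : ((χ : G → ℂ) 1) = (p : ℂ) ^ (a - d) * (k χ : ℂ) := by
        rw [irr_one_eq_charDegree]
        exact_mod_cast (hkeq χ hχ).symm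
      rw [h2, map_mul, Complex.conj_natCast, hG, hpa]
      have hpd : (p : ℂ) ^ d ≠ 0 := pow_ne_zero _ hpc
      have hpad : (p : ℂ) ^ (a - d) ≠ 0 := pow_ne_zero _ hpc
      field_simp
    · simp [hχ]

/-- `∑_g (∑_{v ∈ S} blockCoeff B (g v)) * blockCoeff B g⁻¹ = blockCoeff B 1` for a `p`-subgroup
`S`. -/
theorem sum_cosetCoeff_mul (hM : IsPModular p M) (hB : IsPBlock M B) (S : Subgroup G)
    [Fintype S] (hS : IsPGroup p S) :
    ∑ g : G, cosetCoeff B S g * blockCoeff B g⁻¹ = blockCoeff B 1 := by
  classical
  have h1 : ∀ v : G, ∑ g : G, blockCoeff B (g * v) * blockCoeff B g⁻¹ = blockCoeff B v := by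
    intro v
    have h2 := conv_blockCoeff B B v
    rw [Set.inter_self] at h2
    rw [← h2]
    unfold Cfsg.Agent.Lib.helper81.conv
    rw [← Equiv.sum_comp (Equiv.mulRight v)
      (fun x : G => blockCoeff B x * blockCoeff B (x⁻¹ * v))]
    refine Finset.sum_congr rfl fun g _ => ?_
    simp only [Equiv.coe_mulRight]
    congr 1
    have h3 := blockCoeff_classFun B ((g * v)⁻¹ * v) (g * v)
    rw [← h3]
    congr 1
    group
  unfold cosetCoeff
  simp_rw [Finset.sum_mul]
  rw [Finset.sum_comm]
  simp_rw [h1]
  rw [Finset.sum_eq_single (1 : S)]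
  · rfl
  · intro v _ hv
    exact blockCoeff_eq_zero_of_dvd_orderOf hM hB _
      (Cfsg.Agent.Lib.helper79.dvd_orderOf_of_isPGroup hS v hv)
  · intro h
    exact absurd (Finset.mem_univ _) h

/-- Orbit decomposition for the conjugation action of a subgroup `S`: a sum over the group of a
function `w` invariant under conjugation by `S` lies in the local ideal as soon as every
`|S : C_S(y)| * w y` does. -/
theorem memLocalIdeal_sum_of_conj_invariant (hMp : M.IsPrime) (S : Subgroup G) [Fintype S]
    (w : G → ℂ) (hw : ∀ s ∈ S, ∀ g : G, w (s * g * s⁻¹) = w g)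
    (h : ∀ y : G, MemLocalIdeal M
      ((Nat.card S : ℂ) / (Nat.card (S ⊓ Subgroup.centralizer ({y} : Set G) : Subgroup G) : ℂ)
        * w y)) :
    MemLocalIdeal M (∑ g : G, w g) := by
  classical
  let _ : MulAction S G := MulAction.compHom G ((MulAut.conj : G →* MulAut G).comp S.subtype)
  have hsmul : ∀ (s : S) (g : G), s • g = (s : G) * g * (s : G)⁻¹ := fun s g => rfl
  have : Fintype (MulAction.orbitRel.Quotient S G) := Fintype.ofFinite _
  rw [← Finset.sum_fiberwise Finset.univ
    (fun g : G => (Quotient.mk'' g : MulAction.orbitRel.Quotient S G)) w]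
  refine memLocalIdeal_sum hMp _ _ (fun ω _ => ?_)
  set y : G := Quotient.out ω with hy
  have hconst : ∀ g ∈ Finset.univ.filter
      (fun g : G => (Quotient.mk'' g : MulAction.orbitRel.Quotient S G) = ω), w g = w y := by
    intro g hg
    rw [Finset.mem_filter] at hg
    have h1 : (Quotient.mk'' g : MulAction.orbitRel.Quotient S G) = Quotient.mk'' y := by
      rw [hg.2, hy]
      exact (Quotient.out_eq' ω).symm
    have h2 : g ∈ MulAction.orbit S y := by
      rw [← MulAction.orbitRel_apply]
      exact Quotient.exact' h1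
    obtain ⟨s, rfl⟩ := h2
    show w (s • y) = w y
    rw [hsmul]
    exact hw s s.2 y
  rw [Finset.sum_congr rfl hconst, Finset.sum_const, nsmul_eq_mul]
  -- the fibre is the orbit of `y`
  have hfib : (Finset.univ.filter
      (fun g : G => (Quotient.mk'' g : MulAction.orbitRel.Quotient S G) = ω)).card =
      Nat.card (MulAction.orbit S y) := by
    rw [Nat.card_eq_fintype_card, ← Fintype.card_subtype]
    refine Fintype.card_congr (Equiv.subtypeEquivRight fun g => ?_)
    rw [← MulAction.orbitRel_apply]
    constructor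
    · intro hg
      have h1 : (Quotient.mk'' g : MulAction.orbitRel.Quotient S G) = Quotient.mk'' y := by
        rw [hg, hy]
        exact (Quotient.out_eq' ω).symm
      exact Quotient.exact' h1
    · intro hg
      have h1 : (Quotient.mk'' g : MulAction.orbitRel.Quotient S G) = Quotient.mk'' y :=
        Quotient.sound' hg
      rw [h1, hy]
      exact Quotient.out_eq' ω
  have hstab : MulAction.stabilizer S y =
      (S ⊓ Subgroup.centralizer ({y} : Set G)).subgroupOf S := by
    ext s
    rw [MulAction.mem_stabilizer_iff, hsmul, Subgroup.mem_subgroupOf, Subgroup.mem_inf,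
      Subgroup.mem_centralizer_singleton_iff]
    constructor
    · intro h1
      refine ⟨s.2, ?_⟩
      calc (s : G) * y = ((s : G) * y * (s : G)⁻¹) * (s : G) := by group
        _ = y * (s : G) := by rw [h1]
    · intro h1
      rw [h1.2]
      group
  have hos := MulAction.card_orbit_mul_card_stabilizer_eq_card_group S y
  have hstabcard : Nat.card (MulAction.stabilizer S y) =
      Nat.card (S ⊓ Subgroup.centralizer ({y} : Set G) : Subgroup G) := by
    rw [hstab]
    exact Nat.card_congr (Subgroup.subgroupOfEquivOfLe inf_le_left).toEquiv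
  have hos' : Nat.card (MulAction.orbit S y) *
      Nat.card (S ⊓ Subgroup.centralizer ({y} : Set G) : Subgroup G) = Nat.card S := by
    rw [← hstabcard]
    simpa [Nat.card_eq_fintype_card] using hos
  have hc0 : (Nat.card (S ⊓ Subgroup.centralizer ({y} : Set G) : Subgroup G) : ℂ) ≠ 0 := by
    exact_mod_cast Nat.card_pos.ne'
  have h3 : ((Finset.univ.filter
      (fun g : G => (Quotient.mk'' g : MulAction.orbitRel.Quotient S G) = ω)).card : ℂ) =
      (Nat.card S : ℂ) / (Nat.card (S ⊓ Subgroup.centralizer ({y} : Set G) : Subgroup G) : ℂ) := by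
    rw [hfib, eq_div_iff hc0]
    exact_mod_cast hos'
  rw [h3]
  exact h y

omit [Fintype G] in
theorem centralizer_singleton_inv (g : G) :
    Subgroup.centralizer ({g⁻¹} : Set G) = Subgroup.centralizer ({g} : Set G) := by
  ext x
  rw [Subgroup.mem_centralizer_singleton_iff, Subgroup.mem_centralizer_singleton_iff]
  constructor
  · intro h
    calc x * g = g * (g⁻¹ * x) * g := by group
      _ = g * (x * g⁻¹) * g := by rw [h]
      _ = g * x := by group
  · intro h
    calc x * g⁻¹ = g⁻¹ * (g * x) * g⁻¹ := by group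
      _ = g⁻¹ * (x * g) * g⁻¹ := by rw [h]
      _ = g⁻¹ * x := by group

open Classical in
/-- A weak form of Green's theorem: for a block `B` of defect `d` and a Sylow `p`-subgroup `S`
there is a `p`-regular element `y` at which the block idempotent is a unit, with
`S ∩ y S y⁻¹ = C_S(y)` of order `p ^ d`, and `p ^ d` the `p`-part of `|C_G(y)|`. -/
theorem weak_green (hM : IsPModular p M) (hB : IsPBlock M B) (S : Sylow p G) :
    ∃ y : G, ¬ p ∣ orderOf y ∧ ¬ MemLocalIdeal M (blockCoeff B y) ∧
      (∀ s ∈ (S : Subgroup G), y⁻¹ * s * y ∈ (S : Subgroup G) → s * y = y * s) ∧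
      Nat.card ((S : Subgroup G) ⊓ Subgroup.centralizer ({y} : Set G) : Subgroup G) =
        p ^ blockDefect p B ∧
      (Nat.card (Subgroup.centralizer ({y} : Set G))).factorization p = blockDefect p B := by
  have hp := (Fact.out : p.Prime)
  have hMp := isPrime_of_isPModular hM
  have : Fintype (S : Subgroup G) := Fintype.ofFinite _
  set d := blockDefect p B with hd
  set a := (Nat.card G).factorization p with ha
  have hScard : Nat.card (S : Subgroup G) = p ^ a := Sylow.card_eq_multiplicity S
  have hSp : IsPGroup p (S : Subgroup G) := S.isPGroup'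
  have hda : d ≤ a := by
    rw [hd]
    unfold blockDefect
    exact Nat.sub_le _ _
  have hpc : (p : ℂ) ≠ 0 := Nat.cast_ne_zero.mpr hp.ne_zero
  have hgood : ∃ g : G, ¬ MemLocalIdeal M (blockCoeff B g⁻¹) ∧
      Nat.card ((S : Subgroup G) ⊓ Subgroup.centralizer ({g} : Set G) : Subgroup G) =
        Nat.card (heckeInter (S : Subgroup G) g) ∧
      p ^ d ≤ Nat.card (heckeInter (S : Subgroup G) g) := by
    by_contra hcon
    have hterm : ∀ y : G, MemLocalIdeal M
        ((Nat.card (S : Subgroup G) : ℂ) /
          (Nat.card ((S : Subgroup G) ⊓ Subgroup.centralizer ({y} : Set G) : Subgroup G) : ℂ) *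
          ((p ^ d : ℂ) / (Nat.card (S : Subgroup G) : ℂ) *
            (cosetCoeff B (S : Subgroup G) y * blockCoeff B y⁻¹))) := by
      intro y
      obtain ⟨r, hr, hreq⟩ := exists_cosetCoeff_eq hM B (S : Subgroup G) y
      set nC := Nat.card ((S : Subgroup G) ⊓ Subgroup.centralizer ({y} : Set G) : Subgroup G)
        with hnC
      set nQ := Nat.card (heckeInter (S : Subgroup G) y) with hnQ
      have hdvd : nC ∣ nQ := Subgroup.card_dvd_of_le (inf_centralizer_le_heckeInter _ y)
      obtain ⟨k, hk⟩ := hdvd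
      have hnC0 : (nC : ℂ) ≠ 0 := by exact_mod_cast Nat.card_pos.ne'
      have hnS0 : (Nat.card (S : Subgroup G) : ℂ) ≠ 0 := by exact_mod_cast Nat.card_pos.ne'
      have h1 : (p ^ d : ℂ) * cosetCoeff B (S : Subgroup G) y = (nC : ℂ) * (k : ℂ) * r := by
        rw [hreq, hk]
        push_cast
        ring
      have hrewrite : (Nat.card (S : Subgroup G) : ℂ) / (nC : ℂ) *
          ((p ^ d : ℂ) / (Nat.card (S : Subgroup G) : ℂ) *
            (cosetCoeff B (S : Subgroup G) y * blockCoeff B y⁻¹)) =
          (k : ℂ) * (r * blockCoeff B y⁻¹) := by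
        field_simp
        linear_combination (blockCoeff B y⁻¹) * h1
      rw [hrewrite]
      have hbl : MemLocalRing M (blockCoeff B y⁻¹) := memLocalRing_blockCoeff hMp hB _
      by_cases hJ : MemLocalIdeal M (blockCoeff B y⁻¹)
      · exact memLocalIdeal_mul_left hMp (memLocalRing_natCast hMp k)
          (memLocalIdeal_mul_left hMp hr hJ)
      · have hQp : IsPGroup p (heckeInter (S : Subgroup G) y) := hSp.to_le inf_le_left
        obtain ⟨j, hj⟩ := IsPGroup.iff_card.mp hQp
        rw [← hnQ] at hj
        by_cases hk1 : k = 1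
        · have hlt : nQ < p ^ d := by
            by_contra hge
            apply hcon
            refine ⟨y, hJ, ?_, not_lt.mp hge⟩
            rw [← hnC, ← hnQ, hk, hk1, mul_one]
          have hjd : j < d := by
            rw [hj] at hlt
            exact (Nat.pow_lt_pow_iff_right hp.one_lt).mp hlt
          have hrJ : MemLocalIdeal M r := by
            have h2 : r = ((p ^ (d - j) : ℕ) : ℂ) * cosetCoeff B (S : Subgroup G) y := by
              have hpj : ((p : ℂ) ^ j) ≠ 0 := pow_ne_zero _ hpc
              have h3 : (p ^ d : ℂ) = (p : ℂ) ^ j * (p : ℂ) ^ (d - j) := by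
                rw [← pow_add]
                congr 1
                omega
              have h4 : (nQ : ℂ) = (p : ℂ) ^ j := by
                rw [hj]
                push_cast
                rfl
              rw [h4, h3] at hreq
              push_cast
              apply mul_left_cancel₀ hpj
              rw [← hreq]
              ring
            rw [h2]
            exact memLocalIdeal_mul_right hMp
              (memLocalIdeal_natCast hM (dvd_pow_self p (by omega)))
              (memLocalRing_cosetCoeff hM hB _ y)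
          exact memLocalIdeal_mul_left hMp (memLocalRing_natCast hMp k)
            (memLocalIdeal_mul_right hMp hrJ hbl)
        · have hkdvd : k ∣ p ^ j := by
            rw [← hj, hk]
            exact Dvd.intro_left _ rfl
          obtain ⟨i, -, hi⟩ := (Nat.dvd_prime_pow hp).mp hkdvd
          have hi0 : i ≠ 0 := by
            rintro rfl
            exact hk1 (by simpa using hi)
          have hpk : p ∣ k := by
            rw [hi]
            exact dvd_pow_self p hi0
          exact memLocalIdeal_mul_right hMp (memLocalIdeal_natCast hM hpk)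
            (memLocalRing_mul hMp hr hbl)
    have hsum := memLocalIdeal_sum_of_conj_invariant hMp (S : Subgroup G)
      (fun g => (p ^ d : ℂ) / (Nat.card (S : Subgroup G) : ℂ) *
        (cosetCoeff B (S : Subgroup G) g * blockCoeff B g⁻¹)) (by
        intro s hs g
        rw [cosetCoeff_conj B _ s hs g]
        have : (s * g * s⁻¹)⁻¹ = s * g⁻¹ * s⁻¹ := by group
        rw [this, blockCoeff_classFun B g⁻¹ s]) hterm
    rw [← Finset.mul_sum, sum_cosetCoeff_mul hM hB _ hSp] at hsum
    -- the numerical contradiction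
    set T := ∑ χ ∈ B.toFinset, charDegree (χ : G → ℂ) ^ 2 with hT
    have hfac : T.factorization p = 2 * a - d :=
      Cfsg.Agent.Lib.helper79.factorization_sum_degree_sq hM hB
    have hT0 : T ≠ 0 := by
      obtain ⟨χ₀, hχ₀⟩ := Cfsg.Agent.Lib.helper81.isPBlock_nonempty hMp hB
      have h1 : charDegree (χ₀ : G → ℂ) ^ 2 ≤ T :=
        Finset.single_le_sum (f := fun χ : IrrCharacter G => charDegree (χ : G → ℂ) ^ 2)
          (fun _ _ => Nat.zero_le _) (Set.mem_toFinset.mpr hχ₀)
      have h0 := irr_charDegree_pos χ₀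
      have h2 : 0 < charDegree (χ₀ : G → ℂ) ^ 2 := pow_pos h0 2
      omega
    set t := T / p ^ (2 * a - d) with ht
    have hTsplit : p ^ (2 * a - d) * t = T := by
      rw [ht, ← hfac]
      exact Nat.ordProj_mul_ordCompl_eq_self _ p
    have htp : ¬ p ∣ t := by
      rw [ht, ← hfac]
      exact Nat.not_dvd_ordCompl hp hT0
    set m := Nat.card G / p ^ a with hm
    have hGsplit : p ^ a * m = Nat.card G := Nat.ordProj_mul_ordCompl_eq_self _ p
    have hb1 : blockCoeff B 1 = (T : ℂ) / (Nat.card G : ℂ) := by
      rw [Cfsg.Agent.Lib.helper80.blockCoeff_eq_sum, inv_mul_eq_div]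
      congr 1
      rw [hT, Nat.cast_sum, ← Finset.sum_filter]
      refine Finset.sum_congr ?_ ?_
      · ext χ
        simp
      · intro χ _
        rw [irr_one_eq_charDegree, Complex.conj_natCast]
        push_cast
        ring
    have hX : (p ^ d : ℂ) / (Nat.card (S : Subgroup G) : ℂ) * blockCoeff B 1 * (m : ℂ) =
        (t : ℂ) := by
      rw [hb1, hScard, ← hGsplit, ← hTsplit]
      push_cast
      have hpp : (p : ℂ) ^ (2 * a - d) * (p : ℂ) ^ d = (p : ℂ) ^ a * (p : ℂ) ^ a := by
        rw [← pow_add, ← pow_add]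
        congr 1
        omega
      have hpa : (p : ℂ) ^ a ≠ 0 := pow_ne_zero _ hpc
      have hm0 : (m : ℂ) ≠ 0 := by
        intro h
        have hmz : m = 0 := by exact_mod_cast h
        rw [hmz, mul_zero] at hGsplit
        exact Nat.card_pos.ne' hGsplit.symm
      field_simp
      linear_combination (t : ℂ) * hpp
    have hfin := memLocalIdeal_mul_right hMp hsum (memLocalRing_natCast hMp m)
    rw [hX] at hfin
    exact not_memLocalIdeal_natCast hM htp hfin
  obtain ⟨g, hgJ, hcard, hge⟩ := hgood
  have hreg : ¬ p ∣ orderOf g⁻¹ := by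
    intro h
    apply hgJ
    rw [blockCoeff_eq_zero_of_dvd_orderOf hM hB _ h]
    exact memLocalIdeal_zero hMp
  have hνle : (Nat.card (Subgroup.centralizer ({g⁻¹} : Set G))).factorization p ≤ d := by
    by_contra hlt
    exact hgJ (memLocalIdeal_blockCoeff_of_defect_lt hM hB g⁻¹ hreg (not_le.mp hlt))
  rw [centralizer_singleton_inv] at hνle
  have hCSp : IsPGroup p ((S : Subgroup G) ⊓ Subgroup.centralizer ({g} : Set G) : Subgroup G) :=
    hSp.to_le inf_le_left
  obtain ⟨j, hj⟩ := IsPGroup.iff_card.mp hCSp
  have hdj : d ≤ j := by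
    rw [← hcard, hj] at hge
    exact (Nat.pow_le_pow_iff_right hp.one_lt).mp hge
  have hjν : j ≤ (Nat.card (Subgroup.centralizer ({g} : Set G))).factorization p := by
    have h1 : p ^ j ∣ Nat.card (Subgroup.centralizer ({g} : Set G)) := by
      rw [← hj]
      exact Subgroup.card_dvd_of_le inf_le_right
    exact (hp.pow_dvd_iff_le_factorization Nat.card_pos.ne').mp h1
  have hjd : j = d := by omega
  have heq : (S : Subgroup G) ⊓ Subgroup.centralizer ({g} : Set G) =
      heckeInter (S : Subgroup G) g :=
    Subgroup.eq_of_le_of_card_ge (inf_centralizer_le_heckeInter _ g) (le_of_eq hcard.symm)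
  refine ⟨g⁻¹, hreg, hgJ, ?_, ?_, ?_⟩
  · intro s hs hs2
    rw [inv_inv] at hs2
    have h1 : s ∈ heckeInter (S : Subgroup G) g := (mem_heckeInter _ g s).mpr ⟨hs, hs2⟩
    rw [← heq, Subgroup.mem_inf, ← centralizer_singleton_inv,
      Subgroup.mem_centralizer_singleton_iff] at h1
    exact h1.2
  · rw [centralizer_singleton_inv, hj, hjd]
  · rw [centralizer_singleton_inv]
    omega

end WeakGreen

end Cfsg.Agent.Lib.helper84
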